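import Groth.Agent.H23.Leray
import Groth.Agent.H23.LESPlus

/-!
# Adapted classes of objects are right acyclic (additive functor, enough injectives)
-/

namespace Groth.Agent.H23.Adapted

open CategoryTheory CategoryTheory.Limits HomologicalComplex Groth.Agent.H23.DerPlus
  Groth.Agent.H23.Leray

universe w w' v v' u u'

variable {A : Type u} [Category.{v} A] [Abelian A] [HasDerivedCategory.{w} A] [EnoughInjectives A]
  {B : Type u'} [Category.{v'} B] [Abelian B] [HasDerivedCategory.{w'} B]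
  (F : A ⥤ B) [F.Additive]

omit [HasDerivedCategory.{w} A] [EnoughInjectives A] in
lemma sglMap_comp {X Y Z : A} (f : X ⟶ Y) (g : Y ⟶ Z) :
    sglMap (f ≫ g) = sglMap f ≫ sglMap g := by
  ext : 1
  exact (CochainComplex.singleFunctor A 0).map_comp f g

/-- The long exact sequence of `Hⁱ(R⁺F(-))` (additive `F`). -/
lemma les' (S : ShortComplex A) (hS : S.ShortExact) (i : ℤ) :
    ∃ (w : (Φ F i).map (sglMap S.f) ≫ (Φ F i).map (sglMap S.g) = 0)
      (δ : (Φ F i).obj (sgl S.X₃) ⟶ (Φ F (i + 1)).obj (sgl S.X₁))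
      (w₁ : (Φ F i).map (sglMap S.g) ≫ δ = 0) (w₂ : δ ≫ (Φ F (i + 1)).map (sglMap S.f) = 0),
      (ShortComplex.mk _ _ w).Exact ∧ (ShortComplex.mk _ _ w₁).Exact ∧
        (ShortComplex.mk _ _ w₂).Exact := by
  have hS' : (S.map (HomologicalComplex.single A (ComplexShape.up ℤ) 0)).ShortExact :=
    hS.map_of_exact _
  have hf : Mono ((CochainComplex.Plus.ι A).map (sglMap S.f)) := hS'.mono_f
  have hg : Epi ((CochainComplex.Plus.ι A).map (sglMap S.g)) := hS'.epi_g
  have hex : kernelSubobject ((CochainComplex.Plus.ι A).map (sglMap S.g)) =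
      imageSubobject ((CochainComplex.Plus.ι A).map (sglMap S.f)) :=
    ((ShortComplex.exact_iff_image_eq_kernel _).1 hS'.exact).symm
  obtain ⟨h2, δ, h3, h1⟩ :=
    Groth.Agent.H23.LESPlus.lesPlus F (sglMap S.f) (sglMap S.g) hf hg hex i
  obtain ⟨w, e2⟩ := exact_of_kernel_eq_image _ _ h2
  obtain ⟨w₁, e3⟩ := exact_of_kernel_eq_image _ _ h3
  obtain ⟨w₂, e1⟩ := exact_of_kernel_eq_image _ _ h1
  exact ⟨w, δ, w₁, w₂, e2, e3, e1⟩

/-- `H⁰(F(X[0])) ≅ F(X)` through the derived category. -/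
noncomputable def τ (X : A) : (Ψ F 0).obj (sgl X) ≅ F.obj X :=
  ε F 0 (sgl X) ≪≫ (σ F).app X

lemma τ_naturality {X Y : A} (f : X ⟶ Y) :
    (Ψ F 0).map (sglMap f) ≫ (τ F Y).hom = (τ F X).hom ≫ F.map f := by
  have h1 := ε_naturality F 0 (sglMap f)
  have h2 : homologyMap ((F.mapHomologicalComplex (ComplexShape.up ℤ)).map (sglMap f).hom) 0 ≫
      (σ F).hom.app Y = (σ F).hom.app X ≫ F.map f := (σ F).hom.naturality f
  calc (Ψ F 0).map (sglMap f) ≫ (τ F Y).hom
      = ((Ψ F 0).map (sglMap f) ≫ (ε F 0 (sgl Y)).hom) ≫ (σ F).hom.app Y :=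
        (Category.assoc _ _ _).symm
    _ = ((ε F 0 (sgl X)).hom ≫
          homologyMap ((F.mapHomologicalComplex (ComplexShape.up ℤ)).map (sglMap f).hom) 0) ≫
          (σ F).hom.app Y := by rw [h1]
    _ = (ε F 0 (sgl X)).hom ≫
          (homologyMap ((F.mapHomologicalComplex (ComplexShape.up ℤ)).map (sglMap f).hom) 0 ≫
          (σ F).hom.app Y) := Category.assoc _ _ _
    _ = (ε F 0 (sgl X)).hom ≫ ((σ F).hom.app X ≫ F.map f) := by
        rw [h2]
        rfl
    _ = (τ F X).hom ≫ F.map f := (Category.assoc _ _ _).symm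

/-- The comparison `F(X) ⟶ H⁰(R⁺F(X[0]))`. -/
noncomputable def θ (X : A) : F.obj X ⟶ (Φ F 0).obj (sgl X) :=
  (τ F X).inv ≫ (η F 0).app (sgl X)

lemma θ_naturality {X Y : A} (f : X ⟶ Y) :
    F.map f ≫ θ F Y = θ F X ≫ (Φ F 0).map (sglMap f) := by
  have h1 : F.map f ≫ (τ F Y).inv = (τ F X).inv ≫ (Ψ F 0).map (sglMap f) := by
    rw [Iso.comp_inv_eq, Category.assoc, Iso.eq_inv_comp]
    exact (τ_naturality F f).symm
  have h2 := (η F 0).naturality (sglMap f)
  unfold θ
  rw [← Category.assoc, h1, Category.assoc, h2, Category.assoc]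

lemma isIso_η_of_isIso_θ (X : A) (h : IsIso (θ F X)) : IsIso ((η F 0).app (sgl X)) := by
  have e : (η F 0).app (sgl X) = (τ F X).hom ≫ θ F X := by
    unfold θ
    rw [Iso.hom_inv_id_assoc]
  rw [e]
  infer_instance

lemma isIso_θ_of_injective (J : A) [Injective J] : IsIso (θ F J) := by
  have : IsIso ((η F 0).app (sgl J)) := by
    have : ∀ n, Injective ((sgl J).obj.X n) := fun n => by
      change Injective (((HomologicalComplex.single A (ComplexShape.up ℤ) 0).obj J).X n)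
      infer_instance
    change IsIso ((DerivedCategory.Plus.homologyFunctor B 0).map
      (F.rightDerivedFunctorPlusUnit.app ((HomotopyCategory.Plus.quotient A).obj (sgl J))))
    infer_instance
  unfold θ
  infer_instance

lemma isZero_Φ_neg (X : A) (i : ℤ) (hi : i < 0) : IsZero ((Φ F i).obj (sgl X)) := by
  let K : DerivedCategory.Plus A :=
    DerivedCategory.Plus.Qh.obj ((HomotopyCategory.Plus.quotient A).obj (sgl X))
  have hK : K.IsGE 0 := by
    rw [← DerivedCategory.Plus.isGE_ι_obj_iff]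
    have : (sgl X).obj.IsStrictlyGE 0 := by
      change CochainComplex.IsStrictlyGE ((CochainComplex.singleFunctor A 0).obj X) 0
      infer_instance
    have hQ : (DerivedCategory.Q.obj (sgl X).obj).IsGE 0 := inferInstance
    exact hQ
  have := Groth.Agent.S6620.result F K 0
  exact DerivedCategory.Plus.isZero_homology_of_isGE (F.rightDerivedFunctorPlus.obj K) 0 i hi

omit [HasDerivedCategory.{w} A] [EnoughInjectives A] in
lemma isZero_Ψ (X : A) (i : ℤ) (hi : i ≠ 0) : IsZero ((Ψ F i).obj (sgl X)) := by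
  have hX : IsZero (((F.mapHomologicalComplex (ComplexShape.up ℤ)).obj (sgl X).obj).X i) :=
    F.map_isZero (isZero_single_obj_X (ComplexShape.up ℤ) 0 X i hi)
  have hz : IsZero (((F.mapHomologicalComplex (ComplexShape.up ℤ)).obj (sgl X).obj).homology i) := by
    rw [← exactAt_iff_isZero_homology]
    exact ShortComplex.exact_of_isZero_X₂ _ hX
  exact hz.of_iso (ε F i (sgl X))

lemma isIso_unit_of (X : A) (h0 : IsIso ((η F 0).app (sgl X))) (hac : Acyc F X) :
    IsIso (F.rightDerivedFunctorPlusUnit.app ((HomotopyCategory.Plus.quotient A).obj (sgl X))) := by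
  rw [DerivedCategory.Plus.isIso_iff]
  intro n
  change IsIso ((η F n).app (sgl X))
  by_cases hn : n = 0
  · subst hn
    exact h0
  · have hΨ : IsZero ((Ψ F n).obj (sgl X)) := isZero_Ψ F X n hn
    have hΦ : IsZero ((Φ F n).obj (sgl X)) := by
      rcases lt_or_gt_of_ne hn with h | h
      · exact isZero_Φ_neg F X n h
      · exact hac n h
    exact ⟨⟨0, hΨ.eq_of_src _ _, hΦ.eq_of_src _ _⟩⟩

lemma mono_Φ_zero (S : ShortComplex A) (hS : S.ShortExact) :
    Mono ((Φ F 0).map (sglMap S.f)) := by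
  have key : ∀ j : ℤ, j = 0 → Mono ((Φ F j).map (sglMap S.f)) := by
    intro j hj
    obtain ⟨i, rfl⟩ : ∃ i, j = i + 1 := ⟨j - 1, by omega⟩
    obtain ⟨w, δ, w₁, w₂, ex2, ex3, ex1⟩ := les' F S hS i
    have hz : IsZero ((Φ F i).obj (sgl S.X₃)) := isZero_Φ_neg F S.X₃ i (by omega)
    exact ex1.mono_g (hz.eq_of_src _ _)
  exact key 0 rfl

omit [HasDerivedCategory.{w} A] [EnoughInjectives A] in
lemma ses_of_mono {X Y : A} (m : X ⟶ Y) [Mono m] :
    (ShortComplex.mk m (cokernel.π m) (cokernel.condition m)).ShortExact :=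
  { exact := ShortComplex.exact_of_g_is_cokernel _ (cokernelIsCokernel m)
    mono_f := inferInstanceAs (Mono m)
    epi_g := inferInstanceAs (Epi (cokernel.π m)) }

section Class

variable (I : ObjectProperty A)
  (h1 : ∀ X : A, ∃ (Y : A) (ι : X ⟶ Y), I Y ∧ Mono ι)
  (h2 : ∀ S : ShortComplex A, S.ShortExact → I S.X₁ → I S.X₂ → I S.X₃ ∧ (S.map F).ShortExact)

include h1 in
omit [HasDerivedCategory.{w} A] in
lemma exists_embedding (X : A) :
    ∃ (Y : A) (m : X ⟶ Y) (J : A) (j : X ⟶ J) (k : J ⟶ Y),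
      Injective J ∧ Mono m ∧ m = j ≫ k ∧ I Y := by
  obtain ⟨Y, k, hY, hk⟩ := h1 (Injective.under X)
  exact ⟨Y, Injective.ι X ≫ k, Injective.under X, Injective.ι X, k, inferInstance,
    mono_comp _ _, rfl, hY⟩

include h1 h2 in
lemma mono_θ (X : A) (hX : I X) : Mono (θ F X) := by
  obtain ⟨Y, m, J, j, k, hJ, hm, hmjk, hY⟩ := exists_embedding I h1 X
  obtain ⟨hR, hFS⟩ := h2 _ (ses_of_mono m) hX hY
  have hFm : Mono (F.map m) := hFS.mono_f
  have hFj : Mono (F.map j) := by
    have : Mono (F.map j ≫ F.map k) := by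
      rw [← F.map_comp, ← hmjk]
      exact hFm
    exact mono_of_mono (F.map j) (F.map k)
  have nat := θ_naturality F j
  have : IsIso (θ F J) := isIso_θ_of_injective F J
  have : Mono (θ F X ≫ (Φ F 0).map (sglMap j)) := by
    rw [← nat]
    infer_instance
  exact mono_of_mono (θ F X) ((Φ F 0).map (sglMap j))

include h1 h2 in
lemma isIso_θ (X : A) (hX : I X) : IsIso (θ F X) := by
  obtain ⟨Y, m, J, j, k, hJ, hm, hmjk, hY⟩ := exists_embedding I h1 X
  have hS := ses_of_mono m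
  obtain ⟨hR, hFS⟩ := h2 _ hS hX hY
  have hFm : Mono (F.map m) := hFS.mono_f
  have monoX : Mono (θ F X) := mono_θ F I h1 h2 X hX
  have monoR : Mono (θ F (cokernel m)) := mono_θ F I h1 h2 _ hR
  have isoJ : IsIso (θ F J) := isIso_θ_of_injective F J
  have hTm : (Φ F 0).map (sglMap m) = (Φ F 0).map (sglMap j) ≫ (Φ F 0).map (sglMap k) := by
    rw [hmjk, sglMap_comp, Functor.map_comp]
  let u : (Φ F 0).obj (sgl X) ⟶ F.obj Y := (Φ F 0).map (sglMap j) ≫ inv (θ F J) ≫ F.map k
  have hu : u ≫ θ F Y = (Φ F 0).map (sglMap m) := by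
    change ((Φ F 0).map (sglMap j) ≫ inv (θ F J) ≫ F.map k) ≫ θ F Y = _
    rw [Category.assoc, Category.assoc, θ_naturality F k, IsIso.inv_hom_id_assoc, hTm]
  obtain ⟨w, -⟩ := les' F _ hS 0
  have hup : u ≫ F.map (cokernel.π m) = 0 := by
    rw [← cancel_mono (θ F (cokernel m)), Category.assoc, θ_naturality F (cokernel.π m),
      ← Category.assoc, hu, zero_comp]
    exact w
  have : Mono ((ShortComplex.mk m (cokernel.π m) (cokernel.condition m)).map F).f := hFm
  let v : (Φ F 0).obj (sgl X) ⟶ F.obj X := hFS.exact.lift u hup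
  have hv : v ≫ F.map m = u := hFS.exact.lift_f u hup
  have monoT : Mono ((Φ F 0).map (sglMap m)) := mono_Φ_zero F _ hS
  have hvθ : v ≫ θ F X = 𝟙 _ := by
    rw [← cancel_mono ((Φ F 0).map (sglMap m)), Category.assoc, ← θ_naturality F m,
      ← Category.assoc, hv, hu, Category.id_comp]
  have : IsSplitEpi (θ F X) := IsSplitEpi.mk' ⟨v, hvθ⟩
  exact isIso_of_mono_of_isSplitEpi (θ F X)

include h1 h2 in
lemma isZero_Φ_pos : ∀ (n : ℕ) (i : ℤ), i = n → ∀ X : A, I X →
    IsZero ((Φ F (i + 1)).obj (sgl X)) := by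
  intro n
  induction n with
  | zero =>
    intro i hi X hX
    obtain ⟨Y, m, J, j, k, hJ, hm, hmjk, hY⟩ := exists_embedding I h1 X
    have hS := ses_of_mono m
    obtain ⟨hR, hFS⟩ := h2 _ hS hX hY
    obtain ⟨w, δ, w₁, w₂, ex2, ex3, ex1⟩ := les' F _ hS i
    have hzJ : IsZero ((Φ F (i + 1)).obj (sgl J)) := acyc_of_injective F J (i + 1) (by omega)
    have hTm : (Φ F (i + 1)).map (sglMap m) = 0 := by
      rw [hmjk, sglMap_comp, Functor.map_comp, hzJ.eq_of_tgt ((Φ F (i + 1)).map (sglMap j)) 0,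
        zero_comp]
    have hδe : Epi δ := ex1.epi_f hTm
    have hi0 : i = 0 := by simpa using hi
    subst hi0
    have isoY : IsIso (θ F Y) := isIso_θ F I h1 h2 Y hY
    have isoR : IsIso (θ F (cokernel m)) := isIso_θ F I h1 h2 _ hR
    have hFp : Epi (F.map (cokernel.π m)) := hFS.epi_g
    have nat := θ_naturality F (cokernel.π m)
    have : Epi (θ F Y ≫ (Φ F 0).map (sglMap (cokernel.π m))) := by
      rw [← nat]
      infer_instance
    have hTp : Epi ((Φ F 0).map (sglMap (cokernel.π m))) := epi_of_epi (θ F Y) _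
    have hδ0 : δ = 0 := by
      rw [← cancel_epi ((Φ F 0).map (sglMap (cokernel.π m))), comp_zero]
      exact w₁
    exact IsZero.of_epi_eq_zero δ hδ0
  | succ n ih =>
    intro i hi X hX
    obtain ⟨Y, m, J, j, k, hJ, hm, hmjk, hY⟩ := exists_embedding I h1 X
    have hS := ses_of_mono m
    obtain ⟨hR, hFS⟩ := h2 _ hS hX hY
    obtain ⟨w, δ, w₁, w₂, ex2, ex3, ex1⟩ := les' F _ hS i
    have hzJ : IsZero ((Φ F (i + 1)).obj (sgl J)) := acyc_of_injective F J (i + 1) (by omega)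
    have hTm : (Φ F (i + 1)).map (sglMap m) = 0 := by
      rw [hmjk, sglMap_comp, Functor.map_comp, hzJ.eq_of_tgt ((Φ F (i + 1)).map (sglMap j)) 0,
        zero_comp]
    have hδe : Epi δ := ex1.epi_f hTm
    have hzR : IsZero ((Φ F (i - 1 + 1)).obj (sgl (cokernel m))) :=
      ih (i - 1) (by omega) _ hR
    rw [show i - 1 + 1 = i by omega] at hzR
    exact IsZero.of_epi_eq_zero δ (hzR.eq_of_src _ _)

include h1 h2 in
theorem isIso_unit (X : A) (hX : I X) :
    IsIso (F.rightDerivedFunctorPlusUnit.app ((HomotopyCategory.Plus.quotient A).obj (sgl X))) := by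
  apply isIso_unit_of F X (isIso_η_of_isIso_θ F X (isIso_θ F I h1 h2 X hX))
  intro i hi
  obtain ⟨n, hn⟩ : ∃ n : ℕ, i - 1 = n := ⟨(i - 1).toNat, by omega⟩
  have hz := isZero_Φ_pos F I h1 h2 n (i - 1) hn X hX
  rw [show i - 1 + 1 = i by omega] at hz
  exact hz

end Class

end Groth.Agent.H23.Adapted
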