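import Mathlib

/-!
# Adapted classes and vanishing of right derived functors (helper23)

If `𝒪` is a class of objects stable under `⊞`, cogenerating, and such that `f` preserves acyclicity of
bounded below complexes with terms in `𝒪`, then members of `𝒪` are right `f`-acyclic.
The proof adds "disks" to an injective resolution so that all terms become members of `𝒪`.
-/

set_option autoImplicit false

namespace Groth.Agent.H23.AdaptedN

open CategoryTheory CategoryTheory.Limits ZeroObject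

universe v v' u u'

variable {A : Type u} [Category.{v} A] [Abelian A]

/-- middle-four interchange -/
noncomputable def midFour (a b c d : A) : (a ⊞ b) ⊞ (c ⊞ d) ≅ (a ⊞ c) ⊞ (b ⊞ d) where
  hom := biprod.lift (biprod.lift (biprod.fst ≫ biprod.fst) (biprod.snd ≫ biprod.fst))
    (biprod.lift (biprod.fst ≫ biprod.snd) (biprod.snd ≫ biprod.snd))
  inv := biprod.lift (biprod.lift (biprod.fst ≫ biprod.fst) (biprod.snd ≫ biprod.fst))
    (biprod.lift (biprod.fst ≫ biprod.snd) (biprod.snd ≫ biprod.snd))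
  hom_inv_id := by
    apply biprod.hom_ext <;> apply biprod.hom_ext <;> simp
  inv_hom_id := by
    apply biprod.hom_ext <;> apply biprod.hom_ext <;> simp

/-- associator -/
noncomputable def assocIso (a b c : A) : a ⊞ (b ⊞ c) ≅ (a ⊞ b) ⊞ c where
  hom := biprod.lift (biprod.lift biprod.fst (biprod.snd ≫ biprod.fst)) (biprod.snd ≫ biprod.snd)
  inv := biprod.lift (biprod.fst ≫ biprod.fst) (biprod.lift (biprod.fst ≫ biprod.snd) biprod.snd)
  hom_inv_id := by
    apply biprod.hom_ext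
    · simp
    · apply biprod.hom_ext <;> simp
  inv_hom_id := by
    apply biprod.hom_ext
    · apply biprod.hom_ext <;> simp
    · simp

/-- data exhibiting `T` as a direct summand of a member of `𝒪` -/
structure SummData (𝒪 : ObjectProperty A) (T : A) where
  C : A
  O : A
  mem : 𝒪 O
  iso : T ⊞ C ≅ O

section Summ

variable {𝒪 : ObjectProperty A} (h0 : ∀ X Y : A, 𝒪 X → 𝒪 Y → 𝒪 (X ⊞ Y))
  (h2 : ∀ X : A, ∃ (Y : A) (i : X ⟶ Y), 𝒪 Y ∧ Mono i)

noncomputable def SummData.ofMem {X : A} (hX : 𝒪 X) : SummData 𝒪 X :=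
  ⟨X, X ⊞ X, h0 X X hX hX, Iso.refl _⟩

noncomputable def SummData.compl {T : A} (h : SummData 𝒪 T) : SummData 𝒪 h.C :=
  ⟨T, h.O, h.mem, biprod.braiding _ _ ≪≫ h.iso⟩

noncomputable def SummData.biprod {T₁ T₂ : A} (h₁ : SummData 𝒪 T₁) (h₂ : SummData 𝒪 T₂) :
    SummData 𝒪 (T₁ ⊞ T₂) :=
  ⟨h₁.C ⊞ h₂.C, h₁.O ⊞ h₂.O, h0 _ _ h₁.mem h₂.mem,
    midFour _ _ _ _ ≪≫ biprod.mapIso h₁.iso h₂.iso⟩

noncomputable def SummData.zero : SummData 𝒪 (0 : A) :=
  ⟨(h2 0).choose, (h2 0).choose, (h2 0).choose_spec.choose_spec.1,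
    (isoZeroBiprod (isZero_zero A)).symm⟩

noncomputable def SummData.ofInjective (J : A) [Injective J] : SummData 𝒪 J := by
  let Y := (h2 J).choose
  let i : J ⟶ Y := (h2 J).choose_spec.choose
  have hY : 𝒪 Y := (h2 J).choose_spec.choose_spec.1
  haveI : Mono i := (h2 J).choose_spec.choose_spec.2
  haveI : IsSplitMono i :=
    IsSplitMono.mk' ⟨Injective.factorThru (𝟙 J) i, Injective.comp_factorThru _ _⟩
  exact ⟨cokernel i, Y, hY, (biprod.uniqueUpToIso J (cokernel i)
    (isBilimitBinaryBiconeOfIsSplitMonoOfCokernel (cokernelIsCokernel i))).symm⟩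

/-- the recursively defined sequence of complements -/
noncomputable def Pseq (E : CochainComplex A ℕ) (hE : ∀ k, SummData 𝒪 (E.X k)) (k : ℕ) :
    Σ T : A, SummData 𝒪 T :=
  Nat.rec (motive := fun _ => Σ T : A, SummData 𝒪 T) ⟨0, SummData.zero h2⟩
    (fun k prev => ⟨_, ((hE k).biprod h0 prev.2).compl⟩) k

include h0 h2 in
lemma exists_seq (E : CochainComplex A ℕ) (hE : ∀ k, SummData 𝒪 (E.X k)) :
    ∃ (P : ℕ → A) (O : ℕ → A) (_ : ∀ k, (E.X k ⊞ P k) ⊞ P (k + 1) ≅ O k),
      IsZero (P 0) ∧ ∀ k, 𝒪 (O k) :=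
  ⟨fun k => (Pseq h0 h2 E hE k).1,
   fun k => ((hE k).biprod h0 (Pseq h0 h2 E hE k).2).O,
   fun k => ((hE k).biprod h0 (Pseq h0 h2 E hE k).2).iso,
   isZero_zero A,
   fun k => ((hE k).biprod h0 (Pseq h0 h2 E hE k).2).mem⟩

end Summ

section Complexes

lemma exactAt_zero_of_mono {K : CochainComplex A ℕ} {g : K.X 0 ⟶ K.X 1}
    (hg : K.d 0 1 = g) (h : Mono g) : K.ExactAt 0 := by
  subst hg
  have hn : (ComplexShape.up ℕ).next 0 = 1 := by simp
  rw [HomologicalComplex.exactAt_iff' K 0 0 1 CochainComplex.prev_nat_zero hn]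
  rw [ShortComplex.exact_iff_mono _ (K.shape 0 0 (by simp))]
  exact h

lemma exactAt_succ_of_d {K : CochainComplex A ℕ} (k : ℕ) {f' : K.X k ⟶ K.X (k + 1)}
    {g' : K.X (k + 1) ⟶ K.X (k + 1 + 1)}
    (hf : K.d k (k + 1) = f') (hg : K.d (k + 1) (k + 1 + 1) = g') (w : f' ≫ g' = 0)
    (h : (ShortComplex.mk f' g' w).Exact) : K.ExactAt (k + 1) := by
  subst hf hg
  exact (HomologicalComplex.exactAt_iff' K k (k + 1) (k + 1 + 1) (CochainComplex.prev_nat_succ k)
    (CochainComplex.next ℕ (k + 1))).2 h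

lemma exact_disk (a b c d : A) :
    (ShortComplex.mk (biprod.snd ≫ biprod.inl : a ⊞ b ⟶ b ⊞ c)
      (biprod.snd ≫ biprod.inl : b ⊞ c ⟶ c ⊞ d) (by simp)).Exact := by
  rw [ShortComplex.exact_iff_exact_up_to_refinements]
  intro T x hx
  dsimp at x hx ⊢
  have h1 : x ≫ biprod.snd = 0 := by simpa using hx =≫ biprod.fst
  refine ⟨T, 𝟙 T, inferInstance, x ≫ biprod.fst ≫ biprod.inr, ?_⟩
  rw [Category.id_comp]
  apply biprod.hom_ext
  · simp
  · simp [h1]

lemma mono_disk {a b c : A} (ha : IsZero a) :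
    Mono (biprod.snd ≫ biprod.inl : a ⊞ b ⟶ b ⊞ c) := by
  apply Preadditive.mono_of_cancel_zero
  intro T x hx
  have h1 : x ≫ biprod.snd = 0 := by simpa using hx =≫ biprod.fst
  apply biprod.hom_ext
  · exact ha.eq_of_tgt _ _
  · simpa using h1

/-- the direct sum of the disks on `P k` placed in degrees `k-1, k` -/
noncomputable def disk (P : ℕ → A) : CochainComplex A ℕ :=
  CochainComplex.of (fun k => P k ⊞ P (k + 1)) (fun k => biprod.snd ≫ biprod.inl)
    (by intro k; simp)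

lemma disk_d (P : ℕ → A) (k : ℕ) :
    (disk P).d k (k + 1) = (biprod.snd ≫ biprod.inl : P k ⊞ P (k + 1) ⟶ P (k + 1) ⊞ P (k + 1 + 1)) :=
  by
  unfold disk
  exact CochainComplex.of_d (fun k => P k ⊞ P (k + 1)) (fun k => biprod.snd ≫ biprod.inl) k

lemma disk_acyclic (P : ℕ → A) (hP0 : IsZero (P 0)) : (disk P).Acyclic := by
  intro k
  cases k with
  | zero => exact exactAt_zero_of_mono (disk_d P 0) (mono_disk hP0)
  | succ k => exact exactAt_succ_of_d k (disk_d P k) (disk_d P (k + 1)) _ (exact_disk _ _ _ _)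

lemma acyclic_biprod {K L : CochainComplex A ℕ} (hK : K.Acyclic) (hL : L.Acyclic) :
    (K ⊞ L).Acyclic := by
  intro k
  rw [HomologicalComplex.exactAt_iff_isZero_homology]
  let H := HomologicalComplex.homologyFunctor A (ComplexShape.up ℕ) k
  have h1 : IsZero (H.obj K) := (hK k).isZero_homology
  have h2 : IsZero (H.obj L) := (hL k).isZero_homology
  show IsZero (H.obj (K ⊞ L))
  rw [IsZero.iff_id_eq_zero, ← H.map_id, ← biprod.total, H.map_add, H.map_comp, H.map_comp,
    h1.eq_of_tgt (H.map biprod.fst) 0, h2.eq_of_tgt (H.map biprod.snd) 0, zero_comp, zero_comp,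
    add_zero]

/-- transport of a complex along termwise isomorphisms -/
noncomputable def transport (G : CochainComplex A ℕ) (O : ℕ → A) (θ : ∀ k, G.X k ≅ O k) :
    CochainComplex A ℕ where
  X := O
  d i j := (θ i).inv ≫ G.d i j ≫ (θ j).hom
  shape i j h := by rw [G.shape i j h]; simp
  d_comp_d' i j k _ _ := by simp

noncomputable def transportIso (G : CochainComplex A ℕ) (O : ℕ → A) (θ : ∀ k, G.X k ≅ O k) :
    G ≅ transport G O θ :=
  HomologicalComplex.Hom.isoOfComponents θ (by intro i j _; simp [transport])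

lemma isZero_of_retract {C : Type*} {D : Type*} [Category C] [Category D] [HasZeroMorphisms D]
    (F' : C ⥤ D) {X Y : C} (s : X ⟶ Y) (r : Y ⟶ X) (h : s ≫ r = 𝟙 X) (hY : IsZero (F'.obj Y)) :
    IsZero (F'.obj X) := by
  rw [IsZero.iff_id_eq_zero, ← F'.map_id, ← h, F'.map_comp, hY.eq_of_tgt (F'.map s) 0, zero_comp]

end Complexes

section Main

variable {B : Type u'} [Category.{v'} B] [Abelian B] (f : A ⥤ B) [f.Additive]
  (𝒪 : ObjectProperty A)
  (h0 : ∀ X Y : A, 𝒪 X → 𝒪 Y → 𝒪 (X ⊞ Y))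
  (h1 : ∀ K : CochainComplex A ℕ, (∀ i, 𝒪 (K.X i)) → K.Acyclic →
      ((f.mapHomologicalComplex (ComplexShape.up ℕ)).obj K).Acyclic)
  (h2 : ∀ X : A, ∃ (Y : A) (i : X ⟶ Y), 𝒪 Y ∧ Mono i)

include h1 in
theorem map_acyclic_of_seq (E : CochainComplex A ℕ) (hacyc : E.Acyclic) (P O : ℕ → A)
    (θ : ∀ k, (E.X k ⊞ P k) ⊞ P (k + 1) ≅ O k) (hP0 : IsZero (P 0)) (hO : ∀ k, 𝒪 (O k)) :
    ((f.mapHomologicalComplex (ComplexShape.up ℕ)).obj E).Acyclic := by
  have hW : (disk P).Acyclic := disk_acyclic P hP0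
  have hG : (E ⊞ disk P).Acyclic := acyclic_biprod hacyc hW
  let Θ : ∀ k, (E ⊞ disk P).X k ≅ O k := fun k =>
    HomologicalComplex.biprodXIso E (disk P) k ≪≫ assocIso (E.X k) (P k) (P (k + 1)) ≪≫ θ k
  have e := transportIso (E ⊞ disk P) O Θ
  have hG' : (transport (E ⊞ disk P) O Θ).Acyclic := fun k => (hG k).of_iso e
  have hfG' := h1 _ hO hG'
  intro k
  rw [HomologicalComplex.exactAt_iff_isZero_homology]
  exact isZero_of_retract
    (f.mapHomologicalComplex (ComplexShape.up ℕ) ⋙ HomologicalComplex.homologyFunctor B _ k)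
    (biprod.inl ≫ e.hom) (e.inv ≫ biprod.fst) (by simp) ((hfG' k).isZero_homology)

include h0 h1 h2 in
theorem map_acyclic_of_summ (E : CochainComplex A ℕ) (hacyc : E.Acyclic)
    (hE : ∀ k, SummData 𝒪 (E.X k)) :
    ((f.mapHomologicalComplex (ComplexShape.up ℕ)).obj E).Acyclic := by
  obtain ⟨P, O, θ, hP0, hO⟩ := exists_seq h0 h2 E hE
  exact map_acyclic_of_seq f 𝒪 h1 E hacyc P O θ hP0 hO

variable [EnoughInjectives A]

/-- the augmented injective resolution -/
noncomputable def aug {X : A} (I : InjectiveResolution X) : CochainComplex A ℕ :=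
  CochainComplex.augment I.cocomplex (X := X) (I.ι.f 0) I.ι_f_zero_comp_complex_d

lemma aug_acyclic {X : A} (I : InjectiveResolution X) : (aug I).Acyclic := by
  intro k
  rcases k with _ | _ | k
  · exact exactAt_zero_of_mono (g := I.ι.f 0) rfl (mono_of_isLimit_fork I.isLimitKernelFork)
  · exact exactAt_succ_of_d 0 (f' := I.ι.f 0) (g' := I.cocomplex.d 0 1) rfl rfl
      I.ι_f_zero_comp_complex_d
      (ShortComplex.exact_of_f_is_kernel _ I.isLimitKernelFork)
  · exact exactAt_succ_of_d (k + 1) (f' := I.cocomplex.d k (k + 1))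
      (g' := I.cocomplex.d (k + 1) (k + 2)) rfl rfl _ (I.exact_succ k)

include h0 h1 h2 in
theorem main (X : A) (hX : 𝒪 X) (m : ℕ) : IsZero ((f.rightDerived (m + 1)).obj X) := by
  obtain ⟨I⟩ : Nonempty (InjectiveResolution X) := ⟨injectiveResolution _⟩
  have hE : ∀ k, SummData 𝒪 ((aug I).X k) := by
    intro k
    cases k with
    | zero => exact SummData.ofMem h0 hX
    | succ k =>
      haveI : Injective (I.cocomplex.X k) := I.injective k
      exact SummData.ofInjective h2 (I.cocomplex.X k)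
  have hfE := map_acyclic_of_summ f 𝒪 h0 h1 h2 (aug I) (aug_acyclic I) hE
  have h3 : ((f.mapHomologicalComplex (ComplexShape.up ℕ)).obj (aug I)).ExactAt (m + 1 + 1) :=
    hfE (m + 1 + 1)
  rw [HomologicalComplex.exactAt_iff' _ (m + 1) (m + 1 + 1) (m + 1 + 1 + 1)
    (CochainComplex.prev_nat_succ (m + 1)) (CochainComplex.next ℕ (m + 1 + 1))] at h3
  have h4 : ((f.mapHomologicalComplex (ComplexShape.up ℕ)).obj I.cocomplex).ExactAt (m + 1) := by
    rw [HomologicalComplex.exactAt_iff' _ m (m + 1) (m + 1 + 1)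
      (CochainComplex.prev_nat_succ m) (CochainComplex.next ℕ (m + 1))]
    exact h3
  exact IsZero.of_iso h4.isZero_homology (I.isoRightDerivedObj f (m + 1))

end Main

end Groth.Agent.H23.AdaptedN
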