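import Groth.Prelude.Def_BigSite

/-!
# Almost cocontinuous functors: sheafification commutes with `u^p` (helper23; S6441 / S6440)
-/

universe u

namespace Groth.Agent.H23.AlmostCocont

open CategoryTheory Limits Opposite

variable {C D : Type u} [SmallCategory C] [SmallCategory D]
  (J : GrothendieckTopology C) (K : GrothendieckTopology D) (u : C ⥤ D)

/-- A sheaf of types takes subsingleton values on objects covered by the empty sieve. -/
theorem subsingleton_of_bot_mem {F : Dᵒᵖ ⥤ Type u} (hF : Presheaf.IsSheaf K F) {V : D}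
    (hV : (⊥ : Sieve V) ∈ K V) : Subsingleton (F.obj (op V)) := by
  constructor
  intro a b
  exact (((isSheaf_iff_isSheaf_of_type K F).1 hF) ⊥ hV).isSeparatedFor.ext
    (fun Y f hf => by simp at hf)

variable {J K u}

theorem isLocallySurjective_whisker (hu : BigSite.IsAlmostCocontinuous u J K) (G : Dᵒᵖ ⥤ Type u)
    (hG : ∀ V : D, (⊥ : Sieve V) ∈ K V → Nonempty (Unique (G.obj (op V)))) :
    Presheaf.IsLocallySurjective J (Functor.whiskerLeft u.op (toSheafify K G)) where
  imageSieve_mem {U} s := by
    have hR : Presheaf.imageSieve (toSheafify K G) (U := u.obj U) s ∈ K (u.obj U) :=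
      Presheaf.imageSieve_mem K (toSheafify K G) (U := op (u.obj U)) s
    obtain ⟨R', hR', h⟩ := hu U _ hR
    refine J.superset_covering ?_ hR'
    intro V g hg
    rcases h g hg with hbot | ⟨t, ht⟩
    · obtain ⟨hU⟩ := hG (u.obj V) hbot
      have hsub : Subsingleton ((sheafify K G).obj (op (u.obj V))) :=
        subsingleton_of_bot_mem K ((presheafToSheaf K (Type u)).obj G).property hbot
      exact ⟨(hU.default : G.obj (op (u.obj V))), hsub.elim _ _⟩
    · exact ⟨t, ht⟩

theorem isLocallyInjective_whisker (hu : BigSite.IsAlmostCocontinuous u J K) (G : Dᵒᵖ ⥤ Type u)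
    (hG : ∀ V : D, (⊥ : Sieve V) ∈ K V → Nonempty (Unique (G.obj (op V)))) :
    Presheaf.IsLocallyInjective J (Functor.whiskerLeft u.op (toSheafify K G)) where
  equalizerSieve_mem {X} x y hxy := by
    have hR : Presheaf.equalizerSieve (F := G) (X := op (u.obj X.unop)) x y ∈ K (u.obj X.unop) :=
      Presheaf.equalizerSieve_mem K (toSheafify K G) (X := op (u.obj X.unop)) x y hxy
    obtain ⟨R', hR', h⟩ := hu X.unop _ hR
    refine J.superset_covering ?_ hR'
    intro V g hg
    rcases h g hg with hbot | ht
    · obtain ⟨hU⟩ := hG (u.obj V) hbot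
      exact (hU.instSubsingleton).elim _ _
    · exact ht

theorem W_whisker (hu : BigSite.IsAlmostCocontinuous u J K) (G : Dᵒᵖ ⥤ Type u)
    (hG : ∀ V : D, (⊥ : Sieve V) ∈ K V → Nonempty (Unique (G.obj (op V)))) :
    J.W (Functor.whiskerLeft u.op (toSheafify K G)) := by
  have h1 := isLocallySurjective_whisker hu G hG
  have h2 := isLocallyInjective_whisker hu G hG
  exact (GrothendieckTopology.W_iff_isLocallyBijective (J := J)
    (Functor.whiskerLeft u.op (toSheafify K G))).2 ⟨h2, h1⟩

theorem isIso_comparison [u.IsContinuous J K] (hu : BigSite.IsAlmostCocontinuous u J K)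
    (G : Dᵒᵖ ⥤ Type u)
    (hG : ∀ V : D, (⊥ : Sieve V) ∈ K V → Nonempty (Unique (G.obj (op V)))) :
    IsIso (((sheafificationAdjunction J (Type u)).homEquiv (u.op ⋙ G)
      ((u.sheafPushforwardContinuous (Type u) J K).obj ((presheafToSheaf K (Type u)).obj G))).symm
        (Functor.whiskerLeft u.op (toSheafify K G))) := by
  rw [Adjunction.homEquiv_counit]
  have h := (J.W_iff (Functor.whiskerLeft u.op (toSheafify K G))).1 (W_whisker hu G hG)
  exact IsIso.comp_isIso' h inferInstance

theorem unique_colimit_of_connected {I : Type} [SmallCategory I] [IsConnected I]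
    {Dg : I ⥤ Type u} (hD : ∀ i, Nonempty (Unique (Dg.obj i))) {c : Cocone Dg}
    (hc : IsColimit c) : Nonempty (Unique c.pt) := by
  obtain ⟨i₀⟩ : Nonempty I := IsConnected.is_nonempty
  let d : ∀ i, Dg.obj i := fun i => (hD i).some.default
  have hsub : ∀ i, Subsingleton (Dg.obj i) := fun i => (hD i).some.instSubsingleton
  have key : ∀ i j, c.ι.app i (d i) = c.ι.app j (d j) := by
    refine constant_of_preserves_morphisms (fun i => c.ι.app i (d i)) (fun i j f => ?_)
    have h1 : c.ι.app j (Dg.map f (d i)) = c.ι.app i (d i) := by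
      rw [← c.w f]
      rfl
    have h2 : Dg.map f (d i) = d j := (hsub j).elim _ _
    rw [← h1, h2]
  refine ⟨{ default := c.ι.app i₀ (d i₀), uniq := fun x => ?_ }⟩
  obtain ⟨j, y, rfl⟩ := Types.jointly_surjective_of_isColimit hc x
  have h2 : y = d j := (hsub j).elim _ _
  rw [h2]
  exact key j i₀

theorem preservesColimitsOfShape [u.IsContinuous J K] (hu : BigSite.IsAlmostCocontinuous u J K)
    (I : Type) [SmallCategory I] [FinCategory I] [IsConnected I] :
    PreservesColimitsOfShape I (u.sheafPushforwardContinuous (Type u) J K) := by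
  constructor
  intro F
  let E : Cocone (F ⋙ sheafToPresheaf K (Type u)) := colimit.cocone _
  have hE : IsColimit E := colimit.isColimit _
  let c := Sheaf.sheafifyCocone E
  have hc : IsColimit c := Sheaf.isColimitSheafifyCocone E hE
  refine preservesColimit_of_preserves_colimit_cocone hc ?_
  let E'' : Cocone ((F ⋙ u.sheafPushforwardContinuous (Type u) J K) ⋙
      sheafToPresheaf J (Type u)) :=
    ((Functor.whiskeringLeft Cᵒᵖ Dᵒᵖ (Type u)).obj u.op).mapCocone E
  have hE'' : IsColimit E'' :=
    isColimitOfPreserves ((Functor.whiskeringLeft Cᵒᵖ Dᵒᵖ (Type u)).obj u.op) hE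
  let c' := Sheaf.sheafifyCocone E''
  have hc' : IsColimit c' := Sheaf.isColimitSheafifyCocone E'' hE''
  have hG : ∀ V : D, (⊥ : Sieve V) ∈ K V → Nonempty (Unique (E.pt.obj (op V))) := by
    intro V hV
    have hEV : IsColimit (((evaluation Dᵒᵖ (Type u)).obj (op V)).mapCocone E) :=
      isColimitOfPreserves _ hE
    refine unique_colimit_of_connected (fun i => ?_) hEV
    exact ⟨(Types.isTerminalEquivUnique _).1 (Sheaf.isTerminalOfBotCover (F.obj i) V hV)⟩
  have hψ := isIso_comparison hu E.pt hG
  let e : c'.pt ≅ ((u.sheafPushforwardContinuous (Type u) J K).mapCocone c).pt :=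
    @asIso _ _ _ _ (((sheafificationAdjunction J (Type u)).homEquiv (u.op ⋙ E.pt)
      ((u.sheafPushforwardContinuous (Type u) J K).obj
        ((presheafToSheaf K (Type u)).obj E.pt))).symm
        (Functor.whiskerLeft u.op (toSheafify K E.pt))) hψ
  refine IsColimit.ofIsoColimit hc' (Cocones.ext e ?_)
  intro i
  apply Sheaf.hom_ext
  have h1 := Sheaf.sheafifyCocone_ι_app_val E'' i
  have h2 := Sheaf.sheafifyCocone_ι_app_val E i
  have h3 : toSheafify J (u.op ⋙ E.pt) ≫
      (((sheafificationAdjunction J (Type u)).homEquiv (u.op ⋙ E.pt)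
      ((u.sheafPushforwardContinuous (Type u) J K).obj
        ((presheafToSheaf K (Type u)).obj E.pt))).symm
        (Functor.whiskerLeft u.op (toSheafify K E.pt))).hom =
      Functor.whiskerLeft u.op (toSheafify K E.pt) :=
    toSheafify_sheafifyLift J _ _
  have h4 : (c'.ι.app i ≫ e.hom).hom = (E''.ι.app i ≫ toSheafify J E''.pt) ≫
      (((sheafificationAdjunction J (Type u)).homEquiv (u.op ⋙ E.pt)
      ((u.sheafPushforwardContinuous (Type u) J K).obj
        ((presheafToSheaf K (Type u)).obj E.pt))).symm
        (Functor.whiskerLeft u.op (toSheafify K E.pt))).hom :=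
    congrArg (fun z => z ≫ (((sheafificationAdjunction J (Type u)).homEquiv (u.op ⋙ E.pt)
      ((u.sheafPushforwardContinuous (Type u) J K).obj
        ((presheafToSheaf K (Type u)).obj E.pt))).symm
        (Functor.whiskerLeft u.op (toSheafify K E.pt))).hom) h1
  have h5 : (((u.sheafPushforwardContinuous (Type u) J K).mapCocone c).ι.app i).hom =
      Functor.whiskerLeft u.op (E.ι.app i ≫ toSheafify K E.pt) :=
    congrArg (fun z => Functor.whiskerLeft u.op z) h2
  rw [h4, h5, Category.assoc]
  erw [h3]
  rfl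

end Groth.Agent.H23.AlmostCocont
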