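import Mathlib.RingTheory.Filtration
import Mathlib.Algebra.Exact.Basic

/-! Perturbation of Artin–Rees constants (Stacks 07VD/07VF style). -/

set_option autoImplicit false
universe u

namespace Groth.Agent.H23

open Submodule

lemma arp_shift {A : Type u} [CommRing A] (I : Ideal A) {M N : Type u} [AddCommGroup M]
    [Module A M] [AddCommGroup N] [Module A N] (h : M →ₗ[A] N) (k : ℕ)
    (hk : ∀ y, h y ∈ I ^ k • (⊤ : Submodule A N)) (r : ℕ) {x : M}
    (hx : x ∈ I ^ r • (⊤ : Submodule A M)) : h x ∈ I ^ (r + k) • (⊤ : Submodule A N) := by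
  have h1 : Submodule.map h (I ^ r • ⊤) ≤ I ^ (r + k) • ⊤ := by
    rw [Submodule.map_smul'', pow_add, Submodule.mul_smul]
    refine Submodule.smul_mono le_rfl ?_
    rintro _ ⟨y, -, rfl⟩
    exact hk y
  exact h1 (Submodule.mem_map_of_mem hx)

lemma arp_mono {A : Type u} [CommRing A] (I : Ideal A) {M : Type u} [AddCommGroup M]
    [Module A M] {m n : ℕ} (h : n ≤ m) :
    I ^ m • (⊤ : Submodule A M) ≤ I ^ n • (⊤ : Submodule A M) :=
  Submodule.smul_mono_left (Ideal.pow_le_pow_right h)

/-- core inductive claim -/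
lemma arp_core {A : Type u} [CommRing A] (I : Ideal A)
    {L M N : Type u} [AddCommGroup L] [Module A L]
    [AddCommGroup M] [Module A M] [AddCommGroup N] [Module A N]
    (f f' : L →ₗ[A] M) (g g' : M →ₗ[A] N) (c : ℕ) (hgf' : g'.comp f' = 0)
    (hf : (∀ n : ℕ, c ≤ n → LinearMap.range f ⊓ (I ^ n • (⊤ : Submodule A M)) ≤
      Submodule.map f (I ^ (n - c) • (⊤ : Submodule A L))))
    (hg : (∀ n : ℕ, c ≤ n → LinearMap.range g ⊓ (I ^ n • (⊤ : Submodule A N)) ≤
      Submodule.map g (I ^ (n - c) • (⊤ : Submodule A M))))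
    (hex : Function.Exact f g)
    (hff' : ∀ x : L, f x - f' x ∈ I ^ (c + 1) • (⊤ : Submodule A M))
    (hgg' : ∀ y : M, g y - g' y ∈ I ^ (c + 1) • (⊤ : Submodule A N))
    (n : ℕ) (a : M) (ha : g' a ∈ I ^ n • (⊤ : Submodule A N)) :
    ∀ r, r ≤ n - c → ∃ b : L, a - f' b ∈ I ^ r • (⊤ : Submodule A M) := by
  intro r
  induction r with
  | zero => intro _; exact ⟨0, by simp⟩
  | succ r ih =>
    intro hr
    obtain ⟨b, hb⟩ := ih (by omega)
    set ar := a - f' b with har
    have hg'ar : g' ar = g' a := by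
      have : g' (f' b) = 0 := LinearMap.congr_fun hgf' b
      simp [har, map_sub, this]
    have h1 : (g - g') ar ∈ I ^ (r + (c + 1)) • (⊤ : Submodule A N) :=
      arp_shift I (g - g') (c + 1) (fun y => by simpa using hgg' y) r hb
    have h2 : g ar ∈ I ^ (r + c + 1) • (⊤ : Submodule A N) := by
      have : g ar = g' ar + (g - g') ar := by simp
      rw [this, hg'ar]
      refine add_mem ?_ (by simpa [add_assoc] using h1)
      exact arp_mono I (by omega) ha
    have h3 := hg (r + c + 1) (by omega) (Submodule.mem_inf.2 ⟨LinearMap.mem_range.2 ⟨ar, rfl⟩, h2⟩)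
    rw [show r + c + 1 - c = r + 1 by omega] at h3
    obtain ⟨a1, ha1, ha1g⟩ := Submodule.mem_map.1 h3
    have h4 : g (ar - a1) = 0 := by simp [ha1g]
    obtain ⟨b0, hb0⟩ := (hex (ar - a1)).1 h4
    have ha1' : a1 ∈ I ^ r • (⊤ : Submodule A M) := arp_mono I (Nat.le_succ r) ha1
    by_cases hrc : c ≤ r
    · have h5 := hf r hrc (Submodule.mem_inf.2 ⟨LinearMap.mem_range.2 ⟨b0, rfl⟩,
        by rw [hb0]; exact sub_mem hb ha1'⟩)
      obtain ⟨b1, hb1, hb1f⟩ := Submodule.mem_map.1 h5
      refine ⟨b + b1, ?_⟩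
      have h6 : (f - f') b1 ∈ I ^ ((r - c) + (c + 1)) • (⊤ : Submodule A M) :=
        arp_shift I (f - f') (c + 1) (fun y => by simpa using hff' y) (r - c) hb1
      rw [show r - c + (c + 1) = r + 1 by omega] at h6
      have : a - f' (b + b1) = (f - f') b1 + a1 := by
        simp only [map_add, LinearMap.sub_apply]
        rw [hb1f, hb0, har]; abel
      rw [this]; exact add_mem h6 ha1
    · refine ⟨b + b0, ?_⟩
      have h6 : (f - f') b0 ∈ I ^ (c + 1) • (⊤ : Submodule A M) := by simpa using hff' b0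
      have : a - f' (b + b0) = (f - f') b0 + a1 := by
        simp only [map_add, LinearMap.sub_apply]
        rw [hb0, har]; abel
      rw [this]
      exact add_mem (arp_mono I (by omega) h6) ha1

end Groth.Agent.H23
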