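import Mathlib

/-!
# Brown representability: basic calculus of a cohomological functor `H : Dᵒᵖ ⥤ Ab`
-/

namespace Groth.Agent.H23.Brown

open CategoryTheory CategoryTheory.Limits CategoryTheory.Pretriangulated Opposite
open CategoryTheory.Pretriangulated.Opposite

universe w v u

variable {D : Type u} [Category.{v} D] [Preadditive D] [HasZeroObject D] [HasShift D ℤ]
  [∀ n : ℤ, (shiftFunctor D n).Additive] [Pretriangulated D]
  (H : Dᵒᵖ ⥤ AddCommGrpCat.{v})

/-- Pull-back of elements of `H` along a morphism. -/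
def pull {X Y : D} (f : X ⟶ Y) : H.obj (op Y) →+ H.obj (op X) := (H.map f.op).hom

omit [Preadditive D] [HasZeroObject D] [HasShift D ℤ] [∀ n : ℤ, (shiftFunctor D n).Additive]
  [Pretriangulated D] in
@[simp] lemma pull_id (X : D) (y : H.obj (op X)) : pull H (𝟙 X) y = y := by simp [pull]

omit [Preadditive D] [HasZeroObject D] [HasShift D ℤ] [∀ n : ℤ, (shiftFunctor D n).Additive]
  [Pretriangulated D] in
lemma pull_comp {X Y Z : D} (f : X ⟶ Y) (g : Y ⟶ Z) (z : H.obj (op Z)) :
    pull H (f ≫ g) z = pull H f (pull H g z) := by simp [pull]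

section Additive

variable [H.Additive]

omit [HasZeroObject D] [HasShift D ℤ] [∀ n : ℤ, (shiftFunctor D n).Additive]
  [Pretriangulated D] in
lemma pull_add {X Y : D} (f g : X ⟶ Y) (y : H.obj (op Y)) :
    pull H (f + g) y = pull H f y + pull H g y := by
  simp [pull, Functor.map_add]

omit [HasZeroObject D] [HasShift D ℤ] [∀ n : ℤ, (shiftFunctor D n).Additive]
  [Pretriangulated D] in
lemma pull_zero {X Y : D} (y : H.obj (op Y)) : pull H (0 : X ⟶ Y) y = 0 := by
  simp [pull, Functor.map_zero]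

omit [HasZeroObject D] [HasShift D ℤ] [∀ n : ℤ, (shiftFunctor D n).Additive]
  [Pretriangulated D] in
lemma pull_neg {X Y : D} (f : X ⟶ Y) (y : H.obj (op Y)) :
    pull H (-f) y = - pull H f y := by
  simp [pull, Functor.map_neg]

omit [HasZeroObject D] [HasShift D ℤ] [∀ n : ℤ, (shiftFunctor D n).Additive]
  [Pretriangulated D] in
lemma pull_sub {X Y : D} (f g : X ⟶ Y) (y : H.obj (op Y)) :
    pull H (f - g) y = pull H f y - pull H g y := by
  simp [pull, Functor.map_sub]

end Additive

lemma exists_of_pull_eq_zero [H.IsHomological] (T : Triangle D) (hT : T ∈ distTriang D)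
    (y : H.obj (op T.obj₂)) (hy : pull H T.mor₁ y = 0) :
    ∃ z : H.obj (op T.obj₃), pull H T.mor₂ z = y := by
  have h := H.map_distinguished_op_exact T hT
  rw [ShortComplex.ab_exact_iff] at h
  exact h y hy

section Products

variable {J : Type w} [PreservesLimitsOfShape (Discrete J) H]
  [PreservesLimitsOfShape (Discrete J) (forget AddCommGrpCat.{v})]
  (X : J → D) [HasCoproduct X]

omit [Preadditive D] [HasZeroObject D] [HasShift D ℤ] [∀ n : ℤ, (shiftFunctor D n).Additive]
  [Pretriangulated D] in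
lemma prod_existsUnique (y : ∀ j, H.obj (op (X j))) :
    ∃! z : H.obj (op (∐ X)), ∀ j, pull H (Sigma.ι X j) z = y j := by
  let c : Cofan X := Cofan.mk (∐ X) (Sigma.ι X)
  have hc : IsColimit c := coproductIsCoproduct X
  have h1 : IsLimit (H.mapCone c.op) := isLimitOfPreserves H (Cofan.IsColimit.op hc)
  have h2 : IsLimit ((forget AddCommGrpCat.{v}).mapCone (H.mapCone c.op)) :=
    isLimitOfPreserves _ h1
  have h3 := (Types.isLimit_iff _).1 ⟨h2⟩
  obtain ⟨z, hz, hz'⟩ := h3 (fun j => y j.as) (by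
    rintro ⟨j⟩ ⟨j'⟩ f
    obtain rfl : j = j' := Discrete.eq_of_hom f
    obtain rfl : f = 𝟙 _ := Subsingleton.elim _ _
    simp)
  refine ⟨z, fun j => hz ⟨j⟩, fun z' hz'' => hz' z' ?_⟩
  rintro ⟨j⟩
  exact hz'' j

omit [Preadditive D] [HasZeroObject D] [HasShift D ℤ] [∀ n : ℤ, (shiftFunctor D n).Additive]
  [Pretriangulated D] in
lemma prod_ext {z z' : H.obj (op (∐ X))}
    (h : ∀ j, pull H (Sigma.ι X j) z = pull H (Sigma.ι X j) z') : z = z' := by
  obtain ⟨w, -, hw⟩ := prod_existsUnique H X (fun j => pull H (Sigma.ι X j) z')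
  rw [hw z h, hw z' (fun _ => rfl)]

omit [Preadditive D] [HasZeroObject D] [HasShift D ℤ] [∀ n : ℤ, (shiftFunctor D n).Additive]
  [Pretriangulated D] in
lemma prod_exists (y : ∀ j, H.obj (op (X j))) :
    ∃ z : H.obj (op (∐ X)), ∀ j, pull H (Sigma.ι X j) z = y j :=
  (prod_existsUnique H X y).exists

end Products

end Groth.Agent.H23.Brown
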