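import Groth.Agent.H23.Brown1

/-!
# Brown representability: towers and their homotopy colimits
-/

namespace Groth.Agent.H23.Brown

open CategoryTheory CategoryTheory.Limits CategoryTheory.Pretriangulated Opposite
open CategoryTheory.Pretriangulated.Opposite

universe w v u

variable {D : Type u} [Category.{v} D] [Preadditive D] [HasZeroObject D] [HasShift D ℤ]
  [∀ n : ℤ, (shiftFunctor D n).Additive] [Pretriangulated D]

/-- Weak exactness of a countable coproduct of distinguished triangles. -/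
lemma exists_lift_of_comp_sigmaMap_eq_zero [HasColimitsOfShape (Discrete ℕ) D]
    {A B C : ℕ → D} (a : ∀ n, A n ⟶ B n) (b : ∀ n, B n ⟶ C n)
    (c : ∀ n, C n ⟶ (A n)⟦(1 : ℤ)⟧)
    (hT : ∀ n, Triangle.mk (a n) (b n) (c n) ∈ distTriang D) {W : D} (θ : W ⟶ ∐ B)
    (hθ : θ ≫ Limits.Sigma.map b = 0) :
    ∃ μ : W ⟶ ∐ A, θ = μ ≫ Limits.Sigma.map a := by
  obtain ⟨Z, g, h, hT'⟩ := distinguished_cocone_triangle (Limits.Sigma.map a)
  have hφ' : ∀ n, ∃ φ : C n ⟶ Z, b n ≫ φ = Sigma.ι B n ≫ g := by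
    intro n
    obtain ⟨φ, hφ, -⟩ := complete_distinguished_triangle_morphism _ _ (hT n) hT'
      (Sigma.ι A n) (Sigma.ι B n) (Sigma.ι_map a n).symm
    exact ⟨φ, hφ⟩
  choose φ hφ using hφ'
  have hg : Limits.Sigma.map b ≫ Sigma.desc φ = g := by
    apply Sigma.hom_ext
    intro n
    rw [Sigma.ι_map_assoc, Sigma.ι_desc, hφ]
  have h0 : θ ≫ g = 0 := by rw [← hg, ← Category.assoc, hθ, zero_comp]
  obtain ⟨μ, hμ⟩ := Triangle.coyoneda_exact₂ _ hT' θ h0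
  exact ⟨μ, hμ⟩

section Tower

variable [HasColimitsOfShape (Discrete ℕ) D]
variable (Xs : ℕ → D) (fs : ∀ n, Xs n ⟶ Xs (n + 1))

/-- The shift map of a tower. -/
noncomputable def sh : (∐ Xs) ⟶ ∐ Xs := Sigma.desc (fun n => fs n ≫ Sigma.ι Xs (n + 1))

omit [Preadditive D] [HasZeroObject D] [HasShift D ℤ] [∀ n : ℤ, (shiftFunctor D n).Additive]
  [Pretriangulated D] in
@[reassoc]
lemma ι_sh (n : ℕ) : Sigma.ι Xs n ≫ sh Xs fs = fs n ≫ Sigma.ι Xs (n + 1) := Sigma.ι_desc _ _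

/-- Iterated transition maps. -/
def fpow : ∀ n, Xs 0 ⟶ Xs n
  | 0 => 𝟙 _
  | n + 1 => fpow n ≫ fs n

omit [HasZeroObject D] [HasShift D ℤ] [∀ n : ℤ, (shiftFunctor D n).Additive]
  [Pretriangulated D] [HasColimitsOfShape (Discrete ℕ) D] in
lemma comp_fpow_succ_eq_zero {A : D} (g : A ⟶ Xs 0) (hg : g ≫ fs 0 = 0) (m : ℕ) :
    g ≫ fpow Xs fs (m + 1) = 0 := by
  induction m with
  | zero =>
    change g ≫ (𝟙 _ ≫ fs 0) = 0
    rw [Category.id_comp, hg]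
  | succ m ih =>
    change g ≫ (fpow Xs fs (m + 1) ≫ fs (m + 1)) = 0
    rw [← Category.assoc, ih, zero_comp]

/-- The projection onto the zeroth term. -/
def p0aux : ∀ n, Xs n ⟶ Xs 0
  | 0 => 𝟙 _
  | _ + 1 => 0

/-- The projection `∐ Xs ⟶ Xs 0`. -/
noncomputable def p0 : (∐ Xs) ⟶ Xs 0 := Sigma.desc (p0aux Xs)

omit [HasZeroObject D] [HasShift D ℤ] [∀ n : ℤ, (shiftFunctor D n).Additive]
  [Pretriangulated D] in
lemma ι_zero_p0 : Sigma.ι Xs 0 ≫ p0 Xs = 𝟙 _ := Sigma.ι_desc _ _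

omit [HasZeroObject D] [HasShift D ℤ] [∀ n : ℤ, (shiftFunctor D n).Additive]
  [Pretriangulated D] in
lemma sh_p0 : sh Xs fs ≫ p0 Xs = 0 := by
  apply Sigma.hom_ext
  intro n
  rw [ι_sh_assoc, comp_zero]
  have : Sigma.ι Xs (n + 1) ≫ p0 Xs = 0 := Sigma.ι_desc _ _
  rw [this, comp_zero]

variable (H : Dᵒᵖ ⥤ AddCommGrpCat.{v}) [H.Additive]
  [PreservesLimitsOfShape (Discrete ℕ) H]
  [PreservesLimitsOfShape (Discrete ℕ) (forget AddCommGrpCat.{v})]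
  {κ : Type w} (T : κ → D)
  (xs : ∀ n, H.obj (op (Xs n)))
  (h0 : ∀ n, pull H (fs n) (xs (n + 1)) = xs n)
  (h2 : ∀ n k (g : T k ⟶ Xs n), pull H g (xs n) = 0 → g ≫ fs n = 0)
  (h1 : ∀ k (y : H.obj (op (T k))), ∃ g : T k ⟶ Xs 0, pull H g (xs 0) = y)
  (hfac : ∀ (Y : ℕ → D) (k : κ) (α : T k ⟶ ∐ Y), ∃ (j : ℕ → κ) (β : ∀ n, T (j n) ⟶ Y n)
      (γ : T k ⟶ ∐ (fun n => T (j n))), α = γ ≫ Limits.Sigma.map β)
  (W : H.obj (op (∐ Xs))) (hW : ∀ n, pull H (Sigma.ι Xs n) W = xs n)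

include h0 in
omit [Preadditive D] [HasZeroObject D] [HasShift D ℤ] [∀ n : ℤ, (shiftFunctor D n).Additive]
  [Pretriangulated D] [HasColimitsOfShape (Discrete ℕ) D] [H.Additive]
  [PreservesLimitsOfShape (Discrete ℕ) H]
  [PreservesLimitsOfShape (Discrete ℕ) (forget AddCommGrpCat.{v})] in
lemma pull_fpow (n : ℕ) : pull H (fpow Xs fs n) (xs n) = xs 0 := by
  induction n with
  | zero => exact pull_id H _ _
  | succ n ih =>
    change pull H (fpow Xs fs n ≫ fs n) (xs (n + 1)) = xs 0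
    rw [pull_comp, h0, ih]

include h0 h2 h1 hfac hW in
omit [HasZeroObject D] [∀ n : ℤ, (shiftFunctor D n).Additive] [Pretriangulated D] in
lemma exists_decomp (k : κ) (β : T k ⟶ ∐ Xs) :
    ∃ (j : ℕ → κ) (γ : T k ⟶ ∐ (fun n => T (j n))) (ε : ∀ n, T (j n) ⟶ Xs 0)
      (B' : (∐ fun n => T (j n)) ⟶ ∐ Xs),
      β = γ ≫ (B' + Limits.Sigma.map (fun n => ε n ≫ fpow Xs fs n)) ∧ B' ≫ sh Xs fs = 0 ∧
      pull H (γ ≫ Sigma.desc ε) (xs 0) = pull H β W := by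
  obtain ⟨j, b, γ, rfl⟩ := hfac Xs k β
  choose ε hε using fun n => h1 (j n) (pull H (b n) (xs n))
  refine ⟨j, γ, ε, Limits.Sigma.map (fun n => b n - ε n ≫ fpow Xs fs n), ?_, ?_, ?_⟩
  · congr 1
    apply Sigma.hom_ext
    intro n
    rw [Preadditive.comp_add, Sigma.ι_map, Sigma.ι_map, Sigma.ι_map, ← Preadditive.add_comp,
      sub_add_cancel]
  · apply Sigma.hom_ext
    intro n
    rw [Sigma.ι_map_assoc, ι_sh, comp_zero, ← Category.assoc]
    have : (b n - ε n ≫ fpow Xs fs n) ≫ fs n = 0 := by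
      apply h2
      rw [pull_sub, pull_comp, pull_fpow Xs fs H xs h0, hε, sub_self]
    rw [this, zero_comp]
  · rw [pull_comp, pull_comp]
    congr 1
    apply prod_ext H
    intro n
    rw [← pull_comp, ← pull_comp, Sigma.ι_desc, Sigma.ι_map, pull_comp, hW, hε]

include h0 h2 h1 hfac hW in
omit [HasZeroObject D] [∀ n : ℤ, (shiftFunctor D n).Additive] [Pretriangulated D] in
/-- (II): an element of `Hom(T k, ∐ Xs)` killed by `W` lies in the image of `1 - shift`. -/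
lemma exists_of_pull_W_eq_zero (k : κ) (β : T k ⟶ ∐ Xs) (hβ : pull H β W = 0) :
    ∃ δ : T k ⟶ ∐ Xs, β = δ ≫ (𝟙 _ - sh Xs fs) := by
  obtain ⟨j, γ, ε, B', rfl, hB', hε⟩ := exists_decomp Xs fs H T xs h0 h2 h1 hfac W hW k β
  have h3 : (γ ≫ Sigma.desc ε) ≫ fs 0 = 0 := h2 0 k _ (by rw [hε, hβ])
  let G : (∐ fun n => T (j n)) ⟶ ∐ Xs :=
    Sigma.desc (fun n => ∑ m ∈ Finset.range n, ε n ≫ fpow Xs fs m ≫ Sigma.ι Xs m)
  have hG : Sigma.desc ε ≫ Sigma.ι Xs 0 - Limits.Sigma.map (fun n => ε n ≫ fpow Xs fs n) =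
      G ≫ (𝟙 _ - sh Xs fs) := by
    apply Sigma.hom_ext
    intro n
    have hterm : ∀ m, (ε n ≫ fpow Xs fs m ≫ Sigma.ι Xs m) ≫ (𝟙 _ - sh Xs fs) =
        ε n ≫ fpow Xs fs m ≫ Sigma.ι Xs m -
          ε n ≫ fpow Xs fs (m + 1) ≫ Sigma.ι Xs (m + 1) := by
      intro m
      have e : fpow Xs fs (m + 1) = fpow Xs fs m ≫ fs m := rfl
      rw [Preadditive.comp_sub, Category.comp_id, Category.assoc, Category.assoc, ι_sh, e,
        Category.assoc]
    rw [Preadditive.comp_sub, ← Category.assoc, Sigma.ι_desc, Sigma.ι_map, ← Category.assoc,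
      Sigma.ι_desc, Preadditive.sum_comp]
    simp only [hterm]
    rw [Finset.sum_range_sub']
    change _ = ε n ≫ 𝟙 _ ≫ Sigma.ι Xs 0 - _
    rw [Category.id_comp, Category.assoc]
  have h3' : γ ≫ Sigma.desc ε ≫ Sigma.ι Xs 0 ≫ sh Xs fs = 0 := by
    rw [ι_sh]
    have := congrArg (fun t => t ≫ Sigma.ι Xs (0 + 1)) h3
    simpa only [Category.assoc, zero_comp] using this
  refine ⟨γ ≫ B' + (γ ≫ Sigma.desc ε) ≫ Sigma.ι Xs 0 - γ ≫ G, ?_⟩
  rw [Preadditive.sub_comp, Preadditive.add_comp, Category.assoc γ G, ← hG]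
  simp only [Preadditive.comp_sub, Preadditive.comp_add, Category.comp_id, Category.assoc, hB',
    comp_zero, sub_zero, h3']
  abel

include h0 h2 h1 hfac hW in
/-- (I): `1 - shift` is injective on `Hom(T k, ∐ Xs)`. -/
lemma eq_zero_of_comp_one_sub_sh (k : κ) (β : T k ⟶ ∐ Xs)
    (hβ : β ≫ (𝟙 _ - sh Xs fs) = 0) : β = 0 := by
  have hβ' : β = β ≫ sh Xs fs := by
    rw [Preadditive.comp_sub, Category.comp_id, sub_eq_zero] at hβ
    exact hβ
  obtain ⟨j, γ, ε, B', hdec, hB', -⟩ := exists_decomp Xs fs H T xs h0 h2 h1 hfac W hW k β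
  let X0s : ℕ → D := fun _ => Xs 0
  let Ψ : (∐ X0s) ⟶ ∐ Xs := Limits.Sigma.map (fun n => fpow Xs fs n)
  let E : (∐ fun n => T (j n)) ⟶ ∐ X0s := Limits.Sigma.map ε
  let s0 : (∐ X0s) ⟶ ∐ X0s := Sigma.desc (fun n => Sigma.ι X0s (n + 1))
  let r0 : (∐ X0s) ⟶ ∐ X0s := Sigma.desc (fun n => - ∑ m ∈ Finset.range n, Sigma.ι X0s m)
  have hEΨ : E ≫ Ψ = Limits.Sigma.map (fun n => ε n ≫ fpow Xs fs n) := Sigma.map_comp_map _ _
  have hΨ : Ψ ≫ sh Xs fs = s0 ≫ Ψ := by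
    apply Sigma.hom_ext
    intro n
    have e1 : Sigma.ι X0s n ≫ Ψ ≫ sh Xs fs = fpow Xs fs (n + 1) ≫ Sigma.ι Xs (n + 1) := by
      rw [Sigma.ι_map_assoc, ι_sh, ← Category.assoc]
      rfl
    have e2 : Sigma.ι X0s n ≫ s0 ≫ Ψ = fpow Xs fs (n + 1) ≫ Sigma.ι Xs (n + 1) := by
      rw [← Category.assoc, Sigma.ι_desc, Sigma.ι_map]
    rw [e1, e2]
  have hr0 : (𝟙 _ - s0) ≫ r0 = 𝟙 _ := by
    apply Sigma.hom_ext
    intro n
    rw [Preadditive.sub_comp, Category.id_comp, Preadditive.comp_sub, ← Category.assoc,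
      Sigma.ι_desc, Sigma.ι_desc, Sigma.ι_desc, Category.comp_id, Finset.sum_range_succ]
    abel
  -- `β = θ ≫ Ψ`
  let θ : T k ⟶ ∐ X0s := γ ≫ E ≫ s0
  have hθ : β = θ ≫ Ψ := by
    have e1 : β ≫ sh Xs fs = γ ≫ (E ≫ Ψ) ≫ sh Xs fs := by
      rw [hdec, Category.assoc, Preadditive.add_comp, hB', zero_add, hEΨ]
    rw [hβ', e1, Category.assoc, hΨ]
    simp only [θ, Category.assoc]
  have hω : (θ ≫ (𝟙 _ - s0)) ≫ Ψ = 0 := by
    rw [Category.assoc, Preadditive.sub_comp, Category.id_comp, ← hΨ, Preadditive.comp_sub,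
      ← Category.assoc, ← hθ, ← hβ', sub_self]
  -- triangles
  choose V v hh hV using fun n => distinguished_cocone_triangle₁ (fpow Xs fs n)
  obtain ⟨μ, hμ⟩ := exists_lift_of_comp_sigmaMap_eq_zero v (fun n => fpow Xs fs n) hh hV
    (θ ≫ (𝟙 _ - s0)) hω
  obtain ⟨j', μ', γ', rfl⟩ := hfac V k μ
  let τ : ∀ n, T (j' n) ⟶ Xs 0 := fun n => μ' n ≫ v n
  have hτ : ∀ n, τ n ≫ fpow Xs fs n = 0 := by
    intro n
    change (μ' n ≫ v n) ≫ fpow Xs fs n = 0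
    rw [Category.assoc]
    have : v n ≫ fpow Xs fs n = 0 := comp_distTriang_mor_zero₁₂ _ (hV n)
    rw [this, comp_zero]
  have hτ0 : ∀ n, τ n ≫ fs 0 = 0 := by
    intro n
    apply h2 0
    rw [← pull_fpow Xs fs H xs h0 n, ← pull_comp, hτ, pull_zero]
  have hτ' : ∀ n m, τ n ≫ fpow Xs fs (m + 1) = 0 :=
    fun n m => comp_fpow_succ_eq_zero Xs fs (τ n) (hτ0 n) m
  have hτz : τ 0 = 0 := by
    have := hτ 0
    change τ 0 ≫ 𝟙 _ = 0 at this
    rwa [Category.comp_id] at this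
  have hμτ : (γ' ≫ Limits.Sigma.map μ') ≫ Limits.Sigma.map v = γ' ≫ Limits.Sigma.map τ := by
    rw [Category.assoc, Sigma.map_comp_map]
  have hkey : Limits.Sigma.map τ ≫ r0 ≫ Ψ = - (Sigma.desc τ ≫ Sigma.ι Xs 0) := by
    apply Sigma.hom_ext
    intro n
    rw [Sigma.ι_map_assoc, ← Category.assoc (Sigma.ι X0s n), Sigma.ι_desc, Preadditive.neg_comp,
      Preadditive.comp_neg, Preadditive.comp_neg, ← Category.assoc (Sigma.ι _ n), Sigma.ι_desc,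
      Preadditive.sum_comp, Preadditive.comp_sum]
    congr 1
    have hterm : ∀ m, τ n ≫ Sigma.ι X0s m ≫ Ψ = τ n ≫ fpow Xs fs m ≫ Sigma.ι Xs m := by
      intro m
      rw [Sigma.ι_map]
    simp only [hterm]
    cases n with
    | zero =>
      rw [Finset.sum_range_zero, hτz, zero_comp]
    | succ n =>
      rw [Finset.sum_range_succ']
      have : ∀ m, τ (n + 1) ≫ fpow Xs fs (m + 1) ≫ Sigma.ι Xs (m + 1) = 0 := by
        intro m
        rw [← Category.assoc, hτ', zero_comp]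
      simp only [this, Finset.sum_const_zero, zero_add]
      change τ (n + 1) ≫ 𝟙 _ ≫ Sigma.ι Xs 0 = _
      rw [Category.id_comp]
  have hθ2 : θ = (θ ≫ (𝟙 _ - s0)) ≫ r0 := by
    rw [Category.assoc, hr0, Category.comp_id]
  have hβ2 : β = - ((γ' ≫ Sigma.desc τ) ≫ Sigma.ι Xs 0) := by
    rw [hθ, hθ2, hμ, hμτ, Category.assoc, Category.assoc, hkey, Preadditive.comp_neg,
      Category.assoc]
  have hp : β ≫ p0 Xs = 0 := by
    rw [hβ', Category.assoc, sh_p0, comp_zero]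
  have hp' : γ' ≫ Sigma.desc τ = 0 := by
    rw [hβ2, Preadditive.neg_comp, Category.assoc, ι_zero_p0, Category.comp_id, neg_eq_zero] at hp
    exact hp
  rw [hβ2, hp', zero_comp, neg_zero]

end Tower

end Groth.Agent.H23.Brown
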