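import Groth.Agent.H23.Brown2

/-!
# Brown representability for a shift-closed perfect generating family
-/

namespace Groth.Agent.H23.Brown

open CategoryTheory CategoryTheory.Limits CategoryTheory.Pretriangulated Opposite
open CategoryTheory.Pretriangulated.Opposite
open scoped ZeroObject

universe v u

variable {D : Type u} [Category.{v} D] [Preadditive D] [HasZeroObject D] [HasShift D ℤ]
  [∀ n : ℤ, (shiftFunctor D n).Additive] [Pretriangulated D]
  (H : Dᵒᵖ ⥤ AddCommGrpCat.{v})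

omit [Preadditive D] [HasZeroObject D] [HasShift D ℤ] [∀ n : ℤ, (shiftFunctor D n).Additive]
  [Pretriangulated D] in
lemma natPres [∀ κ : Type v, PreservesLimitsOfShape (Discrete κ) H] :
    PreservesLimitsOfShape (Discrete ℕ) H :=
  preservesLimitsOfShape_of_equiv
    (Discrete.equivalence Equiv.ulift : Discrete (ULift.{v} ℕ) ≌ Discrete ℕ) H

section Star

variable [HasColimitsOfShape (Discrete ℕ) D] [H.Additive]
  [PreservesLimitsOfShape (Discrete ℕ) H]
  [PreservesLimitsOfShape (Discrete ℕ) (forget AddCommGrpCat.{v})]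
  {κ : Type v} (T : κ → D)
  (Xs : ℕ → D) (fs : ∀ n, Xs n ⟶ Xs (n + 1))
  (xs : ∀ n, H.obj (op (Xs n)))
  (h0 : ∀ n, pull H (fs n) (xs (n + 1)) = xs n)
  (h2 : ∀ n k (g : T k ⟶ Xs n), pull H g (xs n) = 0 → g ≫ fs n = 0)
  (h1 : ∀ k (y : H.obj (op (T k))), ∃ g : T k ⟶ Xs 0, pull H g (xs 0) = y)
  (hfac : ∀ (Y : ℕ → D) (k : κ) (α : T k ⟶ ∐ Y), ∃ (j : ℕ → κ) (β : ∀ n, T (j n) ⟶ Y n)
      (γ : T k ⟶ ∐ (fun n => T (j n))), α = γ ≫ Limits.Sigma.map β)
  (W : H.obj (op (∐ Xs))) (hW : ∀ n, pull H (Sigma.ι Xs n) W = xs n)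
  (hSh : ∀ k, ∃ k', Nonempty ((T k')⟦(1 : ℤ)⟧ ≅ T k))

include h0 h2 h1 hfac hW hSh in
/-- (★): the homotopy colimit of the tower is `T`-injective. -/
lemma eq_zero_of_pull_eq_zero_hocolim {X : D} (q : (∐ Xs) ⟶ X) (c : X ⟶ (∐ Xs)⟦(1 : ℤ)⟧)
    (hT : Triangle.mk (𝟙 _ - sh Xs fs) q c ∈ distTriang D) (x : H.obj (op X))
    (hx : pull H q x = W) (k : κ) (α : T k ⟶ X) (hα : pull H α x = 0) : α = 0 := by
  obtain ⟨k', ⟨e⟩⟩ := hSh k
  have hαc : α ≫ c = 0 := by
    let ξ : (T k')⟦(1 : ℤ)⟧ ⟶ (∐ Xs)⟦(1 : ℤ)⟧ := e.hom ≫ α ≫ c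
    let σ : T k' ⟶ ∐ Xs := (shiftFunctor D (1 : ℤ)).preimage ξ
    have hσ : σ⟦(1 : ℤ)⟧' = ξ := Functor.map_preimage _ _
    have h1' : σ ≫ (𝟙 _ - sh Xs fs) = 0 := by
      apply (shiftFunctor D (1 : ℤ)).map_injective
      rw [Functor.map_comp, hσ, Functor.map_zero]
      have this : c ≫ (𝟙 _ - sh Xs fs)⟦(1 : ℤ)⟧' = 0 := comp_distTriang_mor_zero₃₁ _ hT
      change (e.hom ≫ α ≫ c) ≫ _ = 0
      rw [Category.assoc, Category.assoc, this, comp_zero, comp_zero]
    have h2' : σ = 0 :=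
      eq_zero_of_comp_one_sub_sh Xs fs H T xs h0 h2 h1 hfac W hW k' σ h1'
    have h3 : ξ = 0 := by rw [← hσ, h2', Functor.map_zero]
    exact (cancel_epi e.hom).1 (by rw [comp_zero]; exact h3)
  obtain ⟨β, hβ'⟩ : ∃ β : T k ⟶ ∐ Xs, α = β ≫ q := Triangle.coyoneda_exact₃ _ hT α hαc
  have hβW : pull H β W = 0 := by rw [← hx, ← pull_comp, ← hβ', hα]
  obtain ⟨δ, hδ⟩ := exists_of_pull_W_eq_zero Xs fs H T xs h0 h2 h1 hfac W hW k β hβW
  have hz : (𝟙 _ - sh Xs fs) ≫ q = 0 := comp_distTriang_mor_zero₁₂ _ hT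
  rw [hβ', hδ, Category.assoc, hz, comp_zero]

end Star

section Main

variable [H.IsHomological] [HasCoproducts.{v} D] [HasColimitsOfShape (Discrete ℕ) D]
  [∀ κ : Type v, PreservesLimitsOfShape (Discrete κ) H]
  {κ : Type v} (T : κ → D)

/-- One step of the tower: kill the kernel of `Hom(T k, X) → H(T k)`. -/
structure StepData (X : D) (x : H.obj (op X)) where
  J : Type v
  a : J → κ
  X' : D
  φ : (∐ fun j => T (a j)) ⟶ X
  f : X ⟶ X'
  h : X' ⟶ (∐ fun j => T (a j))⟦(1 : ℤ)⟧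
  x' : H.obj (op X')
  dist : Triangle.mk φ f h ∈ distTriang D
  pull_eq : pull H f x' = x
  kill : ∀ (k : κ) (g : T k ⟶ X), pull H g x = 0 → g ≫ f = 0

lemma nonempty_stepData (X : D) (x : H.obj (op X)) : Nonempty (StepData H T X x) := by
  let J := Σ k : κ, {g : T k ⟶ X // pull H g x = 0}
  let a : J → κ := fun j => j.1
  let φ : (∐ fun j => T (a j)) ⟶ X := Sigma.desc (fun j => j.2.1)
  obtain ⟨X', f, h, hT⟩ := distinguished_cocone_triangle φ
  have hφ : pull H φ x = 0 := by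
    apply prod_ext H (fun j => T (a j))
    intro j
    rw [← pull_comp, Sigma.ι_desc, map_zero]
    exact j.2.2
  obtain ⟨x', hx'⟩ := exists_of_pull_eq_zero H _ hT x hφ
  refine ⟨⟨J, a, X', φ, f, h, x', hT, hx', fun k g hg => ?_⟩⟩
  have e : g = Sigma.ι (fun j => T (a j)) ⟨k, ⟨g, hg⟩⟩ ≫ φ :=
    (Sigma.ι_desc (fun j : J => j.2.1) ⟨k, ⟨g, hg⟩⟩).symm
  have hz : φ ≫ f = 0 := comp_distTriang_mor_zero₁₂ _ hT
  rw [e, Category.assoc, hz, comp_zero]

/-- A choice of step. -/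
noncomputable def stepData (p : Σ X : D, H.obj (op X)) : StepData H T p.1 p.2 :=
  Classical.choice (nonempty_stepData H T p.1 p.2)

/-- The tower. -/
noncomputable def tower (p₀ : Σ X : D, H.obj (op X)) : ℕ → Σ X : D, H.obj (op X)
  | 0 => p₀
  | n + 1 => ⟨(stepData H T (tower p₀ n)).X', (stepData H T (tower p₀ n)).x'⟩

/-- Objects of the tower. -/
noncomputable def tX (p₀ : Σ X : D, H.obj (op X)) (n : ℕ) : D := (tower H T p₀ n).1

/-- Elements of the tower. -/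
noncomputable def tx (p₀ : Σ X : D, H.obj (op X)) (n : ℕ) : H.obj (op (tX H T p₀ n)) :=
  (tower H T p₀ n).2

/-- Transition maps of the tower. -/
noncomputable def tf (p₀ : Σ X : D, H.obj (op X)) (n : ℕ) : tX H T p₀ n ⟶ tX H T p₀ (n + 1) :=
  (stepData H T (tower H T p₀ n)).f

lemma tf_pull (p₀ : Σ X : D, H.obj (op X)) (n : ℕ) :
    pull H (tf H T p₀ n) (tx H T p₀ (n + 1)) = tx H T p₀ n :=
  (stepData H T (tower H T p₀ n)).pull_eq

lemma tf_kill (p₀ : Σ X : D, H.obj (op X)) (n : ℕ) (k : κ) (g : T k ⟶ tX H T p₀ n)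
    (hg : pull H g (tx H T p₀ n) = 0) : g ≫ tf H T p₀ n = 0 :=
  (stepData H T (tower H T p₀ n)).kill k g hg

variable (hSh : ∀ k, ∃ k', Nonempty ((T k')⟦(1 : ℤ)⟧ ≅ T k))
  (hfac : ∀ (Y : ℕ → D) (k : κ) (α : T k ⟶ ∐ Y), ∃ (j : ℕ → κ) (β : ∀ n, T (j n) ⟶ Y n)
      (γ : T k ⟶ ∐ (fun n => T (j n))), α = γ ≫ Limits.Sigma.map β)

include hSh hfac in
theorem exists_bijective_of_surjective (X₀ : D) (x₀ : H.obj (op X₀))
    (hsurj : ∀ k (y : H.obj (op (T k))), ∃ g : T k ⟶ X₀, pull H g x₀ = y) :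
    ∃ (X : D) (x : H.obj (op X)) (u : X₀ ⟶ X), pull H u x = x₀ ∧
      (∀ k (y : H.obj (op (T k))), ∃ g : T k ⟶ X, pull H g x = y) ∧
      (∀ k (g : T k ⟶ X), pull H g x = 0 → g = 0) := by
  have := natPres H
  let p₀ : Σ X : D, H.obj (op X) := ⟨X₀, x₀⟩
  let Xs := tX H T p₀
  let xs := tx H T p₀
  let fs := tf H T p₀
  obtain ⟨W, hW⟩ := prod_exists H Xs xs
  have hzero : pull H (𝟙 _ - sh Xs fs) W = 0 := by
    apply prod_ext H Xs
    intro n
    rw [← pull_comp, Preadditive.comp_sub, Category.comp_id, ι_sh, pull_sub, pull_comp, hW, hW,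
      map_zero]
    exact sub_eq_zero.2 (tf_pull H T p₀ n).symm
  obtain ⟨X, q, c, hT⟩ := distinguished_cocone_triangle (𝟙 _ - sh Xs fs)
  obtain ⟨x, hx⟩ := exists_of_pull_eq_zero H _ hT W hzero
  have hx' : pull H q x = W := hx
  let u : X₀ ⟶ X := Sigma.ι Xs 0 ≫ q
  have hu : pull H u x = x₀ := by
    change pull H (Sigma.ι Xs 0 ≫ q) x = x₀
    rw [pull_comp, hx', hW]
    rfl
  refine ⟨X, x, u, hu, ?_, ?_⟩
  · intro k y
    obtain ⟨g, hg⟩ := hsurj k y
    exact ⟨g ≫ u, by rw [pull_comp, hu, hg]⟩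
  · intro k g hg
    exact eq_zero_of_pull_eq_zero_hocolim H T Xs fs xs (tf_pull H T p₀) (tf_kill H T p₀)
      hsurj hfac W hW hSh q c hT x hx' k g hg

include hSh hfac in
theorem exists_bijective (X₀ : D) (x₀ : H.obj (op X₀)) :
    ∃ (X : D) (x : H.obj (op X)) (u : X₀ ⟶ X), pull H u x = x₀ ∧
      (∀ k (y : H.obj (op (T k))), ∃ g : T k ⟶ X, pull H g x = y) ∧
      (∀ k (g : T k ⟶ X), pull H g x = 0 → g = 0) := by
  let J := Option (Σ k : κ, H.obj (op (T k)))
  let Y : J → D := fun j => match j with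
    | none => X₀
    | some p => T p.1
  let y : ∀ j, H.obj (op (Y j)) := fun j => match j with
    | none => x₀
    | some p => p.2
  obtain ⟨z, hz⟩ := prod_exists H Y y
  obtain ⟨X, x, u', hu', hs, hi⟩ := exists_bijective_of_surjective H T hSh hfac (∐ Y) z
    (fun k t => ⟨Sigma.ι Y (some ⟨k, t⟩), hz (some ⟨k, t⟩)⟩)
  refine ⟨X, x, Sigma.ι Y none ≫ u', ?_, hs, hi⟩
  rw [pull_comp, hu']
  exact hz none

variable (hG1 : ∀ Z : D, (∀ k (f : T k ⟶ Z), f = 0) → IsZero Z)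

include hSh hG1 in
lemma isIso_of_bijective {X X' : D} (x : H.obj (op X)) (x' : H.obj (op X')) (g : X ⟶ X')
    (hg : pull H g x' = x)
    (hs : ∀ k (y : H.obj (op (T k))), ∃ a : T k ⟶ X, pull H a x = y)
    (hi : ∀ k (a : T k ⟶ X), pull H a x = 0 → a = 0)
    (hi' : ∀ k (a : T k ⟶ X'), pull H a x' = 0 → a = 0) : IsIso g := by
  obtain ⟨Z, a, b, hT⟩ := distinguished_cocone_triangle g
  have hZ : IsZero Z := by
    apply hG1
    intro k τ
    obtain ⟨k', ⟨e⟩⟩ := hSh k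
    have hτb : τ ≫ b = 0 := by
      let ξ : (T k')⟦(1 : ℤ)⟧ ⟶ X⟦(1 : ℤ)⟧ := e.hom ≫ τ ≫ b
      let σ : T k' ⟶ X := (shiftFunctor D (1 : ℤ)).preimage ξ
      have hσ : σ⟦(1 : ℤ)⟧' = ξ := Functor.map_preimage _ _
      have h1 : σ ≫ g = 0 := by
        apply (shiftFunctor D (1 : ℤ)).map_injective
        rw [Functor.map_comp, hσ, Functor.map_zero]
        have this : b ≫ g⟦(1 : ℤ)⟧' = 0 := comp_distTriang_mor_zero₃₁ _ hT
        change (e.hom ≫ τ ≫ b) ≫ _ = 0
        rw [Category.assoc, Category.assoc, this, comp_zero, comp_zero]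
      have h2 : σ = 0 := hi k' σ (by rw [← hg, ← pull_comp, h1, pull_zero])
      have h3 : ξ = 0 := by rw [← hσ, h2, Functor.map_zero]
      exact (cancel_epi e.hom).1 (by rw [comp_zero]; exact h3)
    obtain ⟨τ', hτ''⟩ : ∃ τ' : T k ⟶ X', τ = τ' ≫ a := Triangle.coyoneda_exact₃ _ hT τ hτb
    obtain ⟨ρ, hρ⟩ := hs k (pull H τ' x')
    have hρg : ρ ≫ g = τ' := by
      have := hi' k (ρ ≫ g - τ') (by rw [pull_sub, pull_comp, hg, hρ, sub_self])
      exact sub_eq_zero.1 this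
    have hz : g ≫ a = 0 := comp_distTriang_mor_zero₁₂ _ hT
    rw [hτ'', ← hρg, Category.assoc, hz, comp_zero]
  exact (Triangle.isZero₃_iff_isIso₁ _ hT).1 hZ

include hSh hfac hG1 in
/-- Brown representability for a shift-closed family satisfying (G1) and the factorization
property. -/
theorem representable : (H ⋙ forget AddCommGrpCat.{v}).IsRepresentable := by
  obtain ⟨X, x, -, -, hs, hi⟩ := exists_bijective H T hSh hfac (0 : D) 0
  have key : ∀ Y : D, Function.Bijective (fun φ : Y ⟶ X => pull H φ x) := by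
    intro Y
    constructor
    · intro φ ψ hφψ
      have hφψ' : pull H φ x = pull H ψ x := hφψ
      have hd : pull H (φ - ψ) x = 0 := by rw [pull_sub, hφψ', sub_self]
      obtain ⟨C, k, l, hT⟩ := distinguished_cocone_triangle (φ - ψ)
      obtain ⟨xC, hxC⟩ := exists_of_pull_eq_zero H _ hT x hd
      have hxC' : pull H k xC = x := hxC
      obtain ⟨X', x', j, hj, hs', hi'⟩ := exists_bijective H T hSh hfac C xC
      have hiso : IsIso (k ≫ j) := isIso_of_bijective H T hSh hG1 x x' (k ≫ j)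
        (by rw [pull_comp, hj, hxC']) hs hi hi'
      have hz : (φ - ψ) ≫ k = 0 := comp_distTriang_mor_zero₁₂ _ hT
      have h0 : (φ - ψ) ≫ (k ≫ j) = 0 := by rw [← Category.assoc, hz, zero_comp]
      have : φ - ψ = 0 := (cancel_mono (k ≫ j)).1 (by rw [h0, zero_comp])
      exact sub_eq_zero.1 this
    · intro y
      let z : H.obj (op (X ⊞ Y)) := pull H biprod.fst x + pull H biprod.snd y
      have hz1 : pull H biprod.inl z = x := by
        change pull H biprod.inl (pull H biprod.fst x + pull H biprod.snd y) = x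
        rw [map_add, ← pull_comp, ← pull_comp, biprod.inl_fst, biprod.inl_snd, pull_id,
          pull_zero, add_zero]
      have hz2 : pull H biprod.inr z = y := by
        change pull H biprod.inr (pull H biprod.fst x + pull H biprod.snd y) = y
        rw [map_add, ← pull_comp, ← pull_comp, biprod.inr_fst, biprod.inr_snd, pull_id,
          pull_zero, zero_add]
      obtain ⟨X', x', j, hj, hs', hi'⟩ := exists_bijective H T hSh hfac (X ⊞ Y) z
      have hg : pull H (biprod.inl ≫ j) x' = x := by rw [pull_comp, hj, hz1]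
      have hiso : IsIso (biprod.inl ≫ j) := isIso_of_bijective H T hSh hG1 x x'
        (biprod.inl ≫ j) hg hs hi hi'
      have hx' : pull H (inv (biprod.inl ≫ j)) x = x' := by
        rw [← hg, ← pull_comp, IsIso.inv_hom_id, pull_id]
      refine ⟨biprod.inr ≫ j ≫ inv (biprod.inl ≫ j), ?_⟩
      change pull H (biprod.inr ≫ j ≫ inv (biprod.inl ≫ j)) x = y
      rw [pull_comp, pull_comp, hx', hj, hz2]
  exact ⟨X, ⟨{ homEquiv := fun {Y} => Equiv.ofBijective _ (key Y)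
               homEquiv_comp := fun f g => pull_comp H f g x }⟩⟩

end Main

end Groth.Agent.H23.Brown
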