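import Groth.Agent.H23.Brown3

/-!
# Brown representability: reduction to a shift-closed family
-/

namespace Groth.Agent.H23.Brown

open CategoryTheory CategoryTheory.Limits CategoryTheory.Pretriangulated Opposite
open CategoryTheory.Pretriangulated.Opposite

universe w v u

variable {D : Type u} [Category.{v} D] [Preadditive D] [HasZeroObject D] [HasShift D ℤ]
  [∀ n : ℤ, (shiftFunctor D n).Additive] [Pretriangulated D]
  [HasColimitsOfShape (Discrete ℕ) D]

omit [Preadditive D] [HasZeroObject D] [∀ n : ℤ, (shiftFunctor D n).Additive]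
  [Pretriangulated D] in
/-- The factorization property is stable under shifts. -/
lemma fac_shift {ι : Type w} (E : ι → D) (i : ι)
    (hE : ∀ (X : ℕ → D) (α : E i ⟶ ∐ X), ∃ (j : ℕ → ι) (β : ∀ n, E (j n) ⟶ X n)
      (γ : E i ⟶ ∐ (fun n => E (j n))), α = γ ≫ Limits.Sigma.map β)
    (n : ℤ) (X : ℕ → D) (α : (E i)⟦n⟧ ⟶ ∐ X) :
    ∃ (j : ℕ → ι) (β : ∀ m, (E (j m))⟦n⟧ ⟶ X m)
      (γ : (E i)⟦n⟧ ⟶ ∐ (fun m => (E (j m))⟦n⟧)), α = γ ≫ Limits.Sigma.map β := by
  let F := shiftFunctor D n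
  let Y : ℕ → D := fun m => (X m)⟦-n⟧
  let e : ∀ m, F.obj (Y m) ≅ X m := fun m =>
    (shiftFunctorCompIsoId D (-n) n (by simp)).app (X m)
  let cY : (∐ fun m => F.obj (Y m)) ⟶ F.obj (∐ Y) := sigmaComparison F Y
  let α₁ : F.obj (E i) ⟶ F.obj (∐ Y) := α ≫ Limits.Sigma.map (fun m => (e m).inv) ≫ cY
  let α₀ : E i ⟶ ∐ Y := F.preimage α₁
  have hα₀ : F.map α₀ = α₁ := F.map_preimage _
  obtain ⟨j, β₀, γ₀, h⟩ := hE Y α₀
  let cE : (∐ fun m => F.obj (E (j m))) ⟶ F.obj (∐ fun m => E (j m)) :=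
    sigmaComparison F (fun m => E (j m))
  have nat : cE ≫ F.map (Limits.Sigma.map β₀) =
      Limits.Sigma.map (fun m => F.map (β₀ m)) ≫ cY := by
    apply Sigma.hom_ext
    intro m
    rw [← Category.assoc, ι_comp_sigmaComparison, ← F.map_comp, Sigma.ι_map, F.map_comp,
      Sigma.ι_map_assoc, ι_comp_sigmaComparison]
  have nat' : inv cE ≫ Limits.Sigma.map (fun m => F.map (β₀ m)) =
      F.map (Limits.Sigma.map β₀) ≫ inv cY := by
    rw [IsIso.inv_comp_eq, ← Category.assoc, nat, Category.assoc, IsIso.hom_inv_id,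
      Category.comp_id]
  refine ⟨j, fun m => F.map (β₀ m) ≫ (e m).hom, F.map γ₀ ≫ inv cE, ?_⟩
  have split : Limits.Sigma.map (fun m => F.map (β₀ m) ≫ (e m).hom) =
      Limits.Sigma.map (fun m => F.map (β₀ m)) ≫ Limits.Sigma.map (fun m => (e m).hom) :=
    (Sigma.map_comp_map _ _).symm
  have e1 : Limits.Sigma.map (fun m => (e m).inv) ≫ Limits.Sigma.map (fun m => (e m).hom) =
      𝟙 _ := by
    rw [Sigma.map_comp_map]
    simp
  calc α = α ≫ Limits.Sigma.map (fun m => (e m).inv) ≫ Limits.Sigma.map (fun m => (e m).hom) := by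
        rw [e1, Category.comp_id]
    _ = α₁ ≫ inv cY ≫ Limits.Sigma.map (fun m => (e m).hom) := by
        simp only [α₁, Category.assoc, IsIso.hom_inv_id_assoc]
    _ = F.map (γ₀ ≫ Limits.Sigma.map β₀) ≫ inv cY ≫ Limits.Sigma.map (fun m => (e m).hom) := by
        rw [← hα₀, h]
    _ = (F.map γ₀ ≫ inv cE) ≫ Limits.Sigma.map (fun m => F.map (β₀ m) ≫ (e m).hom) := by
        rw [split, F.map_comp, Category.assoc, Category.assoc, ← Category.assoc (inv cE), nat',
          Category.assoc]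

variable (H : Dᵒᵖ ⥤ AddCommGrpCat.{v}) [H.IsHomological] [HasCoproducts.{v} D]
  [∀ κ : Type v, PreservesLimitsOfShape (Discrete κ) H]

/-- Brown representability for a family satisfying (1) and (2) (not necessarily closed under
shifts). -/
theorem representable' {ι : Type v} (E : ι → D)
    (h1 : ∀ X : D, ¬ IsZero X → ∃ (i : ι) (f : E i ⟶ X), f ≠ 0)
    (h2 : ∀ (X : ℕ → D) (i : ι) (α : E i ⟶ ∐ X), ∃ (j : ℕ → ι) (β : ∀ n, E (j n) ⟶ X n)
      (γ : E i ⟶ ∐ (fun n => E (j n))), α = γ ≫ Limits.Sigma.map β) :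
    (H ⋙ forget AddCommGrpCat.{v}).IsRepresentable := by
  let T : ι × ℤ → D := fun p => (shiftFunctor D p.2).obj (E p.1)
  apply representable H T
  · rintro ⟨i, n⟩
    exact ⟨⟨i, n - 1⟩, ⟨((shiftFunctorAdd' D (n - 1) 1 n (by omega)).app (E i)).symm⟩⟩
  · rintro Y ⟨i, n⟩ α
    obtain ⟨j, β, γ, h⟩ := fac_shift E i (fun X α => h2 X i α) n Y α
    exact ⟨fun m => (j m, n), β, γ, h⟩
  · intro Z hZ
    by_contra hne
    obtain ⟨i, f, hf⟩ := h1 Z hne
    apply hf
    have h0 := hZ (i, 0) ((shiftFunctorZero D ℤ).hom.app (E i) ≫ f)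
    have : f = (shiftFunctorZero D ℤ).inv.app (E i) ≫
        ((shiftFunctorZero D ℤ).hom.app (E i) ≫ f) := by
      rw [← Category.assoc, Iso.inv_hom_id_app]
      exact (Category.id_comp f).symm
    rw [this, h0, comp_zero]

end Groth.Agent.H23.Brown
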