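import Groth.Agent.H23.Brown4
import Groth.Prelude.Def_CohDer

/-!
# Brown representability for compactly generated triangulated categories
-/

namespace Groth.Agent.H23.Brown

open CategoryTheory CategoryTheory.Limits CategoryTheory.Pretriangulated Opposite
open CategoryTheory.Pretriangulated.Opposite

universe v u

variable {D : Type u} [Category.{v} D] [Preadditive D]

lemma hasCoproductsNat [HasCoproducts.{v} D] : HasColimitsOfShape (Discrete ℕ) D :=
  hasColimitsOfShape_of_equivalence
    (Discrete.equivalence Equiv.ulift : Discrete (ULift.{v} ℕ) ≌ Discrete ℕ)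

/-- A compact object has the factorization property (with itself as the only needed member). -/
lemma fac_of_compact [HasCoproducts.{v} D] [HasColimitsOfShape (Discrete ℕ) D] (K : D)
    (hK : CohDer.IsCompactObject K) (X : ℕ → D) (α : K ⟶ ∐ X) :
    ∃ (β : ∀ n, K ⟶ X n) (γ : K ⟶ ∐ (fun _ : ℕ => K)), α = γ ≫ Limits.Sigma.map β := by
  classical
  let X' : ULift.{v} ℕ → D := fun m => X m.down
  let φ : (∐ X') ⟶ ∐ X := Sigma.desc (fun m => Sigma.ι X m.down)
  let ψ : (∐ X) ⟶ ∐ X' := Sigma.desc (fun n => Sigma.ι X' ⟨n⟩)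
  have hψφ : ψ ≫ φ = 𝟙 _ := by
    apply Sigma.hom_ext
    intro n
    rw [← Category.assoc, Sigma.ι_desc, Sigma.ι_desc, Category.comp_id]
  obtain ⟨s, hs⟩ := (hK (ULift.{v} ℕ) X').2 (α ≫ ψ)
  have hs' : α ≫ ψ = ∑ m ∈ s.support, s m ≫ Sigma.ι X' m := by
    rw [← hs]
    conv_lhs => rw [← DirectSum.sum_support_of s]
    rw [map_sum]
    apply Finset.sum_congr rfl
    intro m _
    unfold CohDer.homSumToHomCoprod
    exact DirectSum.toAddMonoid_of (β := fun i => K ⟶ X' i)
      (fun i => Preadditive.rightComp K (Sigma.ι X' i)) m (s m)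
  let S : Finset ℕ := s.support.image ULift.down
  refine ⟨fun n => s ⟨n⟩, ∑ n ∈ S, Sigma.ι (fun _ : ℕ => K) n, ?_⟩
  calc α = (α ≫ ψ) ≫ φ := by rw [Category.assoc, hψφ, Category.comp_id]
    _ = ∑ m ∈ s.support, s m ≫ Sigma.ι X m.down := by
        rw [hs', Preadditive.sum_comp]
        apply Finset.sum_congr rfl
        intro m _
        rw [Category.assoc, Sigma.ι_desc]
    _ = ∑ n ∈ S, s ⟨n⟩ ≫ Sigma.ι X n := by
        rw [Finset.sum_image]
        intro a _ b _ hab
        exact ULift.ext _ _ hab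
    _ = (∑ n ∈ S, Sigma.ι (fun _ : ℕ => K) n) ≫ Limits.Sigma.map (fun n => s ⟨n⟩) := by
        rw [Preadditive.sum_comp]
        apply Finset.sum_congr rfl
        intro n _
        rw [Sigma.ι_map]

variable [HasZeroObject D] [HasShift D ℤ]
  [∀ n : ℤ, (shiftFunctor D n).Additive] [Pretriangulated D]

/-- Brown representability for compactly generated triangulated categories. -/
theorem representable_of_compactlyGenerated [HasCoproducts.{v} D]
    (hD : CohDer.IsCompactlyGenerated D) (H : Dᵒᵖ ⥤ AddCommGrpCat.{v}) [H.IsHomological]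
    [∀ (ι : Type v), PreservesLimitsOfShape (Discrete ι) H] :
    (H ⋙ forget AddCommGrpCat.{v}).IsRepresentable := by
  obtain ⟨ι, E, hc, hg⟩ := hD
  have : HasColimitsOfShape (Discrete ℕ) D := hasCoproductsNat
  let T : ι × ℤ → D := fun p => (shiftFunctor D p.2).obj (E p.1)
  apply representable H T
  · rintro ⟨i, n⟩
    exact ⟨⟨i, n - 1⟩, ⟨((shiftFunctorAdd' D (n - 1) 1 n (by omega)).app (E i)).symm⟩⟩
  · rintro Y ⟨i, n⟩ α
    obtain ⟨j, β, γ, h⟩ := fac_shift (fun _ : Unit => E i) ()
      (fun X α => by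
        obtain ⟨β, γ, h⟩ := fac_of_compact (E i) (hc i) X α
        exact ⟨fun _ => (), β, γ, h⟩) n Y α
    exact ⟨fun _ => (i, n), β, γ, h⟩
  · intro Z hZ
    apply hg
    intro i n f
    have h0 := hZ (i, -n) (f⟦-n⟧' ≫ (shiftFunctorCompIsoId D n (-n) (by simp)).hom.app Z)
    have h1 : f⟦-n⟧' = 0 := by
      have := congrArg (fun t => t ≫ (shiftFunctorCompIsoId D n (-n) (by simp)).inv.app Z) h0
      simpa using this
    exact (shiftFunctor D (-n)).map_injective (by rw [h1, Functor.map_zero])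

end Groth.Agent.H23.Brown
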