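import Groth.Agent.H23.Brown5
import Groth.Prelude.Def_DerLim

/-!
# Every object of a compactly generated triangulated category is a homotopy colimit of a tower
built from the generators
-/

namespace Groth.Agent.H23.Brown

open CategoryTheory CategoryTheory.Limits CategoryTheory.Pretriangulated Opposite
open CategoryTheory.Pretriangulated.Opposite

universe v u

variable {D : Type u} [Category.{v} D] [Preadditive D] [HasZeroObject D] [HasShift D ℤ]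
  [∀ n : ℤ, (shiftFunctor D n).Additive] [Pretriangulated D]

section

variable (H : Dᵒᵖ ⥤ AddCommGrpCat.{v}) [H.IsHomological] [HasCoproducts.{v} D]
  [HasColimitsOfShape (Discrete ℕ) D]
  [∀ κ : Type v, PreservesLimitsOfShape (Discrete κ) H]
  {κ : Type v} (T : κ → D)
  (hSh : ∀ k, ∃ k', Nonempty ((T k')⟦(1 : ℤ)⟧ ≅ T k))
  (hfac : ∀ (Y : ℕ → D) (k : κ) (α : T k ⟶ ∐ Y), ∃ (j : ℕ → κ) (β : ∀ n, T (j n) ⟶ Y n)
      (γ : T k ⟶ ∐ (fun n => T (j n))), α = γ ≫ Limits.Sigma.map β)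

include hSh hfac in
/-- The homotopy colimit of the tower, with the tower exposed. -/
theorem exists_tower_hocolim (p₀ : Σ X : D, H.obj (op X))
    (hsurj : ∀ k (y : H.obj (op (T k))), ∃ g : T k ⟶ p₀.1, pull H g p₀.2 = y) :
    ∃ (X : D) (x : H.obj (op X)) (q : (∐ tX H T p₀) ⟶ X)
      (c : X ⟶ (∐ tX H T p₀)⟦(1 : ℤ)⟧),
      Triangle.mk (𝟙 _ - sh (tX H T p₀) (tf H T p₀)) q c ∈ distTriang D ∧
      (∀ n, pull H (Sigma.ι (tX H T p₀) n ≫ q) x = tx H T p₀ n) ∧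
      (∀ k (y : H.obj (op (T k))), ∃ g : T k ⟶ X, pull H g x = y) ∧
      (∀ k (g : T k ⟶ X), pull H g x = 0 → g = 0) := by
  have := natPres H
  let Xs := tX H T p₀
  let xs := tx H T p₀
  let fs := tf H T p₀
  obtain ⟨W, hW⟩ := prod_exists H Xs xs
  have hzero : pull H (𝟙 _ - sh Xs fs) W = 0 := by
    apply prod_ext H Xs
    intro n
    rw [← pull_comp, Preadditive.comp_sub, Category.comp_id, ι_sh, pull_sub, pull_comp, hW, hW,
      map_zero]
    exact sub_eq_zero.2 (tf_pull H T p₀ n).symm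
  obtain ⟨X, q, c, hT⟩ := distinguished_cocone_triangle (𝟙 _ - sh Xs fs)
  obtain ⟨x, hx⟩ := exists_of_pull_eq_zero H _ hT W hzero
  have hx' : pull H q x = W := hx
  have hu : ∀ n, pull H (Sigma.ι Xs n ≫ q) x = xs n := by
    intro n
    rw [pull_comp, hx', hW]
  refine ⟨X, x, q, c, hT, hu, ?_, ?_⟩
  · intro k y
    obtain ⟨g, hg⟩ := hsurj k y
    let g' : T k ⟶ Xs 0 := g
    refine ⟨g' ≫ Sigma.ι Xs 0 ≫ q, ?_⟩
    rw [pull_comp, hu 0]
    exact hg
  · intro k g hg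
    exact eq_zero_of_pull_eq_zero_hocolim H T Xs fs xs (tf_pull H T p₀) (tf_kill H T p₀)
      hsurj hfac W hW hSh q c hT x hx' k g hg

end

omit [HasZeroObject D] [HasShift D ℤ] [∀ n : ℤ, (shiftFunctor D n).Additive]
  [Pretriangulated D] in
lemma pull_yoneda (X : D) {Y Y' : D} (f : Y ⟶ Y') (g : Y' ⟶ X) :
    pull (preadditiveYoneda.obj X) f g = f ≫ g := rfl

theorem exists_tower_of_compactGenerators [HasCoproducts.{v} D]
    [HasColimitsOfShape (Discrete ℕ) D]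
    {ι : Type v} (E : ι → D) (hc : ∀ i, CohDer.IsCompactObject (E i)) (hg : CohDer.Generates E)
    (X : D) :
    ∃ (K : ℕ → D) (f : ∀ n, K n ⟶ K (n + 1)) (i : ∀ n, K n ⟶ X),
      DerLim.IsHocolim K f X i ∧
      (∃ (κ : Type v) (a : κ → ι) (m : κ → ℤ),
        Nonempty (K 0 ≅ ∐ (fun k => (shiftFunctor D (m k)).obj (E (a k))))) ∧
      ∀ n, ∃ (κ : Type v) (a : κ → ι) (m : κ → ℤ)
        (y : (∐ fun k => (shiftFunctor D (m k)).obj (E (a k))) ⟶ K n)
        (z : K (n + 1) ⟶ (shiftFunctor D (1 : ℤ)).obj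
          (∐ fun k => (shiftFunctor D (m k)).obj (E (a k)))),
        Triangle.mk y (f n) z ∈ distTriang D := by
  let T : ι × ℤ → D := fun p => (shiftFunctor D p.2).obj (E p.1)
  let H : Dᵒᵖ ⥤ AddCommGrpCat.{v} := preadditiveYoneda.obj X
  have hSh : ∀ k, ∃ k', Nonempty ((T k')⟦(1 : ℤ)⟧ ≅ T k) := by
    rintro ⟨i, n⟩
    exact ⟨⟨i, n - 1⟩, ⟨((shiftFunctorAdd' D (n - 1) 1 n (by omega)).app (E i)).symm⟩⟩
  have hfac : ∀ (Y : ℕ → D) (k : ι × ℤ) (α : T k ⟶ ∐ Y), ∃ (j : ℕ → ι × ℤ)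
      (β : ∀ n, T (j n) ⟶ Y n) (γ : T k ⟶ ∐ (fun n => T (j n))),
      α = γ ≫ Limits.Sigma.map β := by
    rintro Y ⟨i, n⟩ α
    obtain ⟨j, β, γ, h⟩ := fac_shift (fun _ : Unit => E i) ()
      (fun X α => by
        obtain ⟨β, γ, h⟩ := fac_of_compact (E i) (hc i) X α
        exact ⟨fun _ => (), β, γ, h⟩) n Y α
    exact ⟨fun _ => (i, n), β, γ, h⟩
  have hG1 : ∀ Z : D, (∀ k (f : T k ⟶ Z), f = 0) → IsZero Z := by
    intro Z hZ
    apply hg
    intro i n f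
    have h0 := hZ (i, -n) (f⟦-n⟧' ≫ (shiftFunctorCompIsoId D n (-n) (by simp)).hom.app Z)
    have h1 : f⟦-n⟧' = 0 := by
      have := congrArg (fun t => t ≫ (shiftFunctorCompIsoId D n (-n) (by simp)).inv.app Z) h0
      simpa using this
    exact (shiftFunctor D (-n)).map_injective (by rw [h1, Functor.map_zero])
  -- the initial pair
  let J₀ := Σ k : ι × ℤ, (T k ⟶ X)
  let X₀ : D := ∐ (fun p : J₀ => T p.1)
  let x₀ : X₀ ⟶ X := Sigma.desc (fun p : J₀ => p.2)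
  let p₀ : Σ Y : D, H.obj (op Y) := ⟨X₀, x₀⟩
  have hsurj : ∀ k (y : H.obj (op (T k))), ∃ g : T k ⟶ p₀.1, pull H g p₀.2 = y := by
    intro k y
    refine ⟨Sigma.ι (fun p : J₀ => T p.1) ⟨k, y⟩, ?_⟩
    exact Sigma.ι_desc (fun p : J₀ => p.2) ⟨k, y⟩
  obtain ⟨X', x', q, c, hT, hu, hs, hi⟩ := exists_tower_hocolim H T hSh hfac p₀ hsurj
  let g : X' ⟶ X := x'
  have hiso : IsIso g := isIso_of_bijective H T hSh hG1 x' (𝟙 X : X ⟶ X) g
    (Category.comp_id g) hs hi (fun k a ha => by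
      have : a ≫ 𝟙 X = 0 := ha
      rwa [Category.comp_id] at this)
  let K := tX H T p₀
  let f := tf H T p₀
  let i : ∀ n, K n ⟶ X := fun n => tx H T p₀ n
  have hqg : Sigma.desc i = q ≫ g := by
    apply Sigma.hom_ext
    intro n
    rw [Sigma.ι_desc, ← Category.assoc]
    exact (hu n).symm
  refine ⟨K, f, i, ?_, ?_, ?_⟩
  · refine ⟨inv g ≫ c, ?_⟩
    have hT' : Triangle.mk (𝟙 (∐ K) - DerLim.shiftMap K f) q c ∈ distTriang D := hT
    refine isomorphic_distinguished _ hT' _ ?_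
    refine Triangle.isoMk _ _ (Iso.refl _) (Iso.refl _) (asIso g).symm ?_ ?_ ?_
    · show (𝟙 (∐ K) - DerLim.shiftMap K f) ≫ 𝟙 (∐ K) =
        𝟙 (∐ K) ≫ (𝟙 (∐ K) - DerLim.shiftMap K f)
      rw [Category.comp_id, Category.id_comp]
    · show Sigma.desc i ≫ inv g = 𝟙 (∐ K) ≫ q
      rw [hqg, Category.assoc, IsIso.hom_inv_id, Category.comp_id, Category.id_comp]
    · show (inv g ≫ c) ≫ (𝟙 (∐ K))⟦(1 : ℤ)⟧' = inv g ≫ c
      rw [CategoryTheory.Functor.map_id, Category.comp_id]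
  · exact ⟨J₀, fun p => p.1.1, fun p => p.1.2, ⟨Iso.refl _⟩⟩
  · intro n
    let sd := stepData H T (tower H T p₀ n)
    exact ⟨sd.J, fun j => (sd.a j).1, fun j => (sd.a j).2, sd.φ, sd.h, sd.dist⟩

end Groth.Agent.H23.Brown
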