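import Mathlib

/-!
# Short exact sequences of complexes which are injective on cohomology (helper23)

If `0 ⟶ X₁ ⟶ X₂ ⟶ X₃ ⟶ 0` is a short exact sequence of cochain complexes such that
`H(X₁) ⟶ H(X₂)` is a monomorphism in every degree, then the induced sequences of terms, of cycles and
of cohomology objects are all short exact.
-/

set_option autoImplicit false
set_option backward.isDefEq.respectTransparency false

namespace Groth.Agent.H23.CE

open CategoryTheory CategoryTheory.Limits

universe v u

variable {A : Type u} [Category.{v} A] [Abelian A]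
  (S : ShortComplex (CochainComplex A ℤ)) (hS : S.ShortExact)

include hS

lemma eval_shortExact (p : ℤ) :
    (S.map (HomologicalComplex.eval A (ComplexShape.up ℤ) p)).ShortExact :=
  hS.map_of_exact _

lemma mono_f_f (p : ℤ) : Mono (S.f.f p) := (eval_shortExact S hS p).mono_f

lemma epi_g_f (p : ℤ) : Epi (S.g.f p) := (eval_shortExact S hS p).epi_g

lemma mono_cyclesMap_f (p : ℤ) : Mono (HomologicalComplex.cyclesMap S.f p) := by
  haveI := mono_f_f S hS p
  haveI : Mono (HomologicalComplex.cyclesMap S.f p ≫ S.X₂.iCycles p) := by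
    rw [HomologicalComplex.cyclesMap_i]
    infer_instance
  exact mono_of_mono (HomologicalComplex.cyclesMap S.f p) (S.X₂.iCycles p)

lemma exact_cycles (p : ℤ) :
    (ShortComplex.mk (HomologicalComplex.cyclesMap S.f p) (HomologicalComplex.cyclesMap S.g p)
      (by rw [← HomologicalComplex.cyclesMap_comp, S.zero,
        HomologicalComplex.cyclesMap_zero])).Exact := by
  haveI := hS.mono_f
  exact HomologicalComplex.cycles_left_exact S hS.exact p

variable (hH : ∀ p, Mono (HomologicalComplex.homologyMap S.f p))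

include hH

lemma epi_homologyMap_g (p : ℤ) : Epi (HomologicalComplex.homologyMap S.g p) := by
  haveI := hH (p + 1)
  have hij : (ComplexShape.up ℤ).Rel p (p + 1) := by simp
  have hδ : hS.δ p (p + 1) hij = 0 := by
    rw [← cancel_mono (HomologicalComplex.homologyMap S.f (p + 1)), zero_comp]
    exact hS.δ_comp p (p + 1) hij
  exact (hS.homology_exact₃ p (p + 1) hij).epi_f hδ

lemma epi_cyclesMap_g_succ (i : ℤ) : Epi (HomologicalComplex.cyclesMap S.g (i + 1)) := by
  haveI := epi_homologyMap_g S hS hH (i + 1)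
  haveI : Epi (S.g.f i) := epi_g_f S hS i
  rw [epi_iff_surjective_up_to_refinements]
  intro T z'
  obtain ⟨T₁, π₁, _, z, hz⟩ := surjective_up_to_refinements_of_epi
    (S.X₂.homologyπ (i + 1) ≫ HomologicalComplex.homologyMap S.g (i + 1))
    (z' ≫ S.X₃.homologyπ (i + 1))
  have hz2 : (π₁ ≫ z' - z ≫ HomologicalComplex.cyclesMap S.g (i + 1)) ≫
      S.X₃.homologyπ (i + 1) = 0 := by
    rw [Preadditive.sub_comp, Category.assoc, Category.assoc, hz,
      HomologicalComplex.homologyπ_naturality, sub_self]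
  have hex : (ShortComplex.mk (S.X₃.toCycles i (i + 1)) (S.X₃.homologyπ (i + 1))
      (S.X₃.toCycles_comp_homologyπ i (i + 1))).Exact :=
    ShortComplex.exact_of_g_is_cokernel _ (S.X₃.homologyIsCokernel i (i + 1) (by simp))
  obtain ⟨T₂, π₂, _, y', hy'⟩ := hex.exact_up_to_refinements _ hz2
  obtain ⟨T₃, π₃, _, y, hy⟩ := surjective_up_to_refinements_of_epi (S.g.f i) y'
  dsimp at hy'
  have nat : S.X₂.toCycles i (i + 1) ≫ HomologicalComplex.cyclesMap S.g (i + 1) =
      S.g.f i ≫ S.X₃.toCycles i (i + 1) := by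
    rw [← cancel_mono (S.X₃.iCycles (i + 1))]
    simp
  refine ⟨T₃, π₃ ≫ π₂ ≫ π₁, inferInstance, π₃ ≫ π₂ ≫ z + y ≫ S.X₂.toCycles i (i + 1), ?_⟩
  rw [Preadditive.add_comp, Category.assoc y, nat, ← Category.assoc y, ← hy, Category.assoc π₃ y',
    ← hy', Preadditive.comp_sub, Preadditive.comp_sub]
  simp only [Category.assoc]
  abel

lemma epi_cyclesMap_g (p : ℤ) : Epi (HomologicalComplex.cyclesMap S.g p) := by
  obtain ⟨i, rfl⟩ : ∃ i, p = i + 1 := ⟨p - 1, by ring⟩
  exact epi_cyclesMap_g_succ S hS hH i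

end Groth.Agent.H23.CE
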