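import Mathlib

/-!
# One step of a Cartan–Eilenberg resolution (helper23)

For a cochain complex `M` in an abelian category with enough injectives we construct a complex
`Nof M` with injective terms, injective cycles and injective cohomology, together with a
monomorphism `uMap M : M ⟶ Nof M` which is injective on cohomology.
-/

set_option autoImplicit false
set_option backward.isDefEq.respectTransparency false

namespace Groth.Agent.H23.CE

open CategoryTheory CategoryTheory.Limits ZeroObject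

universe v u

variable {A : Type u} [Category.{v} A] [Abelian A]

section Alg

/-- the differential of the auxiliary complex -/
noncomputable def δ (b₀ h₀ b₁ h₁ b₂ : A) : (b₀ ⊞ h₀) ⊞ b₁ ⟶ (b₁ ⊞ h₁) ⊞ b₂ :=
  biprod.snd ≫ biprod.inl ≫ biprod.inl

variable {b₀ h₀ b₁ h₁ b₂ h₂ b₃ : A}

lemma δ_δ : δ b₀ h₀ b₁ h₁ b₂ ≫ δ b₁ h₁ b₂ h₂ b₃ = 0 := by simp [δ]

lemma snd_of_δ {T : A} (x : T ⟶ (b₀ ⊞ h₀) ⊞ b₁) (hx : x ≫ δ b₀ h₀ b₁ h₁ b₂ = 0) :
    x ≫ biprod.snd = 0 := by
  have := hx =≫ (biprod.fst ≫ biprod.fst)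
  simpa [δ] using this

lemma eq_of_snd {T a b : A} (x : T ⟶ a ⊞ b) (hx : x ≫ biprod.snd = 0) :
    x ≫ biprod.fst ≫ biprod.inl = x := by
  apply biprod.hom_ext <;> simp [hx]

lemma inl_δ : (biprod.inl : b₀ ⊞ h₀ ⟶ (b₀ ⊞ h₀) ⊞ b₁) ≫ δ b₀ h₀ b₁ h₁ b₂ = 0 := by simp [δ]

lemma cyc_of_δ {T : A} (x : T ⟶ (b₀ ⊞ h₀) ⊞ b₁) (hx : x ≫ δ b₀ h₀ b₁ h₁ b₂ = 0) :
    x ≫ biprod.fst ≫ biprod.inl = x := eq_of_snd x (snd_of_δ x hx)

lemma st_alg : (biprod.inr ≫ biprod.inl : h₁ ⟶ (b₁ ⊞ h₁) ⊞ b₂) ≫ (biprod.fst ≫ biprod.snd) = 𝟙 h₁ := by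
  simp

lemma sd_alg : (biprod.inr ≫ biprod.inl : h₁ ⟶ (b₁ ⊞ h₁) ⊞ b₂) ≫ δ b₁ h₁ b₂ h₂ b₃ = 0 := by
  simp [δ]

lemma dt_alg : δ b₀ h₀ b₁ h₁ b₂ ≫ (biprod.fst ≫ biprod.snd) = 0 := by simp [δ]

lemma dec_alg {T : A} (x : T ⟶ (b₁ ⊞ h₁) ⊞ b₂) (hx : x ≫ δ b₁ h₁ b₂ h₂ b₃ = 0) :
    x ≫ (biprod.fst ≫ biprod.snd) ≫ (biprod.inr ≫ biprod.inl) +
      x ≫ (biprod.fst ≫ biprod.fst ≫ biprod.inr) ≫ δ b₀ h₀ b₁ h₁ b₂ = x := by
  have h := snd_of_δ x hx
  apply biprod.hom_ext
  · apply biprod.hom_ext <;> simp [δ]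
  · simp [δ, h]

lemma isZero_biprod {a b : A} (ha : IsZero a) (hb : IsZero b) : IsZero (a ⊞ b) :=
  IsZero.of_iso ha (isoBiprodZero hb).symm

end Alg

section General

/-- if the cycles are a retract onto an injective object, they are injective -/
lemma injective_cycles_of_retract (K : CochainComplex A ℤ) (p : ℤ) {a : A} [Injective a]
    (i : a ⟶ K.X p) (r : K.X p ⟶ a) (hir : i ≫ r = 𝟙 a) (hid : i ≫ K.d p (p + 1) = 0)
    (hx : ∀ {T : A} (x : T ⟶ K.X p), x ≫ K.d p (p + 1) = 0 → x ≫ r ≫ i = x) :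
    Injective (K.cycles p) := by
  have hn : (ComplexShape.up ℤ).next p = p + 1 := by simp
  let e : K.cycles p ≅ a :=
    { hom := K.iCycles p ≫ r
      inv := K.liftCycles i (p + 1) hn hid
      hom_inv_id := by
        rw [← cancel_mono (K.iCycles p), Category.assoc, Category.assoc, K.liftCycles_i,
          Category.id_comp]
        exact hx _ (K.iCycles_d p (p + 1))
      inv_hom_id := by
        rw [← Category.assoc, K.liftCycles_i, hir] }
  exact Injective.of_iso e.symm inferInstance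

variable (K : CochainComplex A ℤ) (j : ℤ) {h : A} (s : h ⟶ K.X (j + 1)) (t : K.X (j + 1) ⟶ h)
  (c : K.X (j + 1) ⟶ K.X j)

/-- the map from cohomology induced by a map killing boundaries -/
noncomputable def qH (dt : K.d j (j + 1) ≫ t = 0) : K.homology (j + 1) ⟶ h :=
  (K.homologyIsCokernel j (j + 1) (by simp)).desc (CokernelCofork.ofπ (K.iCycles (j + 1) ≫ t)
    (by rw [← Category.assoc, K.toCycles_i, dt]))

lemma π_qH (dt : K.d j (j + 1) ≫ t = 0) :
    K.homologyπ (j + 1) ≫ qH K j t dt = K.iCycles (j + 1) ≫ t := by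
  unfold qH
  exact Cofork.IsColimit.π_desc (K.homologyIsCokernel j (j + 1) (by simp))

lemma isIso_qH (dt : K.d j (j + 1) ≫ t = 0) (st : s ≫ t = 𝟙 h)
    (sd : s ≫ K.d (j + 1) (j + 1 + 1) = 0)
    (dec : ∀ {T : A} (x : T ⟶ K.X (j + 1)), x ≫ K.d (j + 1) (j + 1 + 1) = 0 →
      x ≫ t ≫ s + x ≫ c ≫ K.d j (j + 1) = x) : IsIso (qH K j t dt) := by
  have hn : (ComplexShape.up ℤ).next (j + 1) = j + 1 + 1 := by simp
  refine ⟨K.liftCycles s (j + 1 + 1) hn sd ≫ K.homologyπ (j + 1), ?_, ?_⟩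
  · have key : 𝟙 (K.cycles (j + 1)) = (K.iCycles (j + 1) ≫ t) ≫ K.liftCycles s (j + 1 + 1) hn sd +
        (K.iCycles (j + 1) ≫ c) ≫ K.toCycles j (j + 1) := by
      rw [← cancel_mono (K.iCycles (j + 1))]
      simp only [Preadditive.add_comp, Category.assoc, K.liftCycles_i, K.toCycles_i,
        Category.id_comp]
      exact (dec _ (K.iCycles_d (j + 1) (j + 1 + 1))).symm
    have h2 := congrArg (fun φ => φ ≫ K.homologyπ (j + 1)) key
    simp only [Category.id_comp, Preadditive.add_comp, Category.assoc,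
      K.toCycles_comp_homologyπ, comp_zero, add_zero] at h2
    rw [← cancel_epi (K.homologyπ (j + 1)), ← Category.assoc, π_qH, Category.comp_id,
      Category.assoc]
    exact h2.symm
  · rw [Category.assoc, π_qH, ← Category.assoc, K.liftCycles_i, st]

end General

section Inj

variable [EnoughInjectives A]

lemma exists_inj (X : A) :
    ∃ (J : A) (i : X ⟶ J), Injective J ∧ Mono i ∧ (IsZero X → IsZero J) := by
  by_cases h : IsZero X
  · exact ⟨0, 0, inferInstance, ⟨fun _ _ _ => h.eq_of_tgt _ _⟩, fun _ => isZero_zero A⟩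
  · exact ⟨Injective.under X, Injective.ι X, inferInstance, inferInstance, fun h' => (h h').elim⟩

/-- an injective object containing `X`, which is zero when `X` is zero -/
noncomputable def Ju (X : A) : A := (exists_inj X).choose

/-- the embedding into `Ju X` -/
noncomputable def ιu (X : A) : X ⟶ Ju X := (exists_inj X).choose_spec.choose

instance (X : A) : Injective (Ju X) := (exists_inj X).choose_spec.choose_spec.1

instance (X : A) : Mono (ιu X) := (exists_inj X).choose_spec.choose_spec.2.1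

lemma isZero_Ju {X : A} (h : IsZero X) : IsZero (Ju X) :=
  (exists_inj X).choose_spec.choose_spec.2.2 h

variable (M : CochainComplex A ℤ)

/-- the boundaries, as the kernel of the projection from cycles to cohomology -/
noncomputable abbrev Bd (p : ℤ) : A := kernel (M.homologyπ p)

noncomputable def JB (p : ℤ) : A := Ju (Bd M p)

noncomputable def JH (p : ℤ) : A := Ju (M.homology p)

instance (p : ℤ) : Injective (JB M p) := by unfold JB; infer_instance

instance (p : ℤ) : Injective (JH M p) := by unfold JH; infer_instance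

noncomputable abbrev NX (p : ℤ) : A := (JB M p ⊞ JH M p) ⊞ JB M (p + 1)

noncomputable def Nd (p : ℤ) : NX M p ⟶ NX M (p + 1) := δ _ _ _ _ _

/-- the target complex -/
noncomputable def Nof : CochainComplex A ℤ :=
  CochainComplex.of (NX M) (Nd M) (fun _ => δ_δ)

lemma Nof_d (p : ℤ) : (Nof M).d p (p + 1) = Nd M p := by
  unfold Nof
  exact CochainComplex.of_d _ _ p

noncomputable def βm (p : ℤ) : M.X p ⟶ JB M p :=
  Injective.factorThru (ιu (Bd M p)) (kernel.ι (M.homologyπ p) ≫ M.iCycles p)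

lemma βm_fac (p : ℤ) : kernel.ι (M.homologyπ p) ≫ M.iCycles p ≫ βm M p = ιu (Bd M p) := by
  rw [← Category.assoc]
  exact Injective.comp_factorThru _ _

noncomputable def ηm (p : ℤ) : M.X p ⟶ JH M p :=
  Injective.factorThru (M.homologyπ p ≫ ιu (M.homology p)) (M.iCycles p)

lemma ηm_fac (p : ℤ) : M.iCycles p ≫ ηm M p = M.homologyπ p ≫ ιu (M.homology p) :=
  Injective.comp_factorThru _ _

noncomputable def bm (p : ℤ) : M.X p ⟶ Bd M (p + 1) :=
  kernel.lift (M.homologyπ (p + 1)) (M.toCycles p (p + 1)) (M.toCycles_comp_homologyπ p (p + 1))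

lemma bm_ι (p : ℤ) : bm M p ≫ kernel.ι (M.homologyπ (p + 1)) = M.toCycles p (p + 1) :=
  kernel.lift_ι _ _ _

noncomputable def γm (p : ℤ) : M.X p ⟶ JB M (p + 1) := bm M p ≫ ιu (Bd M (p + 1))

lemma d_βm (p : ℤ) : M.d p (p + 1) ≫ βm M (p + 1) = γm M p := by
  rw [← M.toCycles_i p (p + 1), ← bm_ι, Category.assoc, Category.assoc, βm_fac]
  rfl

lemma d_ηm (p : ℤ) : M.d p (p + 1) ≫ ηm M (p + 1) = 0 := by
  rw [← M.toCycles_i p (p + 1), Category.assoc, ηm_fac, ← Category.assoc,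
    M.toCycles_comp_homologyπ, zero_comp]

lemma d_bm (p : ℤ) : M.d p (p + 1) ≫ bm M (p + 1) = 0 := by
  rw [← cancel_mono (kernel.ι (M.homologyπ (p + 1 + 1))), Category.assoc, bm_ι, zero_comp]
  simp

lemma d_γm (p : ℤ) : M.d p (p + 1) ≫ γm M (p + 1) = 0 := by
  unfold γm
  rw [← Category.assoc, d_bm, zero_comp]

noncomputable def uf (p : ℤ) : M.X p ⟶ NX M p :=
  biprod.lift (biprod.lift (βm M p) (ηm M p)) (γm M p)

lemma uf_snd (p : ℤ) : uf M p ≫ biprod.snd = γm M p := by simp [uf]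

lemma uf_fst_fst (p : ℤ) : uf M p ≫ biprod.fst ≫ biprod.fst = βm M p := by simp [uf]

lemma uf_fst_snd (p : ℤ) : uf M p ≫ biprod.fst ≫ biprod.snd = ηm M p := by simp [uf]

lemma ucomm (p : ℤ) : uf M p ≫ Nd M p = M.d p (p + 1) ≫ uf M (p + 1) := by
  apply biprod.hom_ext
  · apply biprod.hom_ext
    · simp [Nd, δ, uf, d_βm]
    · simp [Nd, δ, uf, d_ηm]
  · simp [Nd, δ, uf, d_γm]

/-- the embedding of `M` into `Nof M` -/
noncomputable def uMap : M ⟶ Nof M where
  f p := uf M p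
  comm' i j hij := by
    obtain rfl : i + 1 = j := hij
    rw [Nof_d]
    exact ucomm M i

lemma mono_uf (p : ℤ) : Mono (uf M p) := by
  apply Preadditive.mono_of_cancel_zero
  intro T x hx
  have h1 : x ≫ βm M p = 0 := by rw [← uf_fst_fst, ← Category.assoc, hx, zero_comp]
  have h2 : x ≫ ηm M p = 0 := by rw [← uf_fst_snd, ← Category.assoc, hx, zero_comp]
  have h3 : x ≫ γm M p = 0 := by rw [← uf_snd, ← Category.assoc, hx, zero_comp]
  have h4 : x ≫ bm M p = 0 := by
    rw [← cancel_mono (ιu (Bd M (p + 1))), Category.assoc, zero_comp]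
    exact h3
  have h4' : x ≫ M.toCycles p (p + 1) = 0 := by
    rw [← bm_ι, ← Category.assoc, h4, zero_comp]
  have h5 : x ≫ M.d p (p + 1) = 0 := by
    rw [← M.toCycles_i p (p + 1), ← Category.assoc, h4', zero_comp]
  have hn : (ComplexShape.up ℤ).next p = p + 1 := by simp
  have h6 : M.liftCycles x (p + 1) hn h5 ≫ M.homologyπ p = 0 := by
    rw [← cancel_mono (ιu (M.homology p)), Category.assoc, ← ηm_fac, M.liftCycles_i_assoc,
      zero_comp]
    exact h2
  have h7 : kernel.lift (M.homologyπ p) _ h6 ≫ ιu (Bd M p) = 0 := by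
    rw [← βm_fac, kernel.lift_ι_assoc, M.liftCycles_i_assoc]
    exact h1
  have h8 : kernel.lift (M.homologyπ p) _ h6 = 0 := by
    rw [← cancel_mono (ιu (Bd M p)), zero_comp]
    exact h7
  have h9 : M.liftCycles x (p + 1) hn h5 = 0 := by
    have := kernel.lift_ι (M.homologyπ p) _ h6
    rw [h8, zero_comp] at this
    exact this.symm
  calc x = M.liftCycles x (p + 1) hn h5 ≫ M.iCycles p := (M.liftCycles_i x (p + 1) hn h5).symm
    _ = 0 := by rw [h9, zero_comp]

instance (p : ℤ) : Mono ((uMap M).f p) := mono_uf M p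

instance : Mono (uMap M) := HomologicalComplex.mono_of_mono_f _ (fun p => mono_uf M p)

instance (p : ℤ) : Injective ((Nof M).X p) := by
  show Injective (NX M p)
  infer_instance

/-- inclusion of the cycles of `Nof M` -/
noncomputable def iN (p : ℤ) : JB M p ⊞ JH M p ⟶ (Nof M).X p :=
  (biprod.inl : JB M p ⊞ JH M p ⟶ NX M p)

/-- retraction onto the cycles of `Nof M` -/
noncomputable def rN (p : ℤ) : (Nof M).X p ⟶ JB M p ⊞ JH M p :=
  (biprod.fst : NX M p ⟶ JB M p ⊞ JH M p)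

instance (p : ℤ) : Injective ((Nof M).cycles p) := by
  refine injective_cycles_of_retract (Nof M) p (iN M p) (rN M p) ?_ ?_ ?_
  · exact biprod.inl_fst
  · rw [Nof_d]
    exact inl_δ
  · intro T x hx
    rw [Nof_d] at hx
    exact cyc_of_δ x hx

noncomputable def sN (j : ℤ) : JH M (j + 1) ⟶ (Nof M).X (j + 1) :=
  (biprod.inr ≫ biprod.inl : JH M (j + 1) ⟶ NX M (j + 1))

noncomputable def tN (j : ℤ) : (Nof M).X (j + 1) ⟶ JH M (j + 1) :=
  (biprod.fst ≫ biprod.snd : NX M (j + 1) ⟶ JH M (j + 1))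

noncomputable def cN (j : ℤ) : (Nof M).X (j + 1) ⟶ (Nof M).X j :=
  (biprod.fst ≫ biprod.fst ≫ biprod.inr : NX M (j + 1) ⟶ NX M j)

lemma dtN (j : ℤ) : (Nof M).d j (j + 1) ≫ tN M j = 0 := by
  rw [Nof_d]
  exact dt_alg

/-- the comparison of the cohomology of `Nof M` with `JH` -/
noncomputable def qN (j : ℤ) : (Nof M).homology (j + 1) ⟶ JH M (j + 1) :=
  qH (Nof M) j (tN M j) (dtN M j)

instance (j : ℤ) : IsIso (qN M j) := by
  refine isIso_qH (Nof M) j (sN M j) (tN M j) (cN M j) (dtN M j) ?_ ?_ ?_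
  · exact st_alg
  · rw [Nof_d]
    exact sd_alg
  · intro T x hx
    rw [Nof_d] at hx ⊢
    exact dec_alg x hx

lemma injective_homology_Nof (p : ℤ) : Injective ((Nof M).homology p) := by
  obtain ⟨j, rfl⟩ : ∃ j, p = j + 1 := ⟨p - 1, by ring⟩
  exact Injective.of_iso (asIso (qN M j)).symm inferInstance

lemma homologyMap_uMap_qN (j : ℤ) :
    HomologicalComplex.homologyMap (uMap M) (j + 1) ≫ qN M j = ιu (M.homology (j + 1)) := by
  have e1 : (uMap M).f (j + 1) ≫ tN M j = ηm M (j + 1) := uf_fst_snd M (j + 1)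
  rw [← cancel_epi (M.homologyπ (j + 1)), HomologicalComplex.homologyπ_naturality_assoc]
  unfold qN
  rw [π_qH, HomologicalComplex.cyclesMap_i_assoc, e1, ηm_fac]

lemma mono_homologyMap_uMap (p : ℤ) : Mono (HomologicalComplex.homologyMap (uMap M) p) := by
  obtain ⟨j, rfl⟩ : ∃ j, p = j + 1 := ⟨p - 1, by ring⟩
  exact mono_of_mono_fac (homologyMap_uMap_qN M j)

lemma isZero_Bd (n : ℤ) (hM : ∀ i < n, IsZero (M.X i)) (p : ℤ) (hp : p ≤ n) :
    IsZero (Bd M p) := by
  have hd : M.d (p - 1) p = 0 := (hM (p - 1) (by omega)).eq_of_src _ _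
  haveI := M.isIso_homologyπ (p - 1) p (by simp) hd
  exact isZero_kernel_of_mono _

lemma isZero_homology_of_lt (n : ℤ) (hM : ∀ i < n, IsZero (M.X i)) (p : ℤ) (hp : p < n) :
    IsZero (M.homology p) :=
  ShortComplex.isZero_homology_of_isZero_X₂ _ (hM p hp)

lemma isZero_Nof_X (n : ℤ) (hM : ∀ i < n, IsZero (M.X i)) (p : ℤ) (hp : p < n) :
    IsZero ((Nof M).X p) := by
  show IsZero (NX M p)
  exact isZero_biprod (isZero_biprod (isZero_Ju (isZero_Bd M n hM p hp.le))
    (isZero_Ju (isZero_homology_of_lt M n hM p hp)))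
    (isZero_Ju (isZero_Bd M n hM (p + 1) (by omega)))

end Inj

end Groth.Agent.H23.CE
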