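import Groth.Agent.H23.CESplice
import Groth.Agent.H23.CEStep
import Groth.Agent.H23.CEExact

/-!
# Existence of Cartan–Eilenberg resolutions (helper23)
-/

set_option autoImplicit false
set_option backward.isDefEq.respectTransparency false

namespace Groth.Agent.H23.CE

open CategoryTheory CategoryTheory.Limits

universe v u

variable {A : Type u} [Category.{v} A] [Abelian A] [EnoughInjectives A]

instance cyclesFunctor_additive {A : Type u} [Category.{v} A] [Abelian A] (p : ℤ) :
    (HomologicalComplex.cyclesFunctor A (ComplexShape.up ℤ) p).Additive where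
  map_add {K L f g} := by
    show HomologicalComplex.cyclesMap (f + g) p =
      HomologicalComplex.cyclesMap f p + HomologicalComplex.cyclesMap g p
    rw [← cancel_mono (L.iCycles p)]
    simp [Preadditive.add_comp, Preadditive.comp_add]

/-- the successive cokernels -/
noncomputable def Mseq (K : CochainComplex A ℤ) (q : ℕ) : CochainComplex A ℤ :=
  Nat.rec (motive := fun _ => CochainComplex A ℤ) K (fun _ prev => cokernel (uMap prev)) q

noncomputable def Nseq (K : CochainComplex A ℤ) (q : ℕ) : CochainComplex A ℤ := Nof (Mseq K q)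

noncomputable def useq (K : CochainComplex A ℤ) (q : ℕ) : Mseq K q ⟶ Nseq K q := uMap (Mseq K q)

noncomputable def vseq (K : CochainComplex A ℤ) (q : ℕ) : Nseq K q ⟶ Mseq K (q + 1) :=
  cokernel.π (uMap (Mseq K q))

lemma uv (K : CochainComplex A ℤ) (q : ℕ) : useq K q ≫ vseq K q = 0 := cokernel.condition _

noncomputable def Sseq (K : CochainComplex A ℤ) (q : ℕ) : ShortComplex (CochainComplex A ℤ) :=
  ShortComplex.mk (useq K q) (vseq K q) (uv K q)

lemma Sseq_shortExact (K : CochainComplex A ℤ) (q : ℕ) : (Sseq K q).ShortExact := by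
  have h1 : Mono (Sseq K q).f := by
    show Mono (uMap (Mseq K q))
    infer_instance
  have h2 : Epi (Sseq K q).g := by
    show Epi (cokernel.π (uMap (Mseq K q)))
    infer_instance
  exact ShortComplex.ShortExact.mk'
    (ShortComplex.exact_of_g_is_cokernel _ (cokernelIsCokernel (uMap (Mseq K q)))) h1 h2

lemma Sseq_hH (K : CochainComplex A ℤ) (q : ℕ) (p : ℤ) :
    Mono (HomologicalComplex.homologyMap (Sseq K q).f p) :=
  mono_homologyMap_uMap (Mseq K q) p

lemma Mseq_isZero (K : CochainComplex A ℤ) (n : ℤ) (hK : ∀ i < n, IsZero (K.X i)) (q : ℕ) :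
    ∀ i < n, IsZero ((Mseq K q).X i) := by
  induction q with
  | zero => exact hK
  | succ q ih =>
    intro i hi
    haveI : Epi ((vseq K q).f i) := epi_g_f (Sseq K q) (Sseq_shortExact K q) i
    exact IsZero.of_epi ((vseq K q).f i) (isZero_Nof_X (Mseq K q) n ih i hi)

theorem exists_CE (K : CochainComplex A ℤ) (n : ℤ) [K.IsStrictlyGE n] :
    ∃ (I : CochainComplex (CochainComplex A ℤ) ℤ) (ε : K ⟶ I.X 0) (hε : ε ≫ I.d 0 1 = 0),
      (∃ i : ℤ, ∀ p q : ℤ, p < i → IsZero ((I.X q).X p)) ∧
      (∀ p : ℤ, CE.IsInjResolutionVia (((HomologicalComplex.eval A (ComplexShape.up ℤ) p).mapHomologicalComplex (ComplexShape.up ℤ)).obj I) (K.X p) (ε.f p)) ∧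
      (∀ p : ℤ, CE.IsInjResolutionVia (((HomologicalComplex.cyclesFunctor A (ComplexShape.up ℤ) p).mapHomologicalComplex (ComplexShape.up ℤ)).obj I) (K.cycles p) (HomologicalComplex.cyclesMap ε p)) ∧
      (∀ p : ℤ, CE.IsInjResolutionVia (((HomologicalComplex.homologyFunctor A (ComplexShape.up ℤ) p).mapHomologicalComplex (ComplexShape.up ℤ)).obj I) (K.homology p) (HomologicalComplex.homologyMap ε p)) := by
  have hK : ∀ i < n, IsZero (K.X i) := fun i hi => K.isZero_of_isStrictlyGE n i hi
  refine ⟨spl (Mseq K) (Nseq K) (useq K) (vseq K) (uv K), useq K 0, ?_, ⟨n, ?_⟩, ?_, ?_, ?_⟩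
  · have h0 : (spl (Mseq K) (Nseq K) (useq K) (vseq K) (uv K)).d 0 1 = vseq K 0 ≫ useq K 1 :=
      spl_d (Mseq K) (Nseq K) (useq K) (vseq K) (uv K) 0
    have h1 : useq K 0 ≫ vseq K 0 ≫ useq K 1 = 0 := by
      rw [← Category.assoc, uv, zero_comp]
    rw [h0]
    exact h1
  · intro p q hp
    cases q with
    | ofNat k => exact isZero_Nof_X (Mseq K k) n (Mseq_isZero K n hK k) p hp
    | negSucc k =>
      exact (HomologicalComplex.eval A (ComplexShape.up ℤ) p).map_isZero
        (isZero_zero (CochainComplex A ℤ))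
  · intro p
    exact isInjResolutionVia_spl (HomologicalComplex.eval A (ComplexShape.up ℤ) p)
      (Mseq K) (Nseq K) (useq K) (vseq K) (uv K)
      (fun q => mono_f_f (Sseq K q) (Sseq_shortExact K q) p)
      (fun q => epi_g_f (Sseq K q) (Sseq_shortExact K q) p)
      (fun q => (eval_shortExact (Sseq K q) (Sseq_shortExact K q) p).exact)
      (fun q => by
        show Injective ((Nof (Mseq K q)).X p)
        infer_instance)
  · intro p
    exact isInjResolutionVia_spl (HomologicalComplex.cyclesFunctor A (ComplexShape.up ℤ) p)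
      (Mseq K) (Nseq K) (useq K) (vseq K) (uv K)
      (fun q => mono_cyclesMap_f (Sseq K q) (Sseq_shortExact K q) p)
      (fun q => epi_cyclesMap_g (Sseq K q) (Sseq_shortExact K q) (Sseq_hH K q) p)
      (fun q => exact_cycles (Sseq K q) (Sseq_shortExact K q) p)
      (fun q => by
        show Injective ((Nof (Mseq K q)).cycles p)
        infer_instance)
  · intro p
    exact isInjResolutionVia_spl (HomologicalComplex.homologyFunctor A (ComplexShape.up ℤ) p)
      (Mseq K) (Nseq K) (useq K) (vseq K) (uv K)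
      (fun q => Sseq_hH K q p)
      (fun q => epi_homologyMap_g (Sseq K q) (Sseq_shortExact K q) (Sseq_hH K q) p)
      (fun q => (Sseq_shortExact K q).homology_exact₂ p)
      (fun q => injective_homology_Nof (Mseq K q) p)

end Groth.Agent.H23.CE
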