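import Mathlib
import Groth.Prelude.Def_CE

/-!
# Splicing short exact sequences into a resolution (helper23)

Generic part of the construction of Cartan–Eilenberg resolutions: a `ℤ`-indexed complex built from
`ℕ`-indexed data, and the fact that an additive functor which is exact on the spliced short exact
sequences and sends the middle terms to injectives produces an injective resolution.
-/

set_option autoImplicit false

namespace Groth.Agent.H23.CE

open CategoryTheory CategoryTheory.Limits ZeroObject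

universe v u v' u'

section Splice

variable {V : Type u} [Category.{v} V] [HasZeroMorphisms V] [HasZeroObject V]

/-- objects of the spliced complex -/
noncomputable def zX (N : ℕ → V) : ℤ → V
  | Int.ofNat q => N q
  | Int.negSucc _ => 0

/-- differentials of the spliced complex -/
noncomputable def zd (N : ℕ → V) (d : ∀ q, N q ⟶ N (q + 1)) : ∀ q : ℤ, zX N q ⟶ zX N (q + 1)
  | Int.ofNat q => d q
  | Int.negSucc _ => 0

lemma zd_sq (N : ℕ → V) (d : ∀ q, N q ⟶ N (q + 1)) (sq : ∀ q, d q ≫ d (q + 1) = 0) (q : ℤ) :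
    zd N d q ≫ zd N d (q + 1) = 0 := by
  cases q with
  | ofNat q => exact sq q
  | negSucc q => exact zero_comp

/-- the `ℤ`-indexed complex with `N q` in degree `q ≥ 0` and zero in negative degrees -/
noncomputable def splice (N : ℕ → V) (d : ∀ q, N q ⟶ N (q + 1)) (sq : ∀ q, d q ≫ d (q + 1) = 0) :
    CochainComplex V ℤ :=
  CochainComplex.of (zX N) (zd N d) (zd_sq N d sq)

lemma splice_d (N : ℕ → V) (d : ∀ q, N q ⟶ N (q + 1)) (sq : ∀ q, d q ≫ d (q + 1) = 0) (q : ℕ) :
    (splice N d sq).d (q : ℤ) ((q : ℤ) + 1) = d q := by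
  unfold splice
  exact CochainComplex.of_d (zX N) (zd N d) (q : ℤ)

lemma isZero_splice_X (N : ℕ → V) (d : ∀ q, N q ⟶ N (q + 1)) (sq : ∀ q, d q ≫ d (q + 1) = 0)
    (q : ℤ) (hq : q < 0) : IsZero ((splice N d sq).X q) := by
  obtain ⟨k, rfl⟩ := Int.eq_negSucc_of_lt_zero hq
  exact isZero_zero V

end Splice

section ExactSplice

variable {A : Type u} [Category.{v} A] [Abelian A]

lemma exact_splice {X₁ X₂ X₃ W Y : A} {f : X₁ ⟶ X₂} {g : X₂ ⟶ X₃} {w : f ≫ g = 0}
    (h : (ShortComplex.mk f g w).Exact) (e : W ⟶ X₁) [Epi e] (m : X₃ ⟶ Y) [Mono m]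
    (f' : W ⟶ X₂) (g' : X₂ ⟶ Y) (hf' : f' = e ≫ f) (hg' : g' = g ≫ m) (w' : f' ≫ g' = 0) :
    (ShortComplex.mk f' g' w').Exact := by
  subst hf' hg'
  rw [ShortComplex.exact_iff_exact_up_to_refinements]
  intro T x hx
  dsimp at x hx ⊢
  have hx' : x ≫ g = 0 := by rw [← cancel_mono m, Category.assoc, hx, zero_comp]
  obtain ⟨T₁, π₁, hπ₁, y, hy⟩ := h.exact_up_to_refinements x hx'
  obtain ⟨T₂, π₂, hπ₂, y₂, hy₂⟩ := surjective_up_to_refinements_of_epi e y
  dsimp at hy
  refine ⟨T₂, π₂ ≫ π₁, inferInstance, y₂, ?_⟩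
  rw [Category.assoc, hy, ← Category.assoc, hy₂, Category.assoc]

end ExactSplice

section Resolution

variable {𝒞 : Type u} [Category.{v} 𝒞] [Preadditive 𝒞] [HasZeroObject 𝒞]
  {A : Type u'} [Category.{v'} A] [Abelian A]
  (T : 𝒞 ⥤ A) [T.Additive]
  (M N : ℕ → 𝒞) (u : ∀ q, M q ⟶ N q) (v : ∀ q, N q ⟶ M (q + 1)) (huv : ∀ q, u q ≫ v q = 0)

/-- the spliced complex `N 0 ⟶ N 1 ⟶ ...` -/
noncomputable def spl : CochainComplex 𝒞 ℤ :=
  splice N (fun q => v q ≫ u (q + 1)) (fun q => by
    rw [Category.assoc, ← Category.assoc (u (q + 1)), huv, zero_comp, comp_zero])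

lemma spl_d (q : ℕ) : (spl M N u v huv).d (q : ℤ) ((q : ℤ) + 1) = v q ≫ u (q + 1) := by
  unfold spl
  exact splice_d _ _ _ q

lemma isZero_spl_X (q : ℤ) (hq : q < 0) : IsZero ((spl M N u v huv).X q) :=
  isZero_splice_X _ _ _ q hq

theorem isInjResolutionVia_spl
    (hmono : ∀ q, Mono (T.map (u q))) (hepi : ∀ q, Epi (T.map (v q)))
    (hex : ∀ q, (ShortComplex.mk (T.map (u q)) (T.map (v q))
      (by rw [← T.map_comp, huv, T.map_zero])).Exact)
    (hinj : ∀ q, Injective (T.obj (N q))) :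
    CE.IsInjResolutionVia ((T.mapHomologicalComplex (ComplexShape.up ℤ)).obj (spl M N u v huv))
      (T.obj (M 0)) (T.map (u 0)) := by
  have hd : ∀ q : ℕ, ((T.mapHomologicalComplex (ComplexShape.up ℤ)).obj (spl M N u v huv)).d
      (q : ℤ) ((q : ℤ) + 1) = T.map (v q) ≫ T.map (u (q + 1)) := by
    intro q
    have h1 := spl_d M N u v huv q
    have h2 : T.map ((spl M N u v huv).d (q : ℤ) ((q : ℤ) + 1)) = T.map (v q ≫ u (q + 1)) :=
      congrArg (fun φ => T.map φ) h1
    exact h2.trans (T.map_comp _ _)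
  have hd0 : ((T.mapHomologicalComplex (ComplexShape.up ℤ)).obj (spl M N u v huv)).d 0 1 =
      T.map (v 0) ≫ T.map (u 1) := hd 0
  refine ⟨?_, ?_, ?_, ?_, hmono 0, ?_⟩
  · have h0 : T.map (u 0) ≫ T.map (v 0) ≫ T.map (u 1) = 0 := by
      rw [← Category.assoc, ← T.map_comp, huv, T.map_zero, zero_comp]
    rw [hd0]
    exact h0
  · rw [CochainComplex.isStrictlyGE_iff]
    intro i hi
    exact T.map_isZero (isZero_spl_X M N u v huv i hi)
  · intro q
    cases q with
    | ofNat q => exact hinj q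
    | negSucc q => exact (T.map_isZero (isZero_zero 𝒞)).injective
  · intro q hq
    rcases lt_trichotomy q 0 with h | h | h
    · exact ShortComplex.exact_of_isZero_X₂ _ (T.map_isZero (isZero_spl_X M N u v huv q h))
    · exact (hq h).elim
    · obtain ⟨k, rfl⟩ : ∃ k : ℕ, q = (k : ℤ) + 1 := ⟨(q - 1).toNat, by omega⟩
      have hp : (ComplexShape.up ℤ).prev ((k : ℤ) + 1) = (k : ℤ) := by simp
      have hn : (ComplexShape.up ℤ).next ((k : ℤ) + 1) = (k : ℤ) + 1 + 1 := by simp
      rw [HomologicalComplex.exactAt_iff' _ _ _ _ hp hn]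
      haveI := hepi k
      haveI := hmono (k + 1 + 1)
      exact exact_splice (hex (k + 1)) (T.map (v k)) (T.map (u (k + 1 + 1))) _ _ (hd k)
        (hd (k + 1)) _
  · haveI := hmono 1
    exact exact_splice (hex 0) (𝟙 _) (T.map (u 1)) _ _ (Category.id_comp _).symm hd0 _

end Resolution

end Groth.Agent.H23.CE
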