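import Mathlib
import Groth.Prelude.Def_CohDer

/-!
# Compact objects in (pre)triangulated categories with coproducts
`FinFactor K`: every map from `K` to a coproduct factors through finitely many summands.
-/

set_option autoImplicit false
universe v u u'
open CategoryTheory CategoryTheory.Limits CategoryTheory.Pretriangulated ZeroObject

namespace Groth.Agent.H23.Compact

open Classical

section basic
variable {D : Type u} [Category.{v} D] [Preadditive D] [HasCoproducts.{v} D]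

/-- the idempotent endomorphism of `∐ X` keeping the summands in `T` -/
noncomputable def eT {ι : Type v} (X : ι → D) (T : Finset ι) : (∐ X) ⟶ (∐ X) :=
  ∑ k ∈ T, Sigma.π X k ≫ Sigma.ι X k

/-- projection (with classical decidability fixed) -/
noncomputable def pr {ι : Type v} (X : ι → D) (k : ι) : (∐ X) ⟶ X k := Sigma.π X k

@[reassoc (attr := simp)]
lemma ι_pr_self {ι : Type v} (X : ι → D) (k : ι) : Sigma.ι X k ≫ pr X k = 𝟙 _ :=
  Sigma.ι_π_eq_id X k

@[reassoc]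
lemma ι_pr_of_ne {ι : Type v} (X : ι → D) {j k : ι} (h : j ≠ k) :
    Sigma.ι X j ≫ pr X k = 0 := Sigma.ι_π_of_ne X h

lemma eT_eq {ι : Type v} (X : ι → D) (T : Finset ι) :
    eT X T = ∑ k ∈ T, pr X k ≫ Sigma.ι X k := rfl

lemma eT_insert {ι : Type v} (X : ι → D) {k : ι} {T : Finset ι} (hk : k ∉ T) :
    eT X (insert k T) = Sigma.π X k ≫ Sigma.ι X k + eT X T := Finset.sum_insert hk

lemma ι_eT_of_mem {ι : Type v} (X : ι → D) {k : ι} {T : Finset ι} (hk : k ∈ T) :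
    Sigma.ι X k ≫ eT X T = Sigma.ι X k := by
  unfold eT
  rw [Preadditive.comp_sum, Finset.sum_eq_single k]
  · rw [Sigma.ι_π_eq_id_assoc]
  · intro j _ hjk
    rw [Sigma.ι_π_of_ne_assoc X (Ne.symm hjk), zero_comp]
  · intro h
    exact absurd hk h

lemma ι_eT_of_not_mem {ι : Type v} (X : ι → D) {k : ι} {T : Finset ι} (hk : k ∉ T) :
    Sigma.ι X k ≫ eT X T = 0 := by
  unfold eT
  rw [Preadditive.comp_sum]
  refine Finset.sum_eq_zero (fun j hj => ?_)
  have hkj : k ≠ j := fun h => hk (h ▸ hj)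
  rw [Sigma.ι_π_of_ne_assoc X hkj, zero_comp]

lemma eT_comp_eT {ι : Type v} (X : ι → D) {T T' : Finset ι} (h : T ⊆ T') :
    eT X T ≫ eT X T' = eT X T := by
  apply Sigma.hom_ext
  intro k
  by_cases hk : k ∈ T
  · rw [← Category.assoc, ι_eT_of_mem X hk, ι_eT_of_mem X (h hk)]
  · rw [← Category.assoc, ι_eT_of_not_mem X hk, zero_comp]

lemma comp_eT_of_subset {ι : Type v} {X : ι → D} {K : D} {φ : K ⟶ ∐ X} {T T' : Finset ι}
    (hT : φ ≫ eT X T = φ) (h : T ⊆ T') : φ ≫ eT X T' = φ := by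
  conv_lhs => rw [← hT]
  rw [Category.assoc, eT_comp_eT X h, hT]

/-- every map to a coproduct factors through finitely many summands -/
def FinFactor (K : D) : Prop :=
  ∀ (ι : Type v) (X : ι → D) (φ : K ⟶ ∐ X), ∃ T : Finset ι, φ ≫ eT X T = φ

lemma homSum_of {K : D} {ι : Type v} (X : ι → D) (i : ι) (f : K ⟶ X i) :
    CohDer.homSumToHomCoprod K X (DirectSum.of (fun i => K ⟶ X i) i f) = f ≫ Sigma.ι X i := by
  unfold CohDer.homSumToHomCoprod
  simp
  rfl

lemma finFactor_of_compact {K : D} (hK : CohDer.IsCompactObject K) : FinFactor K := by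
  intro ι X φ
  obtain ⟨x, rfl⟩ := (hK ι X).2 φ
  induction x using DirectSum.induction_on with
  | zero => exact ⟨∅, by simp⟩
  | of i f =>
    exact ⟨{i}, by rw [homSum_of, Category.assoc, ι_eT_of_mem X (Finset.mem_singleton_self i)]⟩
  | add x y hx hy =>
    obtain ⟨T₁, h₁⟩ := hx
    obtain ⟨T₂, h₂⟩ := hy
    refine ⟨T₁ ∪ T₂, ?_⟩
    rw [map_add, Preadditive.add_comp, comp_eT_of_subset h₁ Finset.subset_union_left,
      comp_eT_of_subset h₂ Finset.subset_union_right]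

lemma compact_of_finFactor {K : D} (hK : FinFactor K) : CohDer.IsCompactObject K := by
  intro ι X
  have key : ∀ (k : ι) (x : DirectSum ι (fun i => K ⟶ X i)),
      CohDer.homSumToHomCoprod K X x ≫ Sigma.π X k = x k := by
    intro k x
    induction x using DirectSum.induction_on with
    | zero => simp
    | of i f =>
      rw [homSum_of, Category.assoc]
      by_cases hik : i = k
      · subst hik
        rw [Sigma.ι_π_eq_id, Category.comp_id, DirectSum.of_eq_same]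
      · rw [Sigma.ι_π_of_ne X hik, comp_zero, DirectSum.of_eq_of_ne _ _ _ (Ne.symm hik)]
    | add x y hx hy => rw [map_add, Preadditive.add_comp, hx, hy, DirectSum.add_apply]
  constructor
  · rw [injective_iff_map_eq_zero]
    intro x hx
    refine DFinsupp.ext (fun k => ?_)
    rw [← key k x, hx, zero_comp]
    rfl
  · intro φ
    obtain ⟨T, hT⟩ := hK ι X φ
    refine ⟨∑ k ∈ T, DirectSum.of (fun i => K ⟶ X i) k (φ ≫ Sigma.π X k), ?_⟩
    have h1 : φ ≫ eT X T = ∑ k ∈ T, (φ ≫ Sigma.π X k) ≫ Sigma.ι X k := by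
      unfold eT
      rw [Preadditive.comp_sum]
      simp only [Category.assoc]
    rw [map_sum]
    simp only [homSum_of]
    rw [← h1, hT]

lemma FinFactor.of_retract {K L : D} (hK : FinFactor K) (r : Retract L K) : FinFactor L := by
  intro ι X φ
  obtain ⟨T, hT⟩ := hK ι X (r.r ≫ φ)
  refine ⟨T, ?_⟩
  have h1 : r.i ≫ (r.r ≫ φ) ≫ eT X T = r.i ≫ r.r ≫ φ := by rw [hT]
  simpa using h1

lemma FinFactor.of_iso {K L : D} (hK : FinFactor K) (e : K ≅ L) : FinFactor L :=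
  hK.of_retract ⟨e.inv, e.hom, e.inv_hom_id⟩

lemma finFactor_of_isZero {K : D} (hK : IsZero K) : FinFactor K := by
  intro ι X φ
  exact ⟨∅, by rw [hK.eq_of_src φ 0, zero_comp]⟩

lemma sigmaComparison_map_pr {D' : Type u'} [Category.{v} D'] [Preadditive D']
    [HasCoproducts.{v} D'] (F : D ⥤ D') [F.PreservesZeroMorphisms] {ι : Type v} (X : ι → D)
    (k : ι) : sigmaComparison F X ≫ F.map (pr X k) = pr (fun k => F.obj (X k)) k := by
  apply Sigma.hom_ext
  intro j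
  rw [ι_comp_sigmaComparison_assoc, ← F.map_comp]
  by_cases hjk : j = k
  · subst hjk
    rw [ι_pr_self, ι_pr_self, F.map_id]
  · rw [ι_pr_of_ne X hjk, ι_pr_of_ne _ hjk, F.map_zero]

lemma sigmaComparison_map_eT {D' : Type u'} [Category.{v} D'] [Preadditive D']
    [HasCoproducts.{v} D'] (F : D ⥤ D') [F.Additive] {ι : Type v} (X : ι → D)
    (T : Finset ι) : sigmaComparison F X ≫ F.map (eT X T) =
      eT (fun k => F.obj (X k)) T ≫ sigmaComparison F X := by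
  rw [eT_eq, eT_eq, F.map_sum, Preadditive.comp_sum, Preadditive.sum_comp]
  refine Finset.sum_congr rfl (fun k _ => ?_)
  rw [F.map_comp, ← Category.assoc, sigmaComparison_map_pr F X k, Category.assoc,
    ι_comp_sigmaComparison]

lemma finFactor_of_map {D' : Type u'} [Category.{v} D'] [Preadditive D'] [HasCoproducts.{v} D']
    (F : D ⥤ D') [F.Additive] [F.Faithful]
    [∀ (ι : Type v) (X : ι → D), PreservesColimit (Discrete.functor X) F] {L : D}
    (h : FinFactor (F.obj L)) : FinFactor L := by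
  intro ι X φ
  have hπ : ∀ k, sigmaComparison F X ≫ F.map (Sigma.π X k) =
      Sigma.π (fun k => F.obj (X k)) k := by
    intro k
    apply Sigma.hom_ext
    intro j
    rw [ι_comp_sigmaComparison_assoc, ← F.map_comp]
    by_cases hjk : j = k
    · subst hjk
      rw [Sigma.ι_π_eq_id, Sigma.ι_π_eq_id, F.map_id]
    · rw [Sigma.ι_π_of_ne X hjk, Sigma.ι_π_of_ne _ hjk, F.map_zero]
  have key : ∀ T : Finset ι, sigmaComparison F X ≫ F.map (eT X T) =
      eT (fun k => F.obj (X k)) T ≫ sigmaComparison F X := by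
    intro T
    unfold eT
    rw [F.map_sum, Preadditive.comp_sum, Preadditive.sum_comp]
    refine Finset.sum_congr rfl (fun k _ => ?_)
    rw [F.map_comp, ← Category.assoc, hπ, Category.assoc, ι_comp_sigmaComparison]
  obtain ⟨T, hT⟩ := h ι (fun k => F.obj (X k)) (F.map φ ≫ inv (sigmaComparison F X))
  refine ⟨T, F.map_injective ?_⟩
  rw [F.map_comp]
  calc F.map φ ≫ F.map (eT X T)
      = (F.map φ ≫ inv (sigmaComparison F X)) ≫
          (sigmaComparison F X ≫ F.map (eT X T)) := by simp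
    _ = ((F.map φ ≫ inv (sigmaComparison F X)) ≫ eT (fun k => F.obj (X k)) T) ≫
          sigmaComparison F X := by rw [key T]; simp only [Category.assoc]
    _ = F.map φ := by rw [hT]; simp

variable [HasZeroObject D] [HasShift D ℤ] [∀ n : ℤ, (shiftFunctor D n).Additive]

lemma finFactor_shift {K : D} (hK : FinFactor K) (n : ℤ) : FinFactor (K⟦n⟧) := by
  apply finFactor_of_map (shiftFunctor D (-n))
  exact hK.of_iso ((shiftFunctorCompIsoId D n (-n) (add_neg_cancel n)).app K).symm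

variable [Pretriangulated D]

lemma FinFactor.ext₂ (T : Triangle D) (hT : T ∈ distTriang D) (h₁ : FinFactor T.obj₁)
    (h₃ : FinFactor T.obj₃) : FinFactor T.obj₂ := by
  intro ι X φ
  obtain ⟨T₁, hT₁⟩ := h₁ ι X (T.mor₁ ≫ φ)
  have h0 : T.mor₁ ≫ (φ - φ ≫ eT X T₁) = 0 := by
    rw [Preadditive.comp_sub, ← Category.assoc, hT₁, sub_self]
  obtain ⟨θ, hθ⟩ := Triangle.yoneda_exact₂ T hT _ h0
  obtain ⟨T₂, hT₂⟩ := h₃ ι X θ
  refine ⟨T₁ ∪ T₂, ?_⟩
  have e1 : φ = φ ≫ eT X T₁ + T.mor₂ ≫ θ := by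
    rw [← hθ]
    abel
  have a1 : (φ ≫ eT X T₁) ≫ eT X (T₁ ∪ T₂) = φ ≫ eT X T₁ := by
    rw [Category.assoc, eT_comp_eT X Finset.subset_union_left]
  have a2 : θ ≫ eT X (T₁ ∪ T₂) = θ := comp_eT_of_subset hT₂ Finset.subset_union_right
  calc φ ≫ eT X (T₁ ∪ T₂) = (φ ≫ eT X T₁ + T.mor₂ ≫ θ) ≫ eT X (T₁ ∪ T₂) := by rw [← e1]
    _ = φ ≫ eT X T₁ + T.mor₂ ≫ θ := by rw [Preadditive.add_comp, a1, Category.assoc, a2]
    _ = φ := e1.symm

/-- `FinFactor` as an object property -/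
def finFactorProp : ObjectProperty D := fun K => FinFactor K

instance : (finFactorProp (D := D)).IsStableUnderRetracts where
  of_retract r h := FinFactor.of_retract h r

instance : (finFactorProp (D := D)).IsTriangulated where
  exists_zero := ⟨0, isZero_zero D, finFactor_of_isZero (isZero_zero D)⟩
  isStableUnderShiftBy n := ⟨fun K hK => finFactor_shift hK n⟩
  ext₂' T hT h₁ h₃ := ObjectProperty.le_isoClosure _ _ (FinFactor.ext₂ T hT h₁ h₃)

end basic

section envelope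
variable {D : Type u} [Category.{v} D] [Preadditive D] [HasZeroObject D] [HasShift D ℤ]
  [∀ n : ℤ, (shiftFunctor D n).Additive] [Pretriangulated D] [IsTriangulated D]
  {ι : Type v} (E : ι → D)

/-- the property "is one of the `E i`, `i ∈ s`" -/
def PS (s : Finset ι) : ObjectProperty D := fun Y => ∃ i ∈ s, Y = E i

lemma PS_mono {s s' : Finset ι} (h : s ⊆ s') : PS E s ≤ PS E s' :=
  fun _ ⟨i, hi, e⟩ => ⟨i, h hi, e⟩

lemma PS_nonempty {s : Finset ι} {i : ι} (hi : i ∈ s) : (PS E s).Nonempty := ⟨E i, i, hi, rfl⟩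

/-- in the triangulated envelope of finitely many of the `E i` -/
def FE (A : D) : Prop := ∃ s : Finset ι, (PS E s).triangEnvelope A

variable {E}

lemma FE.enlarge {A : D} (h : FE E A) (s₀ : Finset ι) :
    ∃ s, s₀ ⊆ s ∧ (PS E s).triangEnvelope A := by
  obtain ⟨s, hs⟩ := h
  exact ⟨s₀ ∪ s, Finset.subset_union_left,
    ObjectProperty.monotone_triangEnvelope (PS_mono E Finset.subset_union_right) _ hs⟩

variable (E) in
lemma FE_of (i : ι) : FE E (E i) :=
  ⟨{i}, ObjectProperty.le_triangEnvelope _ _ ⟨i, Finset.mem_singleton_self i, rfl⟩⟩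

lemma FE.shift {A : D} (h : FE E A) (n : ℤ) : FE E (A⟦n⟧) := by
  obtain ⟨s, hs⟩ := h
  exact ⟨s, (PS E s).triangEnvelope.le_shift n _ hs⟩

lemma FE.of_retract {A B : D} (h : FE E B) (r : Retract A B) : FE E A := by
  obtain ⟨s, hs⟩ := h
  exact ⟨s, (PS E s).triangEnvelope.prop_of_retract r hs⟩

variable (E) in
lemma FE_of_isZero [Nonempty ι] {Z : D} (hZ : IsZero Z) : FE E Z := by
  obtain ⟨i₀⟩ := ‹Nonempty ι›
  haveI := PS_nonempty E (Finset.mem_singleton_self i₀)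
  exact ⟨{i₀}, ObjectProperty.prop_of_isZero _ hZ⟩

lemma FE.ext₂ (T : Triangle D) (hT : T ∈ distTriang D) (h₁ : FE E T.obj₁) (h₃ : FE E T.obj₃) :
    FE E T.obj₂ := by
  obtain ⟨s₁, hs₁⟩ := h₁
  obtain ⟨s, hss, hs₃⟩ := h₃.enlarge s₁
  have hs₁' := ObjectProperty.monotone_triangEnvelope (PS_mono E hss) _ hs₁
  exact ⟨s, (PS E s).triangEnvelope.ext_of_isTriangulatedClosed₂ T hT hs₁' hs₃⟩

lemma FE.ext₃ (T : Triangle D) (hT : T ∈ distTriang D) (h₁ : FE E T.obj₁) (h₂ : FE E T.obj₂) :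
    FE E T.obj₃ :=
  FE.ext₂ _ (rot_of_distTriang _ hT) h₂ (h₁.shift 1)

lemma FE.biprod {A B : D} (hA : FE E A) (hB : FE E B) : FE E (A ⊞ B) :=
  FE.ext₂ _ (binaryBiproductTriangle_distinguished A B) hA hB

variable [HasCoproducts.{v} D]

lemma FE.finFactor (hc : ∀ i, FinFactor (E i)) {A : D} (h : FE E A) : FinFactor A := by
  obtain ⟨s, hs⟩ := h
  have h1 : PS E s ≤ finFactorProp := by
    rintro Y ⟨i, _, rfl⟩
    exact hc i
  exact (ObjectProperty.triangEnvelope_le_iff (PS E s)).2 h1 _ hs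

lemma factor_coprod [Nonempty ι] {C : D} (hC : FinFactor C) {κ : Type v} (Y : κ → D)
    (hY : ∀ k, FE E (Y k)) (φ : C ⟶ ∐ Y) :
    ∃ (E' : D) (g : C ⟶ E') (h : E' ⟶ ∐ Y), FE E E' ∧ g ≫ h = φ := by
  obtain ⟨T, hT⟩ := hC κ Y φ
  have main : ∀ T : Finset κ, ∃ (E' : D) (g : C ⟶ E') (h : E' ⟶ ∐ Y),
      FE E E' ∧ g ≫ h = φ ≫ eT Y T := by
    intro T
    induction T using Finset.induction_on with
    | empty => exact ⟨0, 0, 0, FE_of_isZero E (isZero_zero D), by simp [eT]⟩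
    | insert k T hk ih =>
      obtain ⟨E'', g'', h'', hE'', hgh⟩ := ih
      refine ⟨Y k ⊞ E'', biprod.lift (φ ≫ Sigma.π Y k) g'', biprod.desc (Sigma.ι Y k) h'',
        FE.biprod (hY k) hE'', ?_⟩
      rw [biprod.lift_desc, hgh, eT_insert Y hk, Preadditive.comp_add, Category.assoc]
  obtain ⟨E', g, h, hE', hgh⟩ := main T
  exact ⟨E', g, h, hE', hgh.trans hT⟩

theorem main [Nonempty ι] (hc : ∀ i, FinFactor (E i))
    (K : ℕ → D) (f : ∀ n, K n ⟶ K (n + 1))
    (h0 : ∃ (κ : Type v) (a : κ → ι) (m : κ → ℤ),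
      Nonempty (K 0 ≅ ∐ (fun k => (shiftFunctor D (m k)).obj (E (a k)))))
    (hstep : ∀ n, ∃ (κ : Type v) (a : κ → ι) (m : κ → ℤ)
      (y : (∐ fun k => (shiftFunctor D (m k)).obj (E (a k))) ⟶ K n)
      (z : K (n + 1) ⟶ (shiftFunctor D (1 : ℤ)).obj
        (∐ fun k => (shiftFunctor D (m k)).obj (E (a k)))),
      Triangle.mk y (f n) z ∈ distinguishedTriangles)
    (n : ℕ) : ∀ (C : D) (_ : FinFactor C) (φ : C ⟶ K n),
      ∃ (E' : D) (g : C ⟶ E') (h : E' ⟶ K n), FE E E' ∧ g ≫ h = φ := by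
  induction n with
  | zero =>
    intro C hC φ
    obtain ⟨κ, a, m, ⟨e⟩⟩ := h0
    obtain ⟨E', g, h, hE', hgh⟩ := factor_coprod hC _
      (fun k => (FE_of E (a k)).shift (m k)) (φ ≫ e.hom)
    exact ⟨E', g, h ≫ e.inv, hE', by
      rw [← Category.assoc, hgh, Category.assoc, e.hom_inv_id, Category.comp_id]⟩
  | succ n ih =>
    intro C hC φ
    obtain ⟨κ, a, m, y, z, hT₂⟩ := hstep n
    have hC1 : FinFactor (C⟦(-1 : ℤ)⟧) := finFactor_shift hC (-1)
    obtain ⟨ε, _⟩ : ∃ ε : (C⟦(-1 : ℤ)⟧)⟦(1 : ℤ)⟧ ≅ C, True :=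
      ⟨(shiftFunctorCompIsoId D (-1 : ℤ) 1 (by simp)).app C, trivial⟩
    obtain ⟨ψ, hψ⟩ := (shiftFunctor D (1 : ℤ)).map_surjective (ε.hom ≫ φ ≫ z)
    obtain ⟨Y', g₁, j, hY', hg₁j⟩ := factor_coprod hC1 _
      (fun k => (FE_of E (a k)).shift (m k)) ψ
    obtain ⟨c, hc'⟩ : ∃ c : C ⟶ Y'⟦(1 : ℤ)⟧, c ≫ j⟦(1 : ℤ)⟧' = φ ≫ z := by
      refine ⟨ε.inv ≫ g₁⟦(1 : ℤ)⟧', ?_⟩
      rw [Category.assoc, ← CategoryTheory.Functor.map_comp, hg₁j, hψ, Iso.inv_hom_id_assoc]
    obtain ⟨C', a', b, hT₁⟩ := distinguished_cocone_triangle₂ c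
    have hC' : FinFactor C' := FinFactor.ext₂ _ hT₁ (hY'.finFactor hc) hC
    obtain ⟨θ, hθ₁', _⟩ : ∃ θ : C' ⟶ K n, a' ≫ θ = j ≫ y ∧ b ≫ φ = θ ≫ f n :=
      complete_distinguished_triangle_morphism₂ _ _ hT₁ hT₂ j φ hc'
    obtain ⟨E'', g'', h'', hE'', hgh''⟩ := ih C' hC' θ
    obtain ⟨E₁, u, w, hT₃⟩ := distinguished_cocone_triangle (a' ≫ g'')
    have hE₁ : FE E E₁ := FE.ext₃ _ hT₃ hY' hE''
    obtain ⟨G, _, hG₂⟩ : ∃ G : C ⟶ E₁, b ≫ G = g'' ≫ u ∧ c ≫ (𝟙 Y')⟦(1 : ℤ)⟧' = G ≫ w :=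
      complete_distinguished_triangle_morphism _ _ hT₁ hT₃ (𝟙 Y') g''
        (by
          show a' ≫ g'' = 𝟙 Y' ≫ a' ≫ g''
          rw [Category.id_comp])
    have hGw : G ≫ w = c := by
      rw [CategoryTheory.Functor.map_id, Category.comp_id] at hG₂
      exact hG₂.symm
    obtain ⟨H, _, hH₂⟩ : ∃ H : E₁ ⟶ K (n + 1), u ≫ H = h'' ≫ f n ∧
        w ≫ j⟦(1 : ℤ)⟧' = H ≫ z :=
      complete_distinguished_triangle_morphism _ _ hT₃ hT₂ j h''
        (by
          show (a' ≫ g'') ≫ h'' = j ≫ y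
          rw [Category.assoc, hgh'', hθ₁'])
    have hHz : H ≫ z = w ≫ j⟦(1 : ℤ)⟧' := hH₂.symm
    have hδ : (φ - G ≫ H) ≫ z = 0 := by
      rw [Preadditive.sub_comp, Category.assoc, hHz, ← Category.assoc, hGw, hc', sub_self]
    obtain ⟨θ', hθ''⟩ : ∃ θ' : C ⟶ K n, φ - G ≫ H = θ' ≫ f n :=
      Triangle.coyoneda_exact₃ _ hT₂ (φ - G ≫ H) hδ
    obtain ⟨E₂, g₂, h₂, hE₂, hgh₂⟩ := ih C hC θ'
    refine ⟨E₁ ⊞ E₂, biprod.lift G g₂, biprod.desc H (h₂ ≫ f n), FE.biprod hE₁ hE₂, ?_⟩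
    rw [biprod.lift_desc, ← Category.assoc, hgh₂, ← hθ'']
    abel

end envelope

end Groth.Agent.H23.Compact
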