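import Mathlib
import Groth.Agent.H23.Compact

/-!
# Right adjoints preserving coproducts and compact objects
-/

set_option autoImplicit false
universe v u u'
open CategoryTheory CategoryTheory.Limits CategoryTheory.Pretriangulated ZeroObject

namespace Groth.Agent.H23.CompactAdj
open Groth.Agent.H23.Compact
open Classical

section general
variable {D : Type u} [Category.{v} D] [Preadditive D] [HasCoproducts.{v} D]
  {E : Type u'} [Category.{v} E] [Preadditive E] [HasCoproducts.{v} E]
  (F : D ⥤ E) (G : E ⥤ D) (adj : F ⊣ G) [F.Additive]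

include adj in
lemma finFactor_map_of_preserves
    [∀ (κ : Type v) (Y : κ → E), PreservesColimit (Discrete.functor Y) G] {C : D}
    (hC : FinFactor C) : FinFactor (F.obj C) := by
  haveI : G.Additive := adj.right_adjoint_additive
  intro κ Y φ
  obtain ⟨T, hT⟩ := hC κ (fun k => G.obj (Y k))
    (adj.homEquiv _ _ φ ≫ inv (sigmaComparison G Y))
  refine ⟨T, (adj.homEquiv _ _).injective ?_⟩
  rw [adj.homEquiv_naturality_right]
  calc adj.homEquiv _ _ φ ≫ G.map (eT Y T)
      = (adj.homEquiv _ _ φ ≫ inv (sigmaComparison G Y)) ≫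
          (sigmaComparison G Y ≫ G.map (eT Y T)) := by simp
    _ = ((adj.homEquiv _ _ φ ≫ inv (sigmaComparison G Y)) ≫ eT (fun k => G.obj (Y k)) T) ≫
          sigmaComparison G Y := by
        rw [sigmaComparison_map_eT]
        simp only [Category.assoc]
    _ = adj.homEquiv _ _ φ := by
        rw [hT]
        simp

omit [F.Additive] in
lemma comp_sigmaComparison_injective [G.Additive] {C : D} (hC : FinFactor C) {κ : Type v}
    (Y : κ → E) (γ : C ⟶ ∐ fun k => G.obj (Y k)) (h : γ ≫ sigmaComparison G Y = 0) :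
    γ = 0 := by
  obtain ⟨T, hT⟩ := hC κ _ γ
  rw [← hT, eT_eq, Preadditive.comp_sum]
  refine Finset.sum_eq_zero (fun k _ => ?_)
  have h1 : γ ≫ pr (fun k => G.obj (Y k)) k = 0 := by
    rw [← sigmaComparison_map_pr G Y k, ← Category.assoc, h, zero_comp]
  rw [← Category.assoc, h1, zero_comp]

include adj in
lemma comp_sigmaComparison_surjective {C : D} (hFC : FinFactor (F.obj C)) {κ : Type v}
    (Y : κ → E) (δ : C ⟶ G.obj (∐ Y)) :
    ∃ γ : C ⟶ ∐ fun k => G.obj (Y k), γ ≫ sigmaComparison G Y = δ := by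
  haveI : G.Additive := adj.right_adjoint_additive
  obtain ⟨T, hT⟩ := hFC κ Y ((adj.homEquiv _ _).symm δ)
  have h1 : δ ≫ G.map (eT Y T) = δ := by
    have h2 := congrArg (adj.homEquiv _ _) hT
    rw [adj.homEquiv_naturality_right, Equiv.apply_symm_apply] at h2
    exact h2
  refine ⟨∑ k ∈ T, (δ ≫ G.map (pr Y k)) ≫ Sigma.ι (fun k => G.obj (Y k)) k, ?_⟩
  rw [Preadditive.sum_comp]
  conv_rhs => rw [← h1, eT_eq, G.map_sum, Preadditive.comp_sum]
  refine Finset.sum_congr rfl (fun k _ => ?_)
  simp only [Category.assoc, ι_comp_sigmaComparison, CategoryTheory.Functor.map_comp]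

end general

section main
variable {D : Type u} [Category.{v} D] [Preadditive D] [HasZeroObject D] [HasShift D ℤ]
  [∀ n : ℤ, (shiftFunctor D n).Additive] [Pretriangulated D] [HasCoproducts.{v} D]
  {E : Type u'} [Category.{v} E] [Preadditive E] [HasZeroObject E] [HasShift E ℤ]
  [∀ n : ℤ, (shiftFunctor E n).Additive] [Pretriangulated E] [HasCoproducts.{v} E]
  {ι : Type v} (S : ι → D) (F : D ⥤ E) [F.CommShift ℤ] [F.IsTriangulated]
  (G : E ⥤ D) (adj : F ⊣ G)

include adj in
theorem isIso_sigmaComparison (hSc : ∀ i, FinFactor (S i)) (hSg : CohDer.Generates S)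
    (hFS : ∀ i, FinFactor (F.obj (S i))) {κ : Type v} (Y : κ → E) :
    IsIso (sigmaComparison G Y) := by
  haveI : G.Additive := adj.right_adjoint_additive
  obtain ⟨Z, c, e, hT⟩ := distinguished_cocone_triangle (sigmaComparison G Y)
  have hC : ∀ i (m : ℤ), FinFactor ((S i)⟦m⟧) := fun i m => finFactor_shift (hSc i) m
  have hFC : ∀ i (m : ℤ), FinFactor (F.obj ((S i)⟦m⟧)) := fun i m =>
    (finFactor_shift (hFS i) m).of_iso ((F.commShiftIso m).app (S i)).symm
  have hz : ∀ i (m : ℤ) (g : (S i)⟦m⟧ ⟶ Z), g = 0 := by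
    intro i m g
    have h1 : g ≫ e = 0 := by
      obtain ⟨ε, _⟩ : ∃ ε : ((((S i)⟦m⟧)⟦(-1 : ℤ)⟧)⟦(1 : ℤ)⟧) ≅ (S i)⟦m⟧, True :=
        ⟨(shiftFunctorCompIsoId D (-1 : ℤ) 1 (by simp)).app _, trivial⟩
      obtain ⟨h, hh⟩ := (shiftFunctor D (1 : ℤ)).map_surjective (ε.hom ≫ g ≫ e)
      have h2 : h ≫ sigmaComparison G Y = 0 := by
        apply (shiftFunctor D (1 : ℤ)).map_injective
        have h3 : e ≫ (sigmaComparison G Y)⟦(1 : ℤ)⟧' = 0 := comp_distTriang_mor_zero₃₁ _ hT
        rw [CategoryTheory.Functor.map_comp, hh, CategoryTheory.Functor.map_zero,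
          Category.assoc, Category.assoc, h3, comp_zero, comp_zero]
      have h3 := comp_sigmaComparison_injective G (finFactor_shift (hC i m) (-1)) Y h h2
      rw [h3, CategoryTheory.Functor.map_zero] at hh
      exact (cancel_epi ε.hom).1 (by rw [comp_zero]; exact hh.symm)
    obtain ⟨g₁, hg₁⟩ : ∃ g₁ : (S i)⟦m⟧ ⟶ G.obj (∐ Y), g = g₁ ≫ c :=
      Triangle.coyoneda_exact₃ _ hT g h1
    obtain ⟨γ, hγ⟩ := comp_sigmaComparison_surjective F G adj (hFC i m) Y g₁
    have h5 : sigmaComparison G Y ≫ c = 0 := comp_distTriang_mor_zero₁₂ _ hT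
    rw [hg₁, ← hγ, Category.assoc, h5, comp_zero]
  have hZ : IsZero Z := by
    apply hSg
    intro i n g
    obtain ⟨ε, _⟩ : ∃ ε : (((S i)⟦-n⟧)⟦n⟧) ≅ S i, True :=
      ⟨(shiftFunctorCompIsoId D (-n) n (by simp)).app _, trivial⟩
    obtain ⟨g', hg'⟩ := (shiftFunctor D n).map_surjective (ε.hom ≫ g)
    rw [hz i (-n) g', CategoryTheory.Functor.map_zero] at hg'
    exact (cancel_epi ε.hom).1 (by rw [comp_zero]; exact hg'.symm)
  exact (Triangle.isZero₃_iff_isIso₁ _ hT).1 hZ

include adj in
theorem main_iff (hSc : ∀ i, CohDer.IsCompactObject (S i)) (hSg : CohDer.Generates S) :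
    (∀ (κ : Type v), PreservesColimitsOfShape (Discrete κ) G) ↔
      ∀ i, CohDer.IsCompactObject (F.obj (S i)) := by
  constructor
  · intro hG i
    apply compact_of_finFactor
    exact finFactor_map_of_preserves F G adj (finFactor_of_compact (hSc i))
  · intro hFS κ
    constructor
    intro K
    haveI : IsIso (sigmaComparison G (K.obj ∘ Discrete.mk)) :=
      isIso_sigmaComparison S F G adj (fun i => finFactor_of_compact (hSc i)) hSg
        (fun i => finFactor_of_compact (hFS i)) _
    haveI : PreservesColimit (Discrete.functor (K.obj ∘ Discrete.mk)) G :=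
      PreservesCoproduct.of_iso_comparison G _
    exact preservesColimit_of_iso_diagram G (Discrete.natIsoFunctor (F := K)).symm

end main

end Groth.Agent.H23.CompactAdj
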