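import Mathlib
import Groth.Agent.H23.Compact

/-!
# A compact generator classically generates the compact objects
-/

set_option autoImplicit false
universe v u
open CategoryTheory CategoryTheory.Limits CategoryTheory.Pretriangulated ZeroObject

namespace Groth.Agent.H23.CompactGen
open Groth.Agent.H23.Compact
open Classical

variable {D : Type u} [Category.{v} D] [Preadditive D] [HasZeroObject D] [HasShift D ℤ]
  [∀ n : ℤ, (shiftFunctor D n).Additive] [Pretriangulated D] [HasCoproducts.{v} D]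

section hocolim
variable (K : ℕ → D) (f : ∀ n, K n ⟶ K (n + 1))

/-- the family indexed by `ULift ℕ` -/
abbrev KU : ULift.{v} ℕ → D := fun n => K n.down

/-- the shift map of the coproduct -/
noncomputable def sh : (∐ KU K) ⟶ (∐ KU K) :=
  Sigma.desc (fun n => f n.down ≫ Sigma.ι (KU K) ⟨n.down + 1⟩)

@[reassoc]
lemma ι_sh (n : ℕ) : Sigma.ι (KU K) ⟨n⟩ ≫ sh K f = f n ≫ Sigma.ι (KU K) ⟨n + 1⟩ := by
  unfold sh
  simp

lemma sh_π_zero : sh K f ≫ pr (KU K) ⟨0⟩ = 0 := by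
  apply Sigma.hom_ext
  rintro ⟨n⟩
  rw [ι_sh_assoc, ι_pr_of_ne (KU K) (show (⟨n + 1⟩ : ULift.{v} ℕ) ≠ ⟨0⟩ by simp),
    comp_zero, comp_zero]

lemma sh_π_succ (k : ℕ) :
    sh K f ≫ pr (KU K) ⟨k + 1⟩ = pr (KU K) ⟨k⟩ ≫ f k := by
  apply Sigma.hom_ext
  rintro ⟨n⟩
  rw [ι_sh_assoc]
  by_cases hnk : n = k
  · subst hnk
    rw [ι_pr_self, Category.comp_id, ι_pr_self_assoc]
  · rw [ι_pr_of_ne (KU K) (show (⟨n + 1⟩ : ULift.{v} ℕ) ≠ ⟨k + 1⟩ by simpa using hnk),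
      comp_zero,
      ι_pr_of_ne_assoc (KU K) (show (⟨n⟩ : ULift.{v} ℕ) ≠ ⟨k⟩ by simpa using hnk), zero_comp]

lemma eq_zero_of_comp_one_sub_sh {C : D} (hC : FinFactor C) (γ : C ⟶ ∐ KU K)
    (h : γ ≫ (𝟙 _ - sh K f) = 0) : γ = 0 := by
  have h1 : γ = γ ≫ sh K f := by
    rw [Preadditive.comp_sub, Category.comp_id, sub_eq_zero] at h
    exact h
  have h2 : ∀ k : ℕ, γ ≫ pr (KU K) ⟨k⟩ = 0 := by
    intro k
    induction k with
    | zero =>
      calc γ ≫ pr (KU K) ⟨0⟩ = (γ ≫ sh K f) ≫ pr (KU K) ⟨0⟩ := by rw [← h1]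
        _ = 0 := by rw [Category.assoc, sh_π_zero, comp_zero]
    | succ k ih =>
      calc γ ≫ pr (KU K) ⟨k + 1⟩ = (γ ≫ sh K f) ≫ pr (KU K) ⟨k + 1⟩ := by rw [← h1]
        _ = 0 := by rw [Category.assoc, sh_π_succ, ← Category.assoc, ih, zero_comp]
  obtain ⟨T, hT⟩ := hC _ (KU K) γ
  rw [← hT, eT_eq, Preadditive.comp_sum]
  refine Finset.sum_eq_zero (fun k _ => ?_)
  obtain ⟨k⟩ := k
  rw [← Category.assoc, h2 k, zero_comp]

/-- `{0, …, N}` inside `ULift ℕ` -/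
def TN (N : ℕ) : Finset (ULift.{v} ℕ) :=
  (Finset.range (N + 1)).map ⟨ULift.up, ULift.up_injective⟩

lemma mem_TN {N k : ℕ} : (⟨k⟩ : ULift.{v} ℕ) ∈ TN N ↔ k ≤ N := by
  constructor
  · intro h
    obtain ⟨a, ha, hak⟩ := Finset.mem_map.1 h
    have h1 : a = k := ULift.up_inj.1 hak
    rw [Finset.mem_range] at ha
    omega
  · intro h
    exact Finset.mem_map.2 ⟨k, Finset.mem_range.2 (by omega), rfl⟩

lemma eT_TN (N : ℕ) : eT (KU K) (TN N) =
    ∑ k ∈ Finset.range (N + 1), pr (KU K) ⟨k⟩ ≫ Sigma.ι (KU K) ⟨k⟩ := by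
  rw [eT_eq]
  unfold TN
  rw [Finset.sum_map]
  rfl

variable {H : D} (q : (∐ KU K) ⟶ H) (r : H ⟶ (∐ KU K)⟦(1 : ℤ)⟧)
  (hT : Triangle.mk (𝟙 _ - sh K f) q r ∈ distTriang D)

include hT in
lemma ι_q (n : ℕ) :
    Sigma.ι (KU K) ⟨n⟩ ≫ q = f n ≫ Sigma.ι (KU K) ⟨n + 1⟩ ≫ q := by
  have h0 : (𝟙 _ - sh K f) ≫ q = 0 := comp_distTriang_mor_zero₁₂ _ hT
  have h1 : Sigma.ι (KU K) ⟨n⟩ ≫ (𝟙 _ - sh K f) ≫ q = 0 := by rw [h0, comp_zero]
  rw [Preadditive.sub_comp, Preadditive.comp_sub, Category.id_comp, ι_sh_assoc, sub_eq_zero] at h1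
  exact h1

include hT in
lemma factor_of_supported {C : D} (N : ℕ) : ∀ (γ : C ⟶ ∐ KU K),
    γ ≫ eT (KU K) (TN N) = γ → ∃ α' : C ⟶ K N, γ ≫ q = α' ≫ Sigma.ι (KU K) ⟨N⟩ ≫ q := by
  induction N with
  | zero =>
    intro γ hγ
    refine ⟨γ ≫ pr (KU K) ⟨0⟩, ?_⟩
    have h1 : eT (KU K) (TN 0) = pr (KU K) ⟨0⟩ ≫ Sigma.ι (KU K) ⟨0⟩ := by
      rw [eT_TN, Finset.sum_range_one]
    rw [h1] at hγ
    conv_lhs => rw [← hγ]
    simp only [Category.assoc]
  | succ N ih =>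
    intro γ hγ
    have he : eT (KU K) (TN (N + 1)) =
        pr (KU K) ⟨N + 1⟩ ≫ Sigma.ι (KU K) ⟨N + 1⟩ + eT (KU K) (TN N) := by
      rw [eT_TN, eT_TN, Finset.sum_range_succ _ (N + 1), add_comm]
    obtain ⟨α₀, hα₀⟩ := ih (γ ≫ eT (KU K) (TN N))
      (by rw [Category.assoc, eT_comp_eT _ (Finset.Subset.refl _)])
    refine ⟨γ ≫ pr (KU K) ⟨N + 1⟩ + α₀ ≫ f N, ?_⟩
    calc γ ≫ q = (γ ≫ eT (KU K) (TN (N + 1))) ≫ q := by rw [hγ]
      _ = (γ ≫ pr (KU K) ⟨N + 1⟩) ≫ Sigma.ι (KU K) ⟨N + 1⟩ ≫ q +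
          (γ ≫ eT (KU K) (TN N)) ≫ q := by
        rw [he, Preadditive.comp_add, Preadditive.add_comp]
        simp only [Category.assoc]
      _ = (γ ≫ pr (KU K) ⟨N + 1⟩) ≫ Sigma.ι (KU K) ⟨N + 1⟩ ≫ q +
          α₀ ≫ f N ≫ Sigma.ι (KU K) ⟨N + 1⟩ ≫ q := by
        rw [hα₀, ι_q K f q r hT N]
      _ = (γ ≫ pr (KU K) ⟨N + 1⟩ + α₀ ≫ f N) ≫ Sigma.ι (KU K) ⟨N + 1⟩ ≫ q := by
        rw [Preadditive.add_comp]
        simp only [Category.assoc]

include hT in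
lemma factor_hocolim {C : D} (hC : FinFactor C) (α : C ⟶ H) :
    ∃ (N : ℕ) (α' : C ⟶ K N), α = α' ≫ Sigma.ι (KU K) ⟨N⟩ ≫ q := by
  have h1 : α ≫ r = 0 := by
    have hC1 : FinFactor (C⟦(-1 : ℤ)⟧) := finFactor_shift hC (-1)
    obtain ⟨ε, _⟩ : ∃ ε : (C⟦(-1 : ℤ)⟧)⟦(1 : ℤ)⟧ ≅ C, True :=
      ⟨(shiftFunctorCompIsoId D (-1 : ℤ) 1 (by simp)).app C, trivial⟩
    obtain ⟨β', hβ'⟩ := (shiftFunctor D (1 : ℤ)).map_surjective (ε.hom ≫ α ≫ r)
    have h2 : β' ≫ (𝟙 _ - sh K f) = 0 := by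
      apply (shiftFunctor D (1 : ℤ)).map_injective
      have h3 : r ≫ (𝟙 _ - sh K f)⟦(1 : ℤ)⟧' = 0 := comp_distTriang_mor_zero₃₁ _ hT
      rw [CategoryTheory.Functor.map_comp, hβ', CategoryTheory.Functor.map_zero, Category.assoc,
        Category.assoc, h3, comp_zero, comp_zero]
    have h3 := eq_zero_of_comp_one_sub_sh K f hC1 β' h2
    rw [h3, CategoryTheory.Functor.map_zero] at hβ'
    exact (cancel_epi ε.hom).1 (by rw [comp_zero]; exact hβ'.symm)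
  obtain ⟨α₁, hα₁⟩ : ∃ α₁ : C ⟶ ∐ KU K, α = α₁ ≫ q := Triangle.coyoneda_exact₃ _ hT α h1
  obtain ⟨T, hT'⟩ := hC _ (KU K) α₁
  obtain ⟨N, hN⟩ : ∃ N, T ⊆ TN N := ⟨T.sup (fun k => k.down), fun k hk => by
    obtain ⟨k⟩ := k
    exact mem_TN.2 (Finset.le_sup (f := fun k : ULift.{v} ℕ => k.down) hk)⟩
  obtain ⟨α', hα'⟩ := factor_of_supported K f q r hT N α₁ (comp_eT_of_subset hT' hN)
  exact ⟨N, α', hα₁.trans hα'⟩

end hocolim

section tower
variable (E X : D)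

/-- a stage of the tower: an object over `X` -/
structure Stage where
  A : D
  p : A ⟶ X

variable {X} in
/-- one step of the tower -/
structure Step (S : Stage X) where
  next : Stage X
  f : S.A ⟶ next.A
  fp : f ≫ next.p = S.p
  κ : Type v
  m : κ → ℤ
  y : (∐ fun k => (shiftFunctor D (m k)).obj E) ⟶ S.A
  z : next.A ⟶ (shiftFunctor D (1 : ℤ)).obj (∐ fun k => (shiftFunctor D (m k)).obj E)
  dist : Triangle.mk y f z ∈ distTriang D
  kill : ∀ (m' : ℤ) (g : (shiftFunctor D m').obj E ⟶ S.A), g ≫ S.p = 0 → g ≫ f = 0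

variable {X} in
/-- index type for a step -/
def StepIdx (S : Stage X) : Type v :=
  Σ m : ℤ, {g : (shiftFunctor D m).obj E ⟶ S.A // g ≫ S.p = 0}

variable {X} in
/-- the map killing everything that dies in `X` -/
noncomputable def stepy (S : Stage X) :
    (∐ fun i : StepIdx E S => (shiftFunctor D i.1).obj E) ⟶ S.A :=
  Sigma.desc (fun i => i.2.1)

variable {X} in
lemma stepy_p (S : Stage X) : stepy E S ≫ S.p = 0 := by
  apply Sigma.hom_ext
  intro i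
  unfold stepy
  rw [Sigma.ι_desc_assoc, comp_zero]
  exact i.2.2

variable {X} in
lemma exists_step (S : Stage X) : Nonempty (Step E S) := by
  obtain ⟨A', f, z, hT⟩ := distinguished_cocone_triangle (stepy E S)
  obtain ⟨p', hp'⟩ : ∃ p' : A' ⟶ X, S.p = f ≫ p' :=
    Triangle.yoneda_exact₂ _ hT S.p (stepy_p E S)
  exact ⟨{ next := ⟨A', p'⟩, f := f, fp := hp'.symm, κ := StepIdx E S, m := fun i => i.1,
           y := stepy E S, z := z, dist := hT,
           kill := fun m' g hg => by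
            have h1 : g = Sigma.ι (fun i : StepIdx E S => (shiftFunctor D i.1).obj E)
                ⟨m', g, hg⟩ ≫ stepy E S := by
              unfold stepy
              rw [Sigma.ι_desc]
            have h2 : stepy E S ≫ f = 0 := comp_distTriang_mor_zero₁₂ _ hT
            rw [h1, Category.assoc, h2, comp_zero] }⟩

/-- index type of the initial stage -/
def Idx0 : Type v := Σ m : ℤ, ((shiftFunctor D m).obj E ⟶ X)

/-- the initial stage -/
noncomputable def stage0 : Stage X :=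
  ⟨∐ fun i : Idx0 E X => (shiftFunctor D i.1).obj E, Sigma.desc (fun i => i.2)⟩

/-- the tower -/
noncomputable def seq : ℕ → Stage X
  | 0 => stage0 E X
  | n + 1 => (Classical.choice (exists_step E (seq n))).next

/-- the step data -/
noncomputable def stepData (n : ℕ) : Step E (seq E X n) :=
  Classical.choice (exists_step E (seq E X n))

/-- objects of the tower -/
noncomputable def KK (n : ℕ) : D := (seq E X n).A
/-- maps to `X` -/
noncomputable def pp (n : ℕ) : KK E X n ⟶ X := (seq E X n).p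
/-- transition maps -/
noncomputable def ff (n : ℕ) : KK E X n ⟶ KK E X (n + 1) := (stepData E X n).f

lemma ff_pp (n : ℕ) : ff E X n ≫ pp E X (n + 1) = pp E X n := (stepData E X n).fp

lemma kill (n : ℕ) (m' : ℤ) (g : (shiftFunctor D m').obj E ⟶ KK E X n)
    (hg : g ≫ pp E X n = 0) : g ≫ ff E X n = 0 := (stepData E X n).kill m' g hg

lemma surj0 (m : ℤ) (g : (shiftFunctor D m).obj E ⟶ X) :
    ∃ g₀ : (shiftFunctor D m).obj E ⟶ KK E X 0, g₀ ≫ pp E X 0 = g :=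
  ⟨Sigma.ι (fun i : Idx0 E X => (shiftFunctor D i.1).obj E) ⟨m, g⟩, by
    show Sigma.ι (fun i : Idx0 E X => (shiftFunctor D i.1).obj E) ⟨m, g⟩ ≫
      Sigma.desc (fun i : Idx0 E X => i.2) = g
    rw [Sigma.ι_desc]⟩

lemma tower_h0 : ∃ (κ : Type v) (a : κ → PUnit.{v + 1}) (m : κ → ℤ),
    Nonempty (KK E X 0 ≅ ∐ (fun k => (shiftFunctor D (m k)).obj ((fun _ : PUnit.{v + 1} => E) (a k)))) :=
  ⟨Idx0 E X, fun _ => PUnit.unit, fun i => i.1, ⟨Iso.refl _⟩⟩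

lemma tower_hstep (n : ℕ) : ∃ (κ : Type v) (a : κ → PUnit.{v + 1}) (m : κ → ℤ)
    (y : (∐ fun k => (shiftFunctor D (m k)).obj ((fun _ : PUnit.{v + 1} => E) (a k))) ⟶ KK E X n)
    (z : KK E X (n + 1) ⟶ (shiftFunctor D (1 : ℤ)).obj
      (∐ fun k => (shiftFunctor D (m k)).obj ((fun _ : PUnit.{v + 1} => E) (a k)))),
    Triangle.mk y (ff E X n) z ∈ distinguishedTriangles :=
  ⟨(stepData E X n).κ, fun _ => PUnit.unit, (stepData E X n).m, (stepData E X n).y,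
    (stepData E X n).z, (stepData E X n).dist⟩

end tower

theorem compact_in_envelope [IsTriangulated D] (E : D) (hE : FinFactor E)
    (hgen : ∀ K : D, (∀ (n : ℤ) (f : E ⟶ K⟦n⟧), f = 0) → IsZero K)
    (X : D) (hX : FinFactor X) : ObjectProperty.triangEnvelope (fun Y : D => Y = E) X := by
  obtain ⟨H, q, r, hT⟩ := distinguished_cocone_triangle (𝟙 _ - sh (KK E X) (ff E X))
  obtain ⟨πt, hπt⟩ : ∃ πt : (∐ KU (KK E X)) ⟶ X,
      ∀ n, Sigma.ι (KU (KK E X)) ⟨n⟩ ≫ πt = pp E X n :=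
    ⟨Sigma.desc (fun n => pp E X n.down), fun n => by rw [Sigma.ι_desc]⟩
  have hd : (𝟙 _ - sh (KK E X) (ff E X)) ≫ πt = 0 := by
    apply Sigma.hom_ext
    rintro ⟨n⟩
    rw [Preadditive.sub_comp, Preadditive.comp_sub, Category.id_comp, ι_sh_assoc, hπt, hπt,
      ff_pp, sub_self, comp_zero]
  obtain ⟨πH, hπH⟩ : ∃ πH : H ⟶ X, πt = q ≫ πH := Triangle.yoneda_exact₂ _ hT πt hd
  have hinj : ∀ (C : D) (m' : ℤ) (_ : C ≅ (shiftFunctor D m').obj E) (α : C ⟶ H),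
      α ≫ πH = 0 → α = 0 := by
    intro C m' i α hα
    have hC : FinFactor C := (finFactor_shift hE m').of_iso i.symm
    obtain ⟨N, α', rfl⟩ := factor_hocolim _ _ q r hT hC α
    have h1 : α' ≫ pp E X N = 0 := by
      rw [← hπt N, hπH]
      simpa using hα
    have h2 : (i.inv ≫ α') ≫ ff E X N = 0 :=
      kill E X N m' (i.inv ≫ α') (by rw [Category.assoc, h1, comp_zero])
    have h3 : α' ≫ ff E X N = 0 := by
      have h4 := congrArg (fun t => i.hom ≫ t) h2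
      simpa using h4
    rw [ι_q _ _ q r hT N, ← Category.assoc, h3, zero_comp]
  obtain ⟨Z, c, e, hT'⟩ := distinguished_cocone_triangle πH
  have hz : ∀ (m : ℤ) (g : (shiftFunctor D m).obj E ⟶ Z), g = 0 := by
    intro m g
    have h1 : g ≫ e = 0 := by
      obtain ⟨ε, _⟩ : ∃ ε : (((shiftFunctor D m).obj E)⟦(-1 : ℤ)⟧)⟦(1 : ℤ)⟧ ≅
          (shiftFunctor D m).obj E, True :=
        ⟨(shiftFunctorCompIsoId D (-1 : ℤ) 1 (by simp)).app _, trivial⟩
      obtain ⟨h, hh⟩ := (shiftFunctor D (1 : ℤ)).map_surjective (ε.hom ≫ g ≫ e)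
      have h2 : h ≫ πH = 0 := by
        apply (shiftFunctor D (1 : ℤ)).map_injective
        have h3 : e ≫ πH⟦(1 : ℤ)⟧' = 0 := comp_distTriang_mor_zero₃₁ _ hT'
        rw [CategoryTheory.Functor.map_comp, hh, CategoryTheory.Functor.map_zero,
          Category.assoc, Category.assoc, h3, comp_zero, comp_zero]
      have h3 := hinj _ (m - 1)
        ((shiftFunctorAdd' D m (-1) (m - 1) (by omega)).app E).symm h h2
      rw [h3, CategoryTheory.Functor.map_zero] at hh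
      exact (cancel_epi ε.hom).1 (by rw [comp_zero]; exact hh.symm)
    obtain ⟨g₁, hg₁⟩ : ∃ g₁ : (shiftFunctor D m).obj E ⟶ X, g = g₁ ≫ c :=
      Triangle.coyoneda_exact₃ _ hT' g h1
    obtain ⟨g₀, hg₀⟩ := surj0 E X m g₁
    have h4 : g₁ = (g₀ ≫ Sigma.ι (KU (KK E X)) ⟨0⟩ ≫ q) ≫ πH := by
      rw [Category.assoc, Category.assoc, ← hπH, hπt, hg₀]
    have h5 : πH ≫ c = 0 := comp_distTriang_mor_zero₁₂ _ hT'
    rw [hg₁, h4, Category.assoc, h5, comp_zero]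
  have hZ : IsZero Z := by
    apply hgen
    intro n g
    obtain ⟨ε, _⟩ : ∃ ε : ((shiftFunctor D (-n)).obj E)⟦n⟧ ≅ E, True :=
      ⟨(shiftFunctorCompIsoId D (-n) n (by simp)).app E, trivial⟩
    obtain ⟨g', hg'⟩ := (shiftFunctor D n).map_surjective (ε.hom ≫ g)
    rw [hz (-n) g', CategoryTheory.Functor.map_zero] at hg'
    exact (cancel_epi ε.hom).1 (by rw [comp_zero]; exact hg'.symm)
  have hiso : IsIso πH := (Triangle.isZero₃_iff_isIso₁ _ hT').1 hZ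
  obtain ⟨N, α', hα'⟩ := factor_hocolim _ _ q r hT hX (inv πH)
  have hid : α' ≫ pp E X N = 𝟙 X := by
    have h1 : inv πH ≫ πH = 𝟙 X := IsIso.inv_hom_id πH
    rw [hα'] at h1
    rw [← hπt N, hπH]
    simpa using h1
  obtain ⟨E', g, h, hE', hgh⟩ := Compact.main (E := fun _ : PUnit.{v + 1} => E) (fun _ => hE)
    (KK E X) (ff E X) (tower_h0 E X) (tower_hstep E X) N X hX α'
  obtain ⟨s, hs⟩ := hE'.of_retract (A := X)
    ⟨g, h ≫ pp E X N, by rw [← Category.assoc, hgh, hid]⟩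
  exact ObjectProperty.monotone_triangEnvelope (fun Y ⟨_, _, hY⟩ => hY) _ hs

/-- the objects all of whose maps to all shifts of `K` vanish -/
def orth (K : D) : ObjectProperty D := fun Y => ∀ (n : ℤ) (f : Y ⟶ K⟦n⟧), f = 0

instance (K : D) : (orth K).IsStableUnderRetracts where
  of_retract {Y Y'} r h n f := by
    have h1 := h n (r.r ≫ f)
    calc f = r.i ≫ r.r ≫ f := by simp
      _ = 0 := by rw [h1, comp_zero]

instance (K : D) : (orth K).IsTriangulated where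
  exists_zero := ⟨0, isZero_zero D, fun _ _ => (isZero_zero D).eq_of_src _ _⟩
  isStableUnderShiftBy a := ⟨fun Y hY n f => by
    apply (shiftFunctor D (-a)).map_injective
    rw [CategoryTheory.Functor.map_zero]
    obtain ⟨e1⟩ : Nonempty (Y ≅ (Y⟦a⟧)⟦-a⟧) :=
      ⟨((shiftFunctorCompIsoId D a (-a) (add_neg_cancel a)).app Y).symm⟩
    obtain ⟨e2⟩ : Nonempty ((K⟦n⟧)⟦-a⟧ ≅ K⟦n + -a⟧) :=
      ⟨((shiftFunctorAdd' D n (-a) (n + -a) rfl).app K).symm⟩
    have h2 : e1.hom ≫ (shiftFunctor D (-a)).map f ≫ e2.hom = 0 := hY (n + -a) _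
    rw [← cancel_epi e1.hom, ← cancel_mono e2.hom]
    simpa using h2⟩
  ext₂' T hT h₁ h₃ := ObjectProperty.le_isoClosure _ _ (fun n f => by
    obtain ⟨g, hg⟩ := Triangle.yoneda_exact₂ T hT f (h₁ n _)
    rw [hg, h₃ n g, comp_zero])

theorem generates_of_envelope [IsTriangulated D] (E : D)
    (hcg : CohDer.IsCompactlyGenerated D)
    (henv : ∀ X : D, CohDer.IsCompactObject X →
      ObjectProperty.triangEnvelope (fun Y : D => Y = E) X) :
    CohDer.Generates (fun _ : Unit => E) := by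
  intro K hK
  obtain ⟨ι, E', hE'c, hE'g⟩ := hcg
  apply hE'g
  intro i n f
  have hEQ : (fun Y : D => Y = E) ≤ orth K := by
    intro Y hY
    subst hY
    exact fun n f => hK () n f
  have h1 : orth K (E' i) :=
    (ObjectProperty.triangEnvelope_le_iff (fun Y : D => Y = E)).2 hEQ _ (henv _ (hE'c i))
  exact h1 n f

end Groth.Agent.H23.CompactGen
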