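import Mathlib

/-!
# Replacing a sequence of complexes by termwise split injections (helper23)

Given `g : B ⟶ Y`, the complex `mappingCone (𝟙 B) ⊞ Y` is homotopy equivalent to `Y` and receives a
termwise split injection from `B` lifting `g`.
-/

open CategoryTheory CategoryTheory.Limits CochainComplex HomologicalComplex

universe v u

namespace Groth.Agent.H23.Cyl

variable {V : Type u} [Category.{v} V] [Preadditive V] [HasBinaryBiproducts V] [HasZeroObject V]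

/-- a decomposition into three summands gives a complement of the first one -/
lemma exists_split_of_data {N M C₁ C₂ : V} (i : N ⟶ M) (r : M ⟶ N) (q₁ : M ⟶ C₁) (q₂ : M ⟶ C₂)
    (j₁ : C₁ ⟶ M) (j₂ : C₂ ⟶ M)
    (h_ir : i ≫ r = 𝟙 _) (h_iq₁ : i ≫ q₁ = 0) (h_iq₂ : i ≫ q₂ = 0)
    (h_j₁r : j₁ ≫ r = 0) (h_j₂r : j₂ ≫ r = 0)
    (h11 : j₁ ≫ q₁ = 𝟙 _) (h12 : j₁ ≫ q₂ = 0) (h21 : j₂ ≫ q₁ = 0) (h22 : j₂ ≫ q₂ = 𝟙 _)
    (htot : r ≫ i + q₁ ≫ j₁ + q₂ ≫ j₂ = 𝟙 _) :
    ∃ (C : V) (ε : M ≅ N ⊞ C), i ≫ ε.hom = biprod.inl := by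
  refine ⟨C₁ ⊞ C₂,
    { hom := biprod.lift r (biprod.lift q₁ q₂)
      inv := biprod.desc i (biprod.desc j₁ j₂)
      hom_inv_id := by
        rw [biprod.lift_desc, biprod.lift_desc, ← add_assoc]; exact htot
      inv_hom_id := ?_ }, ?_⟩
  · apply biprod.hom_ext'
    · apply biprod.hom_ext
      · simp [h_ir]
      · apply biprod.hom_ext <;> simp [h_iq₁, h_iq₂]
    · apply biprod.hom_ext'
      · apply biprod.hom_ext
        · simp [h_j₁r]
        · apply biprod.hom_ext <;> simp [h11, h12]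
      · apply biprod.hom_ext
        · simp [h_j₂r]
        · apply biprod.hom_ext <;> simp [h21, h22]
  · apply biprod.hom_ext
    · simp [h_ir]
    · apply biprod.hom_ext <;> simp [h_iq₁, h_iq₂]

/-- the replacement object -/
noncomputable abbrev cyl (B Y : CochainComplex V ℤ) : CochainComplex V ℤ :=
  mappingCone (𝟙 B) ⊞ Y

/-- the termwise split inclusion -/
noncomputable def cylIn {B Y : CochainComplex V ℤ} (g : B ⟶ Y) : B ⟶ cyl B Y :=
  biprod.lift (mappingCone.inr (𝟙 B)) g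

lemma cylIn_snd {B Y : CochainComplex V ℤ} (g : B ⟶ Y) :
    cylIn g ≫ (biprod.snd : cyl B Y ⟶ Y) = g := biprod.lift_snd _ _

/-- the projection to `Y` is a homotopy equivalence -/
noncomputable def cylEquiv (B Y : CochainComplex V ℤ) : HomotopyEquiv (cyl B Y) Y where
  hom := biprod.snd
  inv := biprod.inr
  homotopyHomInvId :=
    let h₀ : Homotopy (𝟙 (mappingCone (𝟙 B))) 0 := mappingCone.homotopyToZeroOfId B
    let h₁ := (h₀.compRight
      (biprod.inl : _ ⟶ cyl B Y)).compLeft (biprod.fst : cyl B Y ⟶ _)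
    let h₂ := Homotopy.add h₁ (Homotopy.refl (biprod.snd ≫ biprod.inr))
    (Homotopy.ofEq (by simp)).trans (h₂.symm.trans (Homotopy.ofEq (by simp)))
  homotopyInvHomId := Homotopy.ofEq (by simp)

set_option backward.isDefEq.respectTransparency false in
lemma cyl_split {B Y : CochainComplex V ℤ} (g : B ⟶ Y) (n : ℤ) :
    ∃ (C : V) (ε : (cyl B Y).X n ≅ B.X n ⊞ C), (cylIn g).f n ≫ ε.hom = biprod.inl := by
  have hn : n + 1 + (-1) = n := by omega
  refine exists_split_of_data ((cylIn g).f n)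
    ((biprod.fst : cyl B Y ⟶ _).f n ≫ (mappingCone.snd (𝟙 B)).v n n (add_zero n))
    ((biprod.fst : cyl B Y ⟶ _).f n ≫ (mappingCone.fst (𝟙 B)).1.v n (n + 1) rfl)
    ((biprod.snd : cyl B Y ⟶ _).f n - (biprod.fst : cyl B Y ⟶ _).f n ≫
      (mappingCone.snd (𝟙 B)).v n n (add_zero n) ≫ g.f n)
    ((mappingCone.inl (𝟙 B)).v (n + 1) n hn ≫ (biprod.inl : _ ⟶ cyl B Y).f n)
    ((biprod.inr : _ ⟶ cyl B Y).f n) ?_ ?_ ?_ ?_ ?_ ?_ ?_ ?_ ?_ ?_
  · simp [cylIn, ← HomologicalComplex.comp_f_assoc]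
  · simp [cylIn, ← HomologicalComplex.comp_f_assoc]
  · simp [cylIn, ← HomologicalComplex.comp_f_assoc, ← HomologicalComplex.comp_f]
  · simp
  · simp
  · simp
  · simp
  · simp
  · simp
  · apply biprodX_ext_to
    · simp [cylIn, Preadditive.add_comp, Preadditive.sub_comp, ← HomologicalComplex.comp_f,
        ← Preadditive.comp_add]
      rw [add_comm, mappingCone.id_X, Category.comp_id]
    · simp [cylIn, Preadditive.add_comp, Preadditive.sub_comp, ← HomologicalComplex.comp_f]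

lemma cyl_isStrictlyGE (B Y : CochainComplex V ℤ) (m₁ m₂ m : ℤ) [B.IsStrictlyGE m₁]
    [Y.IsStrictlyGE m₂] (h₁ : m < m₁) (h₂ : m ≤ m₂) : (cyl B Y).IsStrictlyGE m := by
  rw [isStrictlyGE_iff]
  intro i hi
  refine IsZero.of_iso ?_ ((HomologicalComplex.eval V (ComplexShape.up ℤ) i).mapBiprod _ _)
  simp only [HomologicalComplex.eval_obj, biprod_isZero_iff, mappingCone.isZero_X_iff]
  exact ⟨⟨B.isZero_of_isStrictlyGE m₁ _ (by omega), B.isZero_of_isStrictlyGE m₁ _ (by omega)⟩,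
    Y.isZero_of_isStrictlyGE m₂ i (by omega)⟩

lemma cyl_isStrictlyLE (B Y : CochainComplex V ℤ) (m₁ m₂ m : ℤ) [B.IsStrictlyLE m₁]
    [Y.IsStrictlyLE m₂] (h₁ : m₁ ≤ m) (h₂ : m₂ ≤ m) : (cyl B Y).IsStrictlyLE m := by
  rw [isStrictlyLE_iff]
  intro i hi
  refine IsZero.of_iso ?_ ((HomologicalComplex.eval V (ComplexShape.up ℤ) i).mapBiprod _ _)
  simp only [HomologicalComplex.eval_obj, biprod_isZero_iff, mappingCone.isZero_X_iff]
  exact ⟨⟨B.isZero_of_isStrictlyLE m₁ _ (by omega), B.isZero_of_isStrictlyLE m₁ _ (by omega)⟩,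
    Y.isZero_of_isStrictlyLE m₂ i (by omega)⟩

/-- the inductive construction -/
noncomputable def seq (X : ℕ → CochainComplex V ℤ) (a : ∀ i, X i ⟶ X (i + 1)) :
    (i : ℕ) → Σ (B : CochainComplex V ℤ), HomotopyEquiv B (X i)
  | 0 => ⟨X 0, HomotopyEquiv.refl _⟩
  | i + 1 => ⟨cyl (seq X a i).1 (X (i + 1)), cylEquiv _ _⟩

theorem main (X : ℕ → CochainComplex V ℤ) (a : ∀ i, X i ⟶ X (i + 1)) :
    ∃ (B : ℕ → CochainComplex V ℤ) (b : ∀ i, B i ⟶ B (i + 1))
      (e : ∀ i, HomotopyEquiv (B i) (X i)),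
      (∀ i, b i ≫ (e (i + 1)).hom = (e i).hom ≫ a i) ∧
      (∀ (i : ℕ) (n : ℤ), ∃ (C : V) (ε : (B (i + 1)).X n ≅ (B i).X n ⊞ C),
        (b i).f n ≫ ε.hom = biprod.inl) ∧
      ((∀ i, ∃ m : ℤ, (X i).IsStrictlyGE m) → ∀ i, ∃ m : ℤ, (B i).IsStrictlyGE m) ∧
      ((∀ i, ∃ m : ℤ, (X i).IsStrictlyLE m) → ∀ i, ∃ m : ℤ, (B i).IsStrictlyLE m) := by
  refine ⟨fun i => (seq X a i).1, fun i => cylIn ((seq X a i).2.hom ≫ a i),
    fun i => (seq X a i).2, fun i => cylIn_snd _, fun i n => cyl_split _ n, ?_, ?_⟩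
  · intro hX i
    induction i with
    | zero => exact hX 0
    | succ i ih =>
      obtain ⟨m₁, _⟩ := ih
      obtain ⟨m₂, _⟩ := hX (i + 1)
      exact ⟨min (m₁ - 1) m₂, cyl_isStrictlyGE _ _ m₁ m₂ _ (by omega) (by omega)⟩
  · intro hX i
    induction i with
    | zero => exact hX 0
    | succ i ih =>
      obtain ⟨m₁, _⟩ := ih
      obtain ⟨m₂, _⟩ := hX (i + 1)
      exact ⟨max m₁ m₂, cyl_isStrictlyLE _ _ m₁ m₂ _ (by omega) (by omega)⟩

end Groth.Agent.H23.Cyl
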