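import Mathlib

/-!
# Orthogonality classes in derived categories (helper23)

General lemmas on the vanishing of `Hom(T, X⟦n⟧)` in `D(C)` used for derived completeness.
-/

open CategoryTheory CategoryTheory.Limits CategoryTheory.Pretriangulated

universe w v u

namespace Groth.Agent.H23.DComp

variable {C : Type u} [Category.{v} C] [Abelian C] [HasDerivedCategory.{w} C]

open DerivedCategory

/-- All maps `T ⟶ X` vanish. -/
def N (T X : DerivedCategory C) : Prop := ∀ f : T ⟶ X, f = 0

lemma N.of_iso {T X Y : DerivedCategory C} (h : N T X) (e : X ≅ Y) : N T Y := by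
  intro f
  have h' := h (f ≫ e.inv)
  have h'' : f = (f ≫ e.inv) ≫ e.hom := by simp
  rw [h'', h', zero_comp]

lemma N.mid {T : DerivedCategory C} (Tr : Triangle (DerivedCategory C))
    (hTr : Tr ∈ distTriang (DerivedCategory C)) (h1 : N T Tr.obj₁) (h3 : N T Tr.obj₃) :
    N T Tr.obj₂ := by
  intro f
  obtain ⟨g, hg⟩ := Triangle.coyoneda_exact₂ Tr hTr f (h3 _)
  rw [hg, h1 g, zero_comp]

lemma N.right {T : DerivedCategory C} (Tr : Triangle (DerivedCategory C))
    (hTr : Tr ∈ distTriang (DerivedCategory C)) (h2 : N T Tr.obj₂)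
    (h1 : N T (Tr.obj₁⟦(1 : ℤ)⟧)) : N T Tr.obj₃ :=
  N.mid Tr.rotate (rot_of_distTriang _ hTr) h2 h1

lemma N.left {T : DerivedCategory C} (Tr : Triangle (DerivedCategory C))
    (hTr : Tr ∈ distTriang (DerivedCategory C)) (h3 : N T (Tr.obj₃⟦(-1 : ℤ)⟧))
    (h2 : N T Tr.obj₂) : N T Tr.obj₁ :=
  N.mid Tr.invRotate (inv_rot_of_distTriang _ hTr) h3 h2

/-- All maps `T ⟶ X⟦n⟧` vanish, for all `n`. -/
def DC (T X : DerivedCategory C) : Prop := ∀ n : ℤ, N T (X⟦n⟧)

lemma DC.of_iso {T X Y : DerivedCategory C} (h : DC T X) (e : X ≅ Y) : DC T Y :=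
  fun n => (h n).of_iso ((shiftFunctor (DerivedCategory C) n).mapIso e)

lemma DC.shift {T X : DerivedCategory C} (h : DC T X) (m : ℤ) : DC T (X⟦m⟧) :=
  fun n => (h (m + n)).of_iso ((shiftFunctorAdd (DerivedCategory C) m n).app X)

lemma DC.mid {T : DerivedCategory C} (Tr : Triangle (DerivedCategory C))
    (hTr : Tr ∈ distTriang (DerivedCategory C)) (h1 : DC T Tr.obj₁) (h3 : DC T Tr.obj₃) :
    DC T Tr.obj₂ :=
  fun n => N.mid _ (Triangle.shift_distinguished Tr hTr n) (h1 n) (h3 n)

lemma NS.right {T : DerivedCategory C} (Tr : Triangle (DerivedCategory C))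
    (hTr : Tr ∈ distTriang (DerivedCategory C)) (n : ℤ) (h2 : N T (Tr.obj₂⟦n⟧))
    (h1 : N T (Tr.obj₁⟦n + 1⟧)) : N T (Tr.obj₃⟦n⟧) :=
  N.right _ (Triangle.shift_distinguished Tr hTr n) h2
    (h1.of_iso ((shiftFunctorAdd' (DerivedCategory C) n 1 (n + 1) rfl).app Tr.obj₁))

lemma NS.left {T : DerivedCategory C} (Tr : Triangle (DerivedCategory C))
    (hTr : Tr ∈ distTriang (DerivedCategory C)) (n : ℤ) (h3 : N T (Tr.obj₃⟦n - 1⟧))
    (h2 : N T (Tr.obj₂⟦n⟧)) : N T (Tr.obj₁⟦n⟧) :=
  N.left _ (Triangle.shift_distinguished Tr hTr n)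
    (h3.of_iso ((shiftFunctorAdd' (DerivedCategory C) n (-1) (n - 1) (by lia)).app Tr.obj₃)) h2

section Projective

/-- Maps from a projective object placed in degree `k` to an object of `D^{< k}` vanish. -/
lemma N_single_projective (P : C) [Projective P] (k m : ℤ) (hm : m < k)
    (L : DerivedCategory C) [L.IsLE m] :
    N ((singleFunctor C k).obj P) L := by
  intro f
  obtain ⟨L', hL', ⟨e⟩⟩ := exists_iso_Q_obj_of_isLE L m
  let K : CochainComplex C ℤ := (CochainComplex.singleFunctor C k).obj P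
  have hproj : ∀ n : ℤ, Projective (K.X n) := by
    intro n
    by_cases hn : n = k
    · subst hn
      exact Projective.of_iso
        (HomologicalComplex.singleObjXSelf (ComplexShape.up ℤ) n P).symm inferInstance
    · exact (HomologicalComplex.isZero_single_obj_X (ComplexShape.up ℤ) k P n hn).projective
  haveI : K.IsStrictlyLE k := by dsimp [K]; infer_instance
  haveI : K.IsKProjective := CochainComplex.isKProjective_of_projective K k
  have hf : ∀ g : Q.obj K ⟶ Q.obj L', g = 0 := by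
    intro g
    obtain ⟨g', hg'⟩ := (CochainComplex.IsKProjective.Qh_map_bijective K
      ((HomotopyCategory.quotient C (ComplexShape.up ℤ)).obj L')).surjective
      ((quotientCompQhIso C).hom.app K ≫ g ≫ (quotientCompQhIso C).inv.app L')
    obtain ⟨φ, rfl⟩ := (HomotopyCategory.quotient C (ComplexShape.up ℤ)).map_surjective g'
    have hφ : φ = 0 := by
      ext n
      by_cases hn : n = k
      · subst hn
        exact (L'.isZero_of_isStrictlyLE m n hm).eq_of_tgt _ _
      · exact (HomologicalComplex.isZero_single_obj_X (ComplexShape.up ℤ) k P n hn).eq_of_src _ _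
    rw [hφ, Functor.map_zero, Functor.map_zero] at hg'
    have h2 : g ≫ (quotientCompQhIso C).inv.app L' = 0 := by
      rw [← cancel_epi ((quotientCompQhIso C).hom.app K), ← hg', comp_zero]
    rw [← cancel_mono ((quotientCompQhIso C).inv.app L'), h2, zero_comp]
  have h1 : f ≫ e.hom = 0 := hf (f ≫ e.hom)
  rw [← cancel_mono e.hom, h1, zero_comp]

/-- If `M` has a projective resolution of length one, `Hom(M[0], L) = 0` for `L ∈ D^{≤ -2}`. -/
lemma N_of_resolution {S : ShortComplex C} (hS : S.ShortExact) [Projective S.X₁]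
    [Projective S.X₂] (L : DerivedCategory C) [L.IsLE (-2)] :
    N ((singleFunctor C 0).obj S.X₃) L := by
  intro f
  have hdist := hS.singleTriangle_distinguished
  have h2 : (singleFunctor C 0).map S.g ≫ f = 0 :=
    N_single_projective S.X₂ 0 (-2) (by lia) L _
  obtain ⟨g, hg⟩ := Triangle.yoneda_exact₃ _ hdist f h2
  let e := ((singleFunctors C).shiftIso 1 (-1) 0 (by lia)).app S.X₁
  have h3 : e.inv ≫ g = 0 := N_single_projective S.X₁ (-1) (-2) (by lia) L _
  have h4 : g = 0 := (cancel_epi e.inv).1 (h3.trans comp_zero.symm)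
  rw [hg, h4]
  exact comp_zero

end Projective

/-- The hypotheses on the test object `T`: it is orthogonal to `D^{≥ 1}` and to `D^{≤ -2}`. -/
structure Good (T : DerivedCategory C) : Prop where
  ge : ∀ L : DerivedCategory C, L.IsGE 1 → N T L
  le : ∀ L : DerivedCategory C, L.IsLE (-2) → N T L

lemma good_of_resolution {S : ShortComplex C} (hS : S.ShortExact) [Projective S.X₁]
    [Projective S.X₂] : Good ((singleFunctor C 0).obj S.X₃) where
  ge L hL := fun f => TStructure.t.zero f 0 1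
  le L hL := N_of_resolution hS L

lemma isIso_homologyMap_mor₁ (T : Triangle (DerivedCategory C)) (hT : T ∈ distTriang _) (n : ℤ)
    (h₀ : IsZero ((homologyFunctor C (n - 1)).obj T.obj₃))
    (h₁ : IsZero ((homologyFunctor C n).obj T.obj₃)) :
    IsIso ((homologyFunctor C n).map T.mor₁) := by
  have : Mono ((homologyFunctor C n).map T.mor₁) :=
    (HomologySequence.mono_homologyMap_mor₁_iff T hT (n - 1) n (by lia)).2 (h₀.eq_of_src _ _)
  have : Epi ((homologyFunctor C n).map T.mor₁) :=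
    (HomologySequence.epi_homologyMap_mor₁_iff T hT n).2 (h₁.eq_of_tgt _ _)
  exact isIso_of_mono_of_epi _

lemma isIso_homologyMap_mor₂ (T : Triangle (DerivedCategory C)) (hT : T ∈ distTriang _) (n : ℤ)
    (h₀ : IsZero ((homologyFunctor C n).obj T.obj₁))
    (h₁ : IsZero ((homologyFunctor C (n + 1)).obj T.obj₁)) :
    IsIso ((homologyFunctor C n).map T.mor₂) := by
  have : Mono ((homologyFunctor C n).map T.mor₂) :=
    (HomologySequence.mono_homologyMap_mor₂_iff T hT n).2 (h₀.eq_of_src _ _)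
  have : Epi ((homologyFunctor C n).map T.mor₂) :=
    (HomologySequence.epi_homologyMap_mor₂_iff T hT n (n + 1) rfl).2 (h₁.eq_of_tgt _ _)
  exact isIso_of_mono_of_epi _

/-- One truncation step: peel off the top cohomology of an object of `D^{≤ m}`. -/
lemma trunc_step (X : DerivedCategory C) (m : ℤ) [X.IsLE m] :
    ∃ (X' S : DerivedCategory C) (f : X' ⟶ X) (g : X ⟶ S) (h : S ⟶ X'⟦(1 : ℤ)⟧),
      Triangle.mk f g h ∈ distTriang (DerivedCategory C) ∧ X'.IsLE (m - 1) ∧
      Nonempty (S ≅ (singleFunctor C m).obj ((homologyFunctor C m).obj X)) ∧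
      ∀ k : ℤ, k < m → IsIso ((homologyFunctor C k).map f) := by
  let Tr := (TStructure.t.triangleLTGE m).obj X
  have hTr : Tr ∈ distTriang _ := TStructure.t.triangleLTGE_distinguished m X
  haveI h1 : Tr.obj₁.IsLE (m - 1) := inferInstance
  haveI h3 : Tr.obj₃.IsGE m := inferInstance
  haveI h1' : (Tr.obj₁⟦(1 : ℤ)⟧).IsLE m := by
    haveI := TStructure.t.isLE_shift Tr.obj₁ (m - 1) 1 (m - 2) (by lia)
    exact TStructure.t.isLE_of_le _ (m - 2) m (by lia)
  haveI h3' : Tr.obj₃.IsLE m :=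
    TStructure.t.isLE₂ Tr.rotate (rot_of_distTriang _ hTr) m ‹X.IsLE m› h1'
  obtain ⟨Y, ⟨e⟩⟩ := exists_iso_singleFunctor_obj_of_isGE_of_isLE Tr.obj₃ m
  haveI hiso : IsIso ((homologyFunctor C m).map Tr.mor₂) :=
    isIso_homologyMap_mor₂ Tr hTr m (isZero_of_isLE Tr.obj₁ (m - 1) m (by lia))
      (isZero_of_isLE Tr.obj₁ (m - 1) (m + 1) (by lia))
  let eY : (homologyFunctor C m).obj X ≅ Y :=
    @asIso _ _ _ _ _ hiso ≪≫ (homologyFunctor C m).mapIso e ≪≫
      (singleFunctorCompHomologyFunctorIso C m).app Y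
  refine ⟨Tr.obj₁, Tr.obj₃, Tr.mor₁, Tr.mor₂, Tr.mor₃, hTr, h1,
    ⟨e ≪≫ (singleFunctor C m).mapIso eY.symm⟩, ?_⟩
  intro k hk
  exact isIso_homologyMap_mor₁ Tr hTr k (isZero_of_isGE Tr.obj₃ m (k - 1) (by lia))
    (isZero_of_isGE Tr.obj₃ m k (by lia))

end Groth.Agent.H23.DComp
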