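import Groth.Agent.H23.DComp

/-!
# Orthogonality classes in derived categories, II (helper23)
-/

open CategoryTheory CategoryTheory.Limits CategoryTheory.Pretriangulated

universe w v u

namespace Groth.Agent.H23.DComp

variable {C : Type u} [Category.{v} C] [Abelian C] [HasDerivedCategory.{w} C]

open DerivedCategory

lemma key {T : DerivedCategory C} (hT : Good T) (L : DerivedCategory C) :
    (N T L → N T ((singleFunctor C 0).obj ((homologyFunctor C 0).obj L)) ∧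
       N T (((singleFunctor C 0).obj ((homologyFunctor C (-1)).obj L))⟦(1 : ℤ)⟧)) ∧
    (N T ((singleFunctor C 0).obj ((homologyFunctor C 0).obj L)) →
       N T (((singleFunctor C 0).obj ((homologyFunctor C (-1)).obj L))⟦(1 : ℤ)⟧) → N T L) := by
  let Tr₀ := (TStructure.t.triangleLTGE 1).obj L
  have hTr₀ : Tr₀ ∈ distTriang _ := TStructure.t.triangleLTGE_distinguished 1 L
  haveI hU₀ : Tr₀.obj₁.IsLE 0 := TStructure.t.isLE_of_le _ (1 - 1) 0 (by lia)
  haveI hG₁ : Tr₀.obj₃.IsGE 1 := inferInstance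
  have hiso₀ : ∀ k : ℤ, k ≤ 0 → IsIso ((homologyFunctor C k).map Tr₀.mor₁) := fun k hk =>
    isIso_homologyMap_mor₁ Tr₀ hTr₀ k (isZero_of_isGE Tr₀.obj₃ 1 (k - 1) (by lia))
      (isZero_of_isGE Tr₀.obj₃ 1 k (by lia))
  obtain ⟨U₁, S₀, f₁, g₁, h₁, hTr₁, hU₁, ⟨eS₀⟩, hiso₁⟩ := trunc_step Tr₀.obj₁ 0
  haveI := hU₁
  haveI hU₁' : U₁.IsLE (-1) := TStructure.t.isLE_of_le _ (0 - 1) (-1) (by lia)
  obtain ⟨U₂, S₁, f₂, g₂, h₂, hTr₂, hU₂, ⟨eS₁⟩, hiso₂⟩ := trunc_step U₁ (-1)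
  haveI := hU₂
  haveI hU₂' : U₂.IsLE (-2) := TStructure.t.isLE_of_le _ (-1 - 1) (-2) (by lia)
  have i₀ : IsIso ((homologyFunctor C 0).map Tr₀.mor₁) := hiso₀ 0 le_rfl
  have i₁ : IsIso ((homologyFunctor C (-1)).map Tr₀.mor₁) := hiso₀ (-1) (by lia)
  have i₂ : IsIso ((homologyFunctor C (-1)).map f₁) := hiso₁ (-1) (by lia)
  let a₀ : (homologyFunctor C 0).obj Tr₀.obj₁ ≅ (homologyFunctor C 0).obj L :=
    @asIso _ _ _ _ _ i₀
  let a₁ : (homologyFunctor C (-1)).obj U₁ ≅ (homologyFunctor C (-1)).obj L :=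
    @asIso _ _ _ _ _ i₂ ≪≫ @asIso _ _ _ _ _ i₁
  let eS₀' : S₀ ≅ (singleFunctor C 0).obj ((homologyFunctor C 0).obj L) :=
    eS₀ ≪≫ (singleFunctor C 0).mapIso a₀
  let eS₁' : S₁ ≅ ((singleFunctor C 0).obj ((homologyFunctor C (-1)).obj L))⟦(1 : ℤ)⟧ :=
    eS₁ ≪≫ (singleFunctor C (-1)).mapIso a₁ ≪≫
      (((singleFunctors C).shiftIso 1 (-1) 0 (by lia)).app _).symm
  -- amplitude facts
  haveI hS₀ge : S₀.IsGE 0 := TStructure.t.isGE_of_iso eS₀.symm 0
  have hS₀sh : (S₀⟦(-1 : ℤ)⟧).IsGE 1 := TStructure.t.isGE_shift S₀ 0 (-1) 1 (by lia)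
  have hG₁sh : (Tr₀.obj₃⟦(-1 : ℤ)⟧).IsGE 1 := by
    haveI := TStructure.t.isGE_shift Tr₀.obj₃ 1 (-1) 2 (by lia)
    exact TStructure.t.isGE_of_ge _ 1 2 (by lia)
  have hU₁sh : (U₁⟦(1 : ℤ)⟧).IsLE (-2) := TStructure.t.isLE_shift U₁ (-1) 1 (-2) (by lia)
  have hU₂sh : (U₂⟦(1 : ℤ)⟧).IsLE (-2) := by
    haveI := TStructure.t.isLE_shift U₂ (-2) 1 (-3) (by lia)
    exact TStructure.t.isLE_of_le _ (-3) (-2) (by lia)
  constructor
  · intro hL
    have hU₀N : N T Tr₀.obj₁ := N.left Tr₀ hTr₀ (hT.ge _ hG₁sh) hL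
    have hS₀N : N T S₀ := N.right (Triangle.mk f₁ g₁ h₁) hTr₁ hU₀N (hT.le _ hU₁sh)
    have hU₁N : N T U₁ := N.left (Triangle.mk f₁ g₁ h₁) hTr₁ (hT.ge _ hS₀sh) hU₀N
    have hS₁N : N T S₁ := N.right (Triangle.mk f₂ g₂ h₂) hTr₂ hU₁N (hT.le _ hU₂sh)
    exact ⟨hS₀N.of_iso eS₀', hS₁N.of_iso eS₁'⟩
  · intro h0 h1
    have hU₂N : N T U₂ := hT.le U₂ hU₂'
    have hS₁N : N T S₁ := h1.of_iso eS₁'.symm
    have hU₁N : N T U₁ := N.mid (Triangle.mk f₂ g₂ h₂) hTr₂ hU₂N hS₁N
    have hS₀N : N T S₀ := h0.of_iso eS₀'.symm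
    have hU₀N : N T Tr₀.obj₁ := N.mid (Triangle.mk f₁ g₁ h₁) hTr₁ hU₁N hS₀N
    have hG₁N : N T Tr₀.obj₃ := hT.ge _ hG₁
    exact N.mid Tr₀ hTr₀ hU₀N hG₁N

/-- Automatic vanishing for objects in degree 0. -/
lemma N_auto {T : DerivedCategory C} (hT : Good T) (X : C) (j : ℤ) (hj : j ≤ -1 ∨ 2 ≤ j) :
    N T (((singleFunctor C 0).obj X)⟦j⟧) := by
  rcases hj with hj | hj
  · apply hT.ge
    haveI := TStructure.t.isGE_shift ((singleFunctor C 0).obj X) 0 j (-j) (by lia)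
    exact TStructure.t.isGE_of_ge _ 1 (-j) (by lia)
  · apply hT.le
    haveI := TStructure.t.isLE_shift ((singleFunctor C 0).obj X) 0 j (-j) (by lia)
    exact TStructure.t.isLE_of_le _ (-j) (-2) (by lia)

/-- `DC` for an object of `C` placed in degree 0. -/
def DCo (T : DerivedCategory C) (X : C) : Prop := DC T ((singleFunctor C 0).obj X)

lemma DCo.of_iso {T : DerivedCategory C} {X Y : C} (h : DCo T X) (e : X ≅ Y) : DCo T Y :=
  DC.of_iso h ((singleFunctor C 0).mapIso e)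

theorem dc_iff {T : DerivedCategory C} (hT : Good T) (K : DerivedCategory C) :
    DC T K ↔ ∀ i : ℤ, DCo T ((homologyFunctor C i).obj K) := by
  constructor
  · intro hK i j
    by_cases hj : j ≤ -1 ∨ 2 ≤ j
    · exact N_auto hT _ j hj
    · obtain rfl | rfl : j = 0 ∨ j = 1 := by lia
      · have h := ((key hT (K⟦i⟧)).1 (hK i)).1
        let e : (homologyFunctor C 0).obj (K⟦i⟧) ≅ (homologyFunctor C i).obj K :=
          ((homologyFunctor C 0).shiftIso i 0 i (by lia)).app K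
        exact (h.of_iso ((singleFunctor C 0).mapIso e)).of_iso
          ((shiftFunctorZero (DerivedCategory C) ℤ).app _).symm
      · have h := ((key hT (K⟦i + 1⟧)).1 (hK (i + 1))).2
        let e : (homologyFunctor C (-1)).obj (K⟦i + 1⟧) ≅ (homologyFunctor C i).obj K :=
          ((homologyFunctor C 0).shiftIso (i + 1) (-1) i (by lia)).app K
        exact h.of_iso ((shiftFunctor (DerivedCategory C) (1 : ℤ)).mapIso
          ((singleFunctor C 0).mapIso e))
  · intro h n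
    apply (key hT (K⟦n⟧)).2
    · let e : (homologyFunctor C 0).obj (K⟦n⟧) ≅ (homologyFunctor C n).obj K :=
        ((homologyFunctor C 0).shiftIso n 0 n (by lia)).app K
      exact ((h n 0).of_iso ((shiftFunctorZero (DerivedCategory C) ℤ).app _)).of_iso
        ((singleFunctor C 0).mapIso e.symm)
    · let e : (homologyFunctor C (-1)).obj (K⟦n⟧) ≅ (homologyFunctor C (n - 1)).obj K :=
        ((homologyFunctor C 0).shiftIso n (-1) (n - 1) (by lia)).app K
      exact (h (n - 1) 1).of_iso ((shiftFunctor (DerivedCategory C) (1 : ℤ)).mapIso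
        ((singleFunctor C 0).mapIso e.symm))

/-- Extensions. -/
lemma DCo.ext {T : DerivedCategory C} {S : ShortComplex C} (hS : S.ShortExact)
    (h1 : DCo T S.X₁) (h3 : DCo T S.X₃) : DCo T S.X₂ :=
  DC.mid hS.singleTriangle hS.singleTriangle_distinguished h1 h3

/-- Kernels and cokernels. -/
lemma DCo.ker_coker {T : DerivedCategory C} (hT : Good T) {X Y : C} (f : X ⟶ Y)
    (hX : DCo T X) (hY : DCo T Y) : DCo T (kernel f) ∧ DCo T (cokernel f) := by
  have w1 : kernel.ι f ≫ Abelian.factorThruImage f = 0 := by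
    rw [← cancel_mono (Abelian.image.ι f), Category.assoc, Abelian.image.fac, kernel.condition,
      zero_comp]
  have w2 : Abelian.image.ι f ≫ cokernel.π f = 0 := kernel.condition _
  let S1 : ShortComplex C := ShortComplex.mk (kernel.ι f) (Abelian.factorThruImage f) w1
  let S2 : ShortComplex C := ShortComplex.mk (Abelian.image.ι f) (cokernel.π f) w2
  let S0 : ShortComplex C := ShortComplex.mk (kernel.ι f) f (kernel.condition f)
  have hS0 : S0.Exact := ShortComplex.exact_kernel f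
  let φ : S1 ⟶ S0 :=
    { τ₁ := 𝟙 _
      τ₂ := 𝟙 _
      τ₃ := Abelian.image.ι f
      comm₁₂ := by simp [S1, S0]
      comm₂₃ := by simp [S1, S0] }
  haveI : Epi φ.τ₁ := by dsimp [φ]; infer_instance
  haveI : IsIso φ.τ₂ := by dsimp [φ]; infer_instance
  haveI : Mono φ.τ₃ := by dsimp [φ]; infer_instance
  have hS1e : S1.Exact := (ShortComplex.exact_iff_of_epi_of_isIso_of_mono φ).2 hS0
  have m1 : Mono S1.f := by dsimp [S1]; infer_instance
  have e1 : Epi S1.g := by dsimp [S1]; infer_instance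
  have hS1 : S1.ShortExact := ShortComplex.ShortExact.mk' hS1e m1 e1
  have hS2e : S2.Exact := ShortComplex.exact_kernel (cokernel.π f)
  have m2 : Mono S2.f := by dsimp [S2]; infer_instance
  have e2 : Epi S2.g := by dsimp [S2]; infer_instance
  have hS2 : S2.ShortExact := ShortComplex.ShortExact.mk' hS2e m2 e2
  have d1 := hS1.singleTriangle_distinguished
  have d2 := hS2.singleTriangle_distinguished
  have hI : DCo T (Abelian.image f) := by
    intro j
    by_cases hj : j ≤ -1 ∨ 2 ≤ j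
    · exact N_auto hT _ j hj
    · obtain rfl | rfl : j = 0 ∨ j = 1 := by lia
      · exact NS.left hS2.singleTriangle d2 0 (N_auto hT _ (0 - 1) (by lia)) (hY 0)
      · exact NS.right hS1.singleTriangle d1 1 (hX 1) (N_auto hT _ (1 + 1) (by lia))
  constructor
  · intro n
    exact NS.left hS1.singleTriangle d1 n (hI (n - 1)) (hX n)
  · intro n
    exact NS.right hS2.singleTriangle d2 n (hY n) (hI (n + 1))

end Groth.Agent.H23.DComp
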