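import Groth.Agent.H23.DComp2

/-!
# Orthogonality classes in derived categories, III (helper23)
-/

open CategoryTheory CategoryTheory.Limits CategoryTheory.Pretriangulated

universe w v u

namespace Groth.Agent.H23.DComp

variable {C : Type u} [Category.{v} C] [Abelian C] [HasDerivedCategory.{w} C]

open DerivedCategory

lemma DCo.homology {T : DerivedCategory C} (hT : Good T) (S : ShortComplex C)
    (h1 : DCo T S.X₁) (h2 : DCo T S.X₂) (h3 : DCo T S.X₃) : DCo T S.homology := by
  have hk : DCo T (kernel S.g) := (DCo.ker_coker hT S.g h2 h3).1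
  have hc : DCo T (cokernel (kernel.lift S.g S.f S.zero)) := (DCo.ker_coker hT _ h1 hk).2
  exact hc.of_iso S.homologyIsoCokernelLift.symm

lemma DCo.of_sum {T : DerivedCategory C} {X : C} {ι : Type*} (s : Finset ι) (Y : ι → C)
    (p : ∀ i, X ⟶ Y i) (q : ∀ i, Y i ⟶ X) (hpq : 𝟙 X = ∑ i ∈ s, p i ≫ q i)
    (hY : ∀ i ∈ s, DCo T (Y i)) : DCo T X := by
  intro n g
  let F := singleFunctor C 0 ⋙ shiftFunctor (DerivedCategory C) n
  haveI : F.Additive := by dsimp [F]; infer_instance
  have h1 : g = g ≫ F.map (𝟙 X) := by rw [F.map_id]; exact (Category.comp_id g).symm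
  rw [h1, hpq, Functor.map_sum, Preadditive.comp_sum]
  apply Finset.sum_eq_zero
  intro i hi
  rw [F.map_comp, ← Category.assoc]
  have h2 : g ≫ F.map (p i) = 0 := hY i hi n _
  rw [h2, zero_comp]

theorem dco_iff_bijective {S : ShortComplex C} (hS : S.ShortExact) [Projective S.X₁]
    [Projective S.X₂] (M : C) :
    DCo ((singleFunctor C 0).obj S.X₃) M ↔ Function.Bijective (fun φ : S.X₂ ⟶ M => S.f ≫ φ) := by
  let F := singleFunctor C 0
  have hTr := hS.singleTriangle_distinguished
  have hgood := good_of_resolution hS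
  let z := (shiftFunctorZero (DerivedCategory C) ℤ).app (F.obj M)
  constructor
  · intro h
    constructor
    · intro φ₁ φ₂ h12
      have h12' : S.f ≫ φ₁ = S.f ≫ φ₂ := h12
      have h0 : S.f ≫ (φ₁ - φ₂) = 0 := by
        rw [Preadditive.comp_sub]; exact sub_eq_zero.2 h12'
      have h1 : F.map S.f ≫ F.map (φ₁ - φ₂) = 0 := by
        rw [← F.map_comp, h0, F.map_zero]
      obtain ⟨g, hg⟩ := Triangle.yoneda_exact₂ _ hTr (F.map (φ₁ - φ₂)) h1
      have hg0 : g = 0 := ((h 0).of_iso z) g
      rw [hg0, comp_zero] at hg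
      have h2 : φ₁ - φ₂ = 0 := F.map_injective (hg.trans (F.map_zero _ _).symm)
      exact sub_eq_zero.1 h2
    · intro ψ
      have h1 : hS.singleδ ≫ (F.map ψ)⟦(1 : ℤ)⟧' = 0 := h 1 _
      obtain ⟨k, hk⟩ := Triangle.yoneda_exact₃ _ (rot_of_distTriang _ hTr)
        ((F.map ψ)⟦(1 : ℤ)⟧') h1
      obtain ⟨k', rfl⟩ := (shiftFunctor (DerivedCategory C) (1 : ℤ)).map_surjective k
      obtain ⟨φ, rfl⟩ := F.map_surjective k'
      refine ⟨-φ, ?_⟩
      show S.f ≫ (-φ) = ψ
      apply F.map_injective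
      apply (shiftFunctor (DerivedCategory C) (1 : ℤ)).map_injective
      refine Eq.trans ?_ hk.symm
      show (shiftFunctor (DerivedCategory C) (1 : ℤ)).map (F.map (S.f ≫ (-φ))) =
        (-(shiftFunctor (DerivedCategory C) (1 : ℤ)).map (F.map S.f)) ≫
          (shiftFunctor (DerivedCategory C) (1 : ℤ)).map (F.map φ)
      simp only [Functor.map_comp, Functor.map_neg, Preadditive.comp_neg, Preadditive.neg_comp]
  · intro hb n
    by_cases hn : n ≤ -1 ∨ 2 ≤ n
    · exact N_auto hgood M n hn
    · obtain rfl | rfl : n = 0 ∨ n = 1 := by lia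
      · intro g
        have hg0 : g ≫ z.hom = 0 := by
          obtain ⟨φ, hφ⟩ := F.map_surjective (F.map S.g ≫ g ≫ z.hom)
          have h1 : F.map (S.f ≫ φ) = 0 := by
            rw [F.map_comp, hφ, ← Category.assoc, ← F.map_comp, S.zero, F.map_zero, zero_comp]
          have h2 : S.f ≫ φ = S.f ≫ 0 := by
            rw [comp_zero]; exact F.map_injective (h1.trans (F.map_zero _ _).symm)
          have h3 : φ = 0 := hb.injective h2
          have h4 : F.map S.g ≫ g ≫ z.hom = 0 := by rw [← hφ, h3, F.map_zero]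
          obtain ⟨g', hg'⟩ := Triangle.yoneda_exact₃ _ hTr (g ≫ z.hom) h4
          have hle : ((F.obj S.X₁)⟦(1 : ℤ)⟧).IsLE (-1) :=
            TStructure.t.isLE_shift (F.obj S.X₁) 0 1 (-1) (by lia)
          have hge : (F.obj M).IsGE 0 := inferInstance
          have hz : g' = 0 := TStructure.t.zero_of_isLE_of_isGE g' (-1) 0 (by lia) hle hge
          subst hz
          exact hg'.trans comp_zero
        exact (cancel_mono z.hom).1 (hg0.trans zero_comp.symm)
      · intro g
        haveI hle : ((F.obj M)⟦(1 : ℤ)⟧).IsLE (-1) :=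
          TStructure.t.isLE_shift (F.obj M) 0 1 (-1) (by lia)
        have h4 : F.map S.g ≫ g = 0 := N_single_projective S.X₂ 0 (-1) (by lia) _ _
        obtain ⟨g', hg'⟩ := Triangle.yoneda_exact₃ _ hTr g h4
        obtain ⟨k', rfl⟩ := (shiftFunctor (DerivedCategory C) (1 : ℤ)).map_surjective g'
        obtain ⟨ψ, rfl⟩ := F.map_surjective k'
        obtain ⟨φ, hφ⟩ := hb.surjective ψ
        have hφ' : S.f ≫ φ = ψ := hφ
        have e0 : hS.singleδ ≫ (shiftFunctor (DerivedCategory C) (1 : ℤ)).map (F.map S.f) = 0 :=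
          comp_distTriang_mor_zero₃₁ _ hTr
        subst hφ'
        have e1 : (shiftFunctor (DerivedCategory C) (1 : ℤ)).map (F.map (S.f ≫ φ)) =
            (shiftFunctor (DerivedCategory C) (1 : ℤ)).map (F.map S.f) ≫
              (shiftFunctor (DerivedCategory C) (1 : ℤ)).map (F.map φ) := by
          rw [F.map_comp, Functor.map_comp]
        have e2 : hS.singleδ ≫
            (shiftFunctor (DerivedCategory C) (1 : ℤ)).map (F.map (S.f ≫ φ)) = 0 := by
          rw [e1, ← Category.assoc, e0, zero_comp]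
        exact hg'.trans e2

end Groth.Agent.H23.DComp
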