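import Groth.Agent.H23.DCompMod4

/-!
# Derived complete power-torsion modules have bounded torsion (helper23)
-/

universe u

namespace Groth.Agent.H23.DComp

variable {A : Type u} [CommRing A]

section

variable {M : Type*} [AddCommGroup M] [Module A M]

lemma mem_span_pow_smul_top {f : A} {n : ℕ} {m : M} :
    m ∈ ((Ideal.span {f}) ^ n • ⊤ : Submodule A M) ↔ ∃ u : M, f ^ n • u = m := by
  rw [Ideal.span_singleton_pow, Submodule.ideal_span_singleton_smul]
  constructor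
  · intro h
    obtain ⟨y, -, hy⟩ := (Submodule.mem_smul_pointwise_iff_exists _ _ _).1 h
    exact ⟨y, hy⟩
  · rintro ⟨u, rfl⟩
    exact Submodule.smul_mem_pointwise_smul _ _ _ Submodule.mem_top

/-- Derived Nakayama, elementary form: an `f`-divisible subset of an `f`-derived complete module
is zero. -/
lemma eq_zero_of_divisible {f : A} (hP : P (A := A) M f) (D : Set M)
    (h : ∀ d ∈ D, ∃ d' ∈ D, f • d' = d) : ∀ d ∈ D, d = 0 := by
  intro d hd
  have h' : ∀ d : D, ∃ d' : D, f • (d' : M) = (d : M) := by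
    rintro ⟨d, hd⟩
    obtain ⟨d', hd', e⟩ := h d hd
    exact ⟨⟨d', hd'⟩, e⟩
  choose g hg using h'
  let s : ℕ → M := fun i => ((g^[i] ⟨d, hd⟩ : D) : M)
  have hs : Phi (A := A) M f s = Phi (A := A) M f (fun _ => 0) := by
    funext i
    show f • s (i + 1) - s i = f • (0 : M) - 0
    have e : s (i + 1) = ((g (g^[i] ⟨d, hd⟩) : D) : M) := by
      show ((g^[i + 1] ⟨d, hd⟩ : D) : M) = _
      rw [Function.iterate_succ_apply']
    rw [e, hg, smul_zero, sub_zero, sub_self]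
  exact congrFun (hP.1 hs) 0

lemma exists_not_mem {f : A} (hP : P (A := A) M f) (hub : ∀ n : ℕ, ∃ m : M, f ^ n • m ≠ 0)
    (c : ℕ) : ∃ z : M, ¬ ∃ u : M, f ^ (c + 1) • u = f ^ c • z := by
  by_contra hcon
  push_neg at hcon
  obtain ⟨m, hm⟩ := hub c
  apply hm
  refine eq_zero_of_divisible hP {d | ∃ z : M, f ^ c • z = d} ?_ _ ⟨m, rfl⟩
  rintro d ⟨z, rfl⟩
  obtain ⟨u, hu⟩ := hcon z
  refine ⟨f ^ c • u, ⟨u, rfl⟩, ?_⟩
  rw [← hu, pow_succ', mul_smul]

/-- An `f`-derived complete module all of whose elements are killed by a power of `f` is killed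
by a single power of `f`. -/
theorem bounded_of_torsion {f : A} (hP : P (A := A) M f)
    (ht : ∀ m : M, ∃ n : ℕ, f ^ n • m = 0) : ∃ n : ℕ, ∀ m : M, f ^ n • m = 0 := by
  by_contra hcon
  push_neg at hcon
  have hstep : ∀ (n : ℕ) (a : M),
      ∃ z : M, ¬ ∃ u : M, f ^ (2 * n + 1) • u = f ^ n • (a + f ^ n • z) := by
    intro n a
    by_cases h0 : ∃ u : M, f ^ (2 * n + 1) • u = f ^ n • a
    · obtain ⟨u₀, hu₀⟩ := h0
      obtain ⟨z, hz⟩ := exists_not_mem hP hcon (2 * n)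
      refine ⟨z, ?_⟩
      rintro ⟨u, hu⟩
      apply hz
      refine ⟨u - u₀, ?_⟩
      rw [smul_sub, hu, hu₀, smul_add, add_sub_cancel_left, smul_smul, ← pow_add, two_mul]
    · refine ⟨0, ?_⟩
      rwa [smul_zero, add_zero]
  choose zz hzz using hstep
  let a : ℕ → M := fun n => Nat.rec (0 : M) (fun k ak => ak + f ^ k • zz k ak) n
  have ha : ∀ n, a (n + 1) = a n + f ^ n • zz n (a n) := fun n => rfl
  have hcauchy : ∀ n, a (n + 1) - a n ∈ ((Ideal.span {f}) ^ n • ⊤ : Submodule A M) := by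
    intro n
    rw [ha, add_sub_cancel_left]
    exact mem_span_pow_smul_top.2 ⟨_, rfl⟩
  obtain ⟨L, hL⟩ := Q_span_singleton hP a hcauchy
  obtain ⟨e, he⟩ := ht L
  obtain ⟨u, hu⟩ := mem_span_pow_smul_top.1 (hL (e + 1))
  apply hzz e (a e)
  refine ⟨-u, ?_⟩
  have h1 : f ^ e • (L - a (e + 1)) = f ^ (2 * e + 1) • u := by
    rw [← hu, smul_smul, ← pow_add, show e + (e + 1) = 2 * e + 1 by ring]
  rw [smul_sub, he, zero_sub] at h1
  rw [smul_neg, ← h1, neg_neg, ha]

theorem bounded_of_powerTorsion (I : Ideal A) (hI : I.FG) (hP : ∀ g ∈ I, P (A := A) M g)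
    (ht : ∀ m : M, ∃ n : ℕ, ∀ a ∈ I ^ n, a • m = 0) :
    ∃ n : ℕ, I ^ n • (⊤ : Submodule A M) = ⊥ := by
  have h1 : I ≤ (Module.annihilator A M).radical := by
    intro g hg
    obtain ⟨n, hn⟩ := bounded_of_torsion (hP g hg) (fun m => by
      obtain ⟨n, hn⟩ := ht m
      exact ⟨n, hn _ (Ideal.pow_mem_pow hg n)⟩)
    exact Ideal.mem_radical_iff.2 ⟨n, Module.mem_annihilator.2 hn⟩
  obtain ⟨n, hn⟩ := Ideal.exists_pow_le_of_le_radical_of_fg h1 hI
  refine ⟨n, ?_⟩
  rw [eq_bot_iff, Submodule.smul_le]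
  intro r hr m _
  rw [Submodule.mem_bot]
  exact Module.mem_annihilator.1 (hn hr) m

end

end Groth.Agent.H23.DComp
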