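import Groth.Agent.H23.DCompMod4

/-!
# Derived complete rings are henselian (helper23)
-/

universe u

open Polynomial
open scoped Ring

attribute [local instance] HasDerivedCategory.standard

namespace Groth.Agent.H23.DComp

/-- Newton's method (copied from the proof of `IsAdicComplete.henselianRing`): only uses that
`I` is contained in the Jacobson radical. -/
lemma newton_cauchy {R : Type*} [CommRing R] (I : Ideal R) (hjac : I ≤ Ideal.jacobson ⊥)
    (f : R[X]) (a₀ : R) (h₁ : f.eval a₀ ∈ I)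
    (h₂ : IsUnit (Ideal.Quotient.mk I (f.derivative.eval a₀))) :
    ∃ c : ℕ → R, c 0 = a₀ ∧ (∀ n, c n ≡ a₀ [SMOD I]) ∧ (∀ n, f.eval (c n) ∈ I ^ (n + 1)) ∧
      (∀ m n, m ≤ n → c m ≡ c n [SMOD (I ^ m • ⊤ : Ideal R)]) := by
  classical
  let f' := derivative f
  let c : ℕ → R := fun n => Nat.recOn n a₀ fun _ b => b - f.eval b * (f'.eval b)⁻¹ʳ
  have hc : ∀ n, c (n + 1) = c n - f.eval (c n) * (f'.eval (c n))⁻¹ʳ := by
    intro n
    simp only [c]
  have hc_mod : ∀ n, c n ≡ a₀ [SMOD I] := by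
    intro n
    induction n with
    | zero => rfl
    | succ n ih => ?_
    rw [hc, sub_eq_add_neg, ← add_zero a₀]
    refine ih.add ?_
    rw [SModEq.zero, Ideal.neg_mem_iff]
    refine I.mul_mem_right _ ?_
    rw [← SModEq.zero] at h₁ ⊢
    exact (ih.eval f).trans h₁
  have hf'c : ∀ n, IsUnit (f'.eval (c n)) := by
    intro n
    have := isLocalHom_of_le_jacobson_bot I hjac
    apply IsUnit.of_map (Ideal.Quotient.mk I)
    convert! h₂ using 1
    exact SModEq.def.mp ((hc_mod n).eval _)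
  have hfcI : ∀ n, f.eval (c n) ∈ I ^ (n + 1) := by
    intro n
    induction n with
    | zero => simpa only [Nat.rec_zero, zero_add, pow_one] using! h₁
    | succ n ih => ?_
    rw [← taylor_eval_sub (c n), hc, sub_eq_add_neg, sub_eq_add_neg,
      add_neg_cancel_comm]
    rw [eval_eq_sum, sum_over_range' _ _ _ (lt_add_of_pos_right _ zero_lt_two), ←
      Finset.sum_range_add_sum_Ico _ (Nat.le_add_left _ _)]
    swap
    · intro i
      rw [zero_mul]
    refine Ideal.add_mem _ ?_ ?_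
    · rw [← one_add_one_eq_two, Finset.sum_range_succ, Finset.range_one, Finset.sum_singleton,
        taylor_coeff_zero, taylor_coeff_one, pow_zero, pow_one, mul_one, mul_neg,
        mul_left_comm, Ring.mul_inverse_cancel _ (hf'c n), mul_one, add_neg_cancel]
      exact Ideal.zero_mem _
    · refine Submodule.sum_mem _ ?_
      simp only [Finset.mem_Ico]
      rintro i ⟨h2i, _⟩
      have aux : n + 2 ≤ i * (n + 1) := by trans 2 * (n + 1) <;> nlinarith only [h2i]
      refine Ideal.mul_mem_left _ _ (Ideal.pow_le_pow_right aux ?_)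
      rw [pow_mul']
      exact Ideal.pow_mem_pow ((Ideal.neg_mem_iff _).2 <| Ideal.mul_mem_right _ _ ih) _
  have aux : ∀ m n, m ≤ n → c m ≡ c n [SMOD (I ^ m • ⊤ : Ideal R)] := by
    intro m n hmn
    rw [← Ideal.one_eq_top, Ideal.smul_eq_mul, mul_one]
    obtain ⟨k, rfl⟩ := Nat.exists_eq_add_of_le hmn
    clear hmn
    induction k with
    | zero => rw [add_zero]
    | succ k ih => ?_
    rw [← add_assoc, hc, ← add_zero (c m), sub_eq_add_neg]
    refine ih.add ?_
    symm
    rw [SModEq.zero, Ideal.neg_mem_iff]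
    refine Ideal.mul_mem_right _ _ (Ideal.pow_le_pow_right ?_ (hfcI _))
    rw [add_assoc]
    exact le_self_add
  exact ⟨c, rfl, hc_mod, hfcI, aux⟩

variable {A : Type u} [CommRing A]

lemma le_jacobson_of_P (I : Ideal A) (hP : ∀ g ∈ I, P (A := A) A g) : I ≤ Ideal.jacobson ⊥ := by
  intro x hx
  rw [Ideal.mem_jacobson_bot]
  intro y
  have hb := op_bijective (hP x hx) (LinearMap.mulLeft A (-y))
  obtain ⟨m, hm⟩ := hb.2 1
  have hm' : x • (-y * m) - m = 1 := hm
  refine IsUnit.of_mul_eq_one (-m) ?_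
  exact (by rw [smul_eq_mul]; ring : (x * y + 1) * -m = x • (-y * m) - m).trans hm'

theorem henselian_of_P (I : Ideal A) (hP : ∀ g ∈ I, P (A := A) A g) : HenselianRing A I where
  jac := le_jacobson_of_P I hP
  is_henselian := by
    classical
    intro f _ a₀ h₁ h₂
    have hjac := le_jacobson_of_P I hP
    have hloc := isLocalHom_of_le_jacobson_bot I hjac
    have hu : IsUnit (f.derivative.eval a₀) := IsUnit.of_map (Ideal.Quotient.mk I) _ h₂
    let g := f.eval a₀
    let I₁ : Ideal A := Ideal.span {g}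
    have hI₁ : I₁ ≤ I := (Ideal.span_singleton_le_iff_mem (I := I)).2 h₁
    have hjac₁ : I₁ ≤ Ideal.jacobson ⊥ := hI₁.trans hjac
    have hloc₁ := isLocalHom_of_le_jacobson_bot I₁ hjac₁
    obtain ⟨c, hc0, hcmod, hfc, hcauchy⟩ := newton_cauchy I₁ hjac₁ f a₀
      (Ideal.mem_span_singleton_self g) (hu.map _)
    have hQ : Q I₁ A := Q_span_singleton (hP g h₁)
    have hcx : ∀ n, c (n + 1) - c n ∈ (I₁ ^ n • ⊤ : Submodule A A) := fun n =>
      SModEq.sub_mem.1 (hcauchy n (n + 1) (Nat.le_succ n)).symm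
    obtain ⟨a, ha⟩ := hQ c hcx
    have ha' : ∀ n, a ≡ c n [SMOD (I₁ ^ n : Ideal A)] := by
      intro n
      have h := SModEq.sub_mem.2 (ha n)
      rwa [Ideal.smul_eq_mul, Ideal.mul_top] at h
    have hfa : ∀ n, f.eval a ∈ I₁ ^ n := by
      intro n
      have h := ((ha' n).eval f)
      rw [← SModEq.zero]
      refine h.trans ?_
      rw [SModEq.zero]
      exact Ideal.pow_le_pow_right (Nat.le_succ n) (hfc n)
    have hmod : a ≡ a₀ [SMOD I₁] := by
      have h := ha' 1
      rw [pow_one] at h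
      exact h.trans (hcmod 1)
    have hu' : IsUnit (f.derivative.eval a) := by
      apply IsUnit.of_map (Ideal.Quotient.mk I₁)
      have e : Ideal.Quotient.mk I₁ (f.derivative.eval a) =
          Ideal.Quotient.mk I₁ (f.derivative.eval a₀) := SModEq.def.mp (hmod.eval _)
      rw [e]
      exact hu.map _
    obtain ⟨v, hv⟩ := hu'
    have hJ : (⨅ n : ℕ, I₁ ^ n) ^ 2 = ⊥ := by
      have h := iInf_sq_le g (hP g h₁) ⊥ Submodule.fg_bot
      rw [sup_bot_eq] at h
      rw [eq_bot_iff]
      refine h.trans ((iInf_le _ 1).trans ?_)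
      rw [pow_one]
    have hfaJ : f.eval a ∈ ⨅ n : ℕ, I₁ ^ n := by
      rw [Ideal.mem_iInf]; exact hfa
    set y : A := -(f.eval a * ↑v⁻¹) with hy
    obtain ⟨k, hk⟩ := f.binomExpansion a y
    have hyJ : y ∈ ⨅ n : ℕ, I₁ ^ n := by
      rw [hy, Ideal.neg_mem_iff]; exact Ideal.mul_mem_right _ _ hfaJ
    have hy2 : y ^ 2 = 0 := by
      have h : y ^ 2 ∈ (⨅ n : ℕ, I₁ ^ n) ^ 2 := Ideal.pow_mem_pow hyJ 2
      rw [hJ] at h
      exact h
    refine ⟨a + y, ?_, ?_⟩
    · rw [Polynomial.IsRoot.def, hk, hy2, mul_zero, add_zero, ← hv, hy]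
      rw [mul_neg, mul_left_comm, Units.mul_inv, mul_one, add_neg_cancel]
    · have h1 : a - a₀ ∈ I := hI₁ (SModEq.sub_mem.1 hmod)
      have h2 : y ∈ I := by
        have h : y ∈ I₁ ^ 1 := (Ideal.mem_iInf.1 hyJ) 1
        rw [pow_one] at h
        exact hI₁ h
      have e : a + y - a₀ = (a - a₀) + y := by ring
      rw [e]; exact I.add_mem h1 h2

theorem henselian_of_isDerivedComplete (I : Ideal A)
    (hc : DRing.IsDerivedComplete I (Dual.inD A A)) : HenselianRing A I :=
  henselian_of_P I (fun g hg => P_of_isDerivedComplete I A hc g hg)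

end Groth.Agent.H23.DComp
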