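import Mathlib

/-!
# The set of `f` for which a module is `f`-derived-complete is a radical ideal (helper23)

Sequence form: `P M f` says that `(m_i) ↦ (f m_{i+1} - m_i)` is bijective on `ℕ → M`.
-/

universe u

namespace Groth.Agent.H23.DComp

variable {A : Type u} [CommRing A]

/-- The operator `(m_i) ↦ (f m_{i+1} - m_i)`. -/
def Phi (N : Type*) [AddCommGroup N] [Module A N] (f : A) : (ℕ → N) → (ℕ → N) :=
  fun m i => f • m (i + 1) - m i

/-- `N` is `f`-derived complete (sequence form). -/
def P (N : Type*) [AddCommGroup N] [Module A N] (f : A) : Prop :=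
  Function.Bijective (Phi (A := A) N f)

section

variable {N : Type*} [AddCommGroup N] [Module A N]

lemma op_bijective {f : A} (h : P N f) (Y : N →ₗ[A] N) :
    Function.Bijective (fun m : N => f • Y m - m) := by
  constructor
  · intro m m' hmm
    have hmm' : f • Y m - m = f • Y m' - m' := hmm
    have hd : f • Y (m - m') = m - m' := by
      rw [map_sub, smul_sub]; exact sub_eq_sub_iff_sub_eq_sub.2 hmm'
    have hseq : Phi N f (fun j => (Y ^ j) (m - m')) = Phi N f (fun _ => 0) := by
      funext j
      show f • (Y ^ (j + 1)) (m - m') - (Y ^ j) (m - m') = f • (0 : N) - 0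
      rw [pow_succ, Module.End.mul_apply, ← map_smul, hd, sub_self, smul_zero, sub_zero]
    have h0 := congrFun (@h.1 (fun j => (Y ^ j) (m - m')) (fun _ => 0) hseq) 0
    have h1 : m - m' = 0 := by
      have e : (Y ^ 0) (m - m') = m - m' := by rw [pow_zero, Module.End.one_apply]
      rw [← e]; exact h0
    exact sub_eq_zero.1 h1
  · intro c
    obtain ⟨n, hn⟩ := h.2 (fun j => (Y ^ j) c)
    have h1 : Phi N f (fun j => Y (n j)) = Phi N f (fun j => n (j + 1)) := by
      funext j
      have e1 : f • n (j + 1) - n j = (Y ^ j) c := congrFun hn j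
      have e2 : f • n (j + 1 + 1) - n (j + 1) = (Y ^ (j + 1)) c := congrFun hn (j + 1)
      show f • Y (n (j + 1)) - Y (n j) = f • n (j + 1 + 1) - n (j + 1)
      calc f • Y (n (j + 1)) - Y (n j) = Y (f • n (j + 1) - n j) := by rw [map_sub, map_smul]
        _ = Y ((Y ^ j) c) := by rw [e1]
        _ = (Y ^ (j + 1)) c := by rw [pow_succ', Module.End.mul_apply]
        _ = f • n (j + 1 + 1) - n (j + 1) := e2.symm
    have h2 : Y (n 0) = n (0 + 1) :=
      congrFun (@h.1 (fun j => Y (n j)) (fun j => n (j + 1)) h1) 0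
    refine ⟨n 0, ?_⟩
    show f • Y (n 0) - n 0 = c
    rw [h2]
    have e0 : f • n (0 + 1) - n 0 = (Y ^ 0) c := congrFun hn 0
    rw [e0, pow_zero, Module.End.one_apply]

lemma P_pi {f : A} (h : P N f) : P (ℕ → N) f := by
  constructor
  · intro n n' hnn
    funext j i
    have h1 : Phi N f (fun j => n j i) = Phi N f (fun j => n' j i) := by
      funext j
      exact congrFun (congrFun hnn j) i
    exact congrFun (@h.1 (fun j => n j i) (fun j => n' j i) h1) j
  · intro c
    have hex : ∀ i, ∃ m : ℕ → N, Phi N f m = fun j => c j i := fun i => h.2 _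
    choose m hm using hex
    refine ⟨fun j i => m i j, ?_⟩
    funext j i
    exact congrFun (hm i) j

/-- the shift operator on sequences -/
def shiftL (N : Type*) [AddCommGroup N] [Module A N] : (ℕ → N) →ₗ[A] (ℕ → N) :=
  LinearMap.funLeft A N (fun i => i + 1)

lemma Phi_eq (f : A) : Phi N f = fun m => f • shiftL (A := A) N m - m := rfl

lemma P_zero : P N (0 : A) := by
  have h : Phi N (0 : A) = fun m => -m := by
    funext m i
    show (0 : A) • m (i + 1) - m i = -m i
    rw [zero_smul, zero_sub]
  show Function.Bijective (Phi N (0 : A))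
  rw [h]
  exact (Equiv.neg (ℕ → N)).bijective

lemma P_mul {g : A} (a : A) (h : P N g) : P N (a * g) := by
  have hN : P (ℕ → N) g := P_pi h
  have hb := op_bijective hN (a • shiftL (A := A) N)
  have e : Phi N (a * g) = fun m => g • (a • shiftL (A := A) N) m - m := by
    funext m i
    show (a * g) • m (i + 1) - m i = g • a • m (i + 1) - m i
    rw [mul_comm, mul_smul]
  show Function.Bijective (Phi N (a * g))
  rw [e]
  exact hb

lemma P_add {f g : A} (hf : P N f) (hg : P N g) : P N (f + g) := by
  have hN : P (ℕ → N) f := P_pi hf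
  let S := shiftL (A := A) N
  let U : (ℕ → N) →ₗ[A] (ℕ → N) := LinearMap.id - g • S
  have hU : Function.Bijective U := by
    have e : (U : (ℕ → N) → (ℕ → N)) = (fun m => -m) ∘ Phi N g := by
      funext m
      show m - g • S m = -(g • S m - m)
      rw [neg_sub]
    rw [e]
    exact (Equiv.neg (ℕ → N)).bijective.comp hg
  let e := LinearEquiv.ofBijective U hU
  have hb := op_bijective hN (S ∘ₗ e.symm.toLinearMap)
  have hcomp : Phi N (f + g) = (fun m => f • (S ∘ₗ e.symm.toLinearMap) m - m) ∘ U := by
    funext m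
    show (f + g) • S m - m = f • S (e.symm (U m)) - U m
    have e1 : e.symm (U m) = m := e.symm_apply_apply m
    rw [e1]
    show (f + g) • S m - m = f • S m - (m - g • S m)
    rw [add_smul]; abel
  show Function.Bijective (Phi N (f + g))
  rw [hcomp]
  exact hb.comp hU

lemma P_of_sq {g : A} (h : P N (g ^ 2)) : P N g := by
  have hN : P (ℕ → N) (g ^ 2) := P_pi h
  let S := shiftL (A := A) N
  have hb := op_bijective hN (S ∘ₗ S)
  let Pm : (ℕ → N) → (ℕ → N) := fun m => g • S m - m
  let Qm : (ℕ → N) → (ℕ → N) := fun m => g • S m + m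
  have e1 : Pm ∘ Qm = fun m => g ^ 2 • (S ∘ₗ S) m - m := by
    funext m
    show g • S (g • S m + m) - (g • S m + m) = g ^ 2 • S (S m) - m
    rw [map_add, map_smul, smul_add, smul_smul, ← pow_two]; abel
  have e2 : Qm ∘ Pm = fun m => g ^ 2 • (S ∘ₗ S) m - m := by
    funext m
    show g • S (g • S m - m) + (g • S m - m) = g ^ 2 • S (S m) - m
    rw [map_sub, map_smul, smul_sub, smul_smul, ← pow_two]; abel
  have hPQ : Function.Bijective (Pm ∘ Qm) := by rw [e1]; exact hb
  have hQP : Function.Bijective (Qm ∘ Pm) := by rw [e2]; exact hb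
  exact ⟨Function.Injective.of_comp hQP.1, Function.Surjective.of_comp hPQ.2⟩

end

/-- The ideal of `f` for which `M` is `f`-derived complete. -/
def JM (M : Type*) [AddCommGroup M] [Module A M] : Ideal A where
  carrier := {g | P M g}
  zero_mem' := P_zero
  add_mem' := fun hf hg => P_add hf hg
  smul_mem' := fun a _ hg => P_mul a hg

lemma mem_JM {M : Type*} [AddCommGroup M] [Module A M] (g : A) : g ∈ JM (A := A) M ↔ P M g :=
  Iff.rfl

lemma JM_isRadical (M : Type*) [AddCommGroup M] [Module A M] : (JM (A := A) M).IsRadical :=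
  (Ideal.isRadical_iff_pow_one_lt 2 one_lt_two).2 (fun _ hr => P_of_sq hr)

end Groth.Agent.H23.DComp
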