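import Groth.Agent.H23.DComp2
import Groth.Prelude.Def_DRing3

/-!
# Derived completeness via orthogonality to `A_f` (helper23)
-/

open CategoryTheory CategoryTheory.Limits Polynomial

universe u

attribute [local instance] HasDerivedCategory.standard

namespace Groth.Agent.H23.DComp

variable {A : Type u} [CommRing A]

/-- the polynomial `fX - 1` -/
noncomputable abbrev pf (f : A) : A[X] := C f * X - 1

lemma pf_mul_eq_zero (f : A) (q : A[X]) (hq : pf f * q = 0) : q = 0 := by
  have hq' : q = C f * X * q := by
    have h1 : C f * X * q - q = 0 := by rw [← hq]; ring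
    exact (sub_eq_zero.1 h1).symm
  have hc : ∀ n : ℕ, q.coeff n = 0 := by
    intro n
    induction n with
    | zero =>
      rw [hq', mul_assoc, coeff_C_mul, coeff_X_mul_zero, mul_zero]
    | succ n ih =>
      rw [hq', mul_assoc, coeff_C_mul, coeff_X_mul, ih, mul_zero]
  ext n
  rw [hc n, coeff_zero]

/-- multiplication by `fX - 1` -/
noncomputable def muLin (f : A) : A[X] →ₗ[A] A[X] := LinearMap.mulLeft A (pf f)

/-- evaluation at `1/f` -/
noncomputable def piLin (f : A) : A[X] →ₗ[A] Localization.Away f :=
  (Localization.awayEquivAdjoin f).symm.toLinearMap ∘ₗ (AdjoinRoot.mkₐ (pf f)).toLinearMap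

lemma muLin_apply (f : A) (g : A[X]) : muLin f g = pf f * g := rfl

lemma muLin_injective (f : A) : Function.Injective (muLin f) := by
  intro g h hgh
  have h0 : pf f * (g - h) = 0 := by
    rw [mul_sub]; exact sub_eq_zero.2 hgh
  exact sub_eq_zero.1 (pf_mul_eq_zero f _ h0)

lemma piLin_eq_zero_iff (f : A) (x : A[X]) : piLin f x = 0 ↔ pf f ∣ x := by
  have h1 : piLin f x = (Localization.awayEquivAdjoin f).symm (AdjoinRoot.mk (pf f) x) := rfl
  rw [h1, map_eq_zero_iff _ (Localization.awayEquivAdjoin f).symm.injective,
    AdjoinRoot.mk_eq_zero]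

lemma piLin_surjective (f : A) : Function.Surjective (piLin f) := by
  intro y
  obtain ⟨x, hx⟩ := AdjoinRoot.mk_surjective (g := pf f) (Localization.awayEquivAdjoin f y)
  refine ⟨x, ?_⟩
  have h1 : piLin f x = (Localization.awayEquivAdjoin f).symm (AdjoinRoot.mk (pf f) x) := rfl
  rw [h1, hx, AlgEquiv.symm_apply_apply]

/-- the length-one free resolution of `A_f` -/
noncomputable def resS (f : A) : ShortComplex (ModuleCat.{u} A) :=
  ShortComplex.mk (ModuleCat.ofHom (muLin f)) (ModuleCat.ofHom (piLin f))
    (ModuleCat.hom_ext (LinearMap.ext (fun x => by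
      show piLin f (muLin f x) = 0
      rw [piLin_eq_zero_iff, muLin_apply]
      exact dvd_mul_right _ _)))

lemma resS_shortExact (f : A) : (resS f).ShortExact := by
  have hex : (resS f).Exact := by
    rw [ShortComplex.moduleCat_exact_iff]
    intro x₂ hx₂
    have h : piLin f x₂ = 0 := hx₂
    rw [piLin_eq_zero_iff] at h
    obtain ⟨g, hg⟩ := h
    exact ⟨g, hg.symm⟩
  have hm : Mono (resS f).f := (ModuleCat.mono_iff_injective _).2 (muLin_injective f)
  have he : Epi (resS f).g := (ModuleCat.epi_iff_surjective _).2 (piLin_surjective f)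
  exact ShortComplex.ShortExact.mk' hex hm he

/-- The test object `A_f[0]`. -/
noncomputable abbrev Tf (f : A) : DerivedCategory (ModuleCat.{u} A) :=
  (DerivedCategory.singleFunctor (ModuleCat.{u} A) 0).obj (ModuleCat.of A (Localization.Away f))

lemma good_Tf (f : A) : Good (Tf f) := by
  haveI : Projective (resS f).X₁ := by
    show Projective (ModuleCat.of A A[X])
    infer_instance
  haveI : Projective (resS f).X₂ := by
    show Projective (ModuleCat.of A A[X])
    infer_instance
  exact good_of_resolution (resS_shortExact f)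

lemma isDerivedComplete_iff (I : Ideal A) (K : Dual.D A) :
    DRing.IsDerivedComplete I K ↔ ∀ f ∈ I, DC (Tf f) K := by
  constructor
  · intro h f hf n g
    haveI : Subsingleton (Dual.inD A (Localization.Away f) ⟶
        (shiftFunctor (Dual.D A) n).obj K) := h f hf n
    exact Subsingleton.elim _ _
  · intro h f hf n
    exact ⟨fun a b => by rw [h f hf n a, h f hf n b]⟩

end Groth.Agent.H23.DComp
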