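import Groth.Agent.H23.DComp3
import Groth.Agent.H23.DCompMod

/-!
# Derived completeness of modules: the sequence criterion (helper23)
-/

open CategoryTheory CategoryTheory.Limits Polynomial

universe u

attribute [local instance] HasDerivedCategory.standard

namespace Groth.Agent.H23.DComp

variable {A : Type u} [CommRing A]

section seq

variable (M : Type u) [AddCommGroup M] [Module A M]

/-- values on the monomials -/
noncomputable def seqOf (φ : ModuleCat.of A A[X] ⟶ ModuleCat.of A M) : ℕ → M :=
  fun i => φ.hom (X ^ i)

lemma seqOf_bijective : Function.Bijective (seqOf (A := A) M) := by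
  constructor
  · intro φ₁ φ₂ h
    apply ModuleCat.hom_ext
    apply Polynomial.lhom_ext'
    intro n
    apply LinearMap.ext_ring
    have h1 := congrFun h n
    simp only [seqOf] at h1
    rw [LinearMap.comp_apply, LinearMap.comp_apply, monomial_one_right_eq_X_pow]
    exact h1
  · intro m
    refine ⟨ModuleCat.ofHom ((Polynomial.basisMonomials A).constr A m), ?_⟩
    funext i
    show (Polynomial.basisMonomials A).constr A m (X ^ i) = m i
    have h1 : (X : A[X]) ^ i = (Polynomial.basisMonomials A) i := by
      rw [Polynomial.coe_basisMonomials]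
      exact (monomial_one_right_eq_X_pow i).symm
    rw [h1, Module.Basis.constr_basis]

variable {M}

lemma pf_mul_X_pow (f : A) (i : ℕ) : pf f * X ^ i = f • X ^ (i + 1) - X ^ i := by
  rw [smul_eq_C_mul]; ring

/-- The sequence criterion for derived completeness of a module with respect to `f`. -/
theorem seq_crit (f : A) :
    DCo (Tf f) (ModuleCat.of A M) ↔
      Function.Bijective (fun (m : ℕ → M) (i : ℕ) => f • m (i + 1) - m i) := by
  haveI : Projective (resS f).X₁ := by
    show Projective (ModuleCat.of A A[X])
    infer_instance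
  haveI : Projective (resS f).X₂ := by
    show Projective (ModuleCat.of A A[X])
    infer_instance
  have h0 : DCo (Tf f) (ModuleCat.of A M) ↔
      Function.Bijective (fun φ : (resS f).X₂ ⟶ ModuleCat.of A M => (resS f).f ≫ φ) :=
    dco_iff_bijective (resS_shortExact f) (ModuleCat.of A M)
  rw [h0]
  have hcomm : (fun (m : ℕ → M) (i : ℕ) => f • m (i + 1) - m i) ∘ seqOf (A := A) M =
      seqOf (A := A) M ∘ (fun φ : (resS f).X₂ ⟶ ModuleCat.of A M => (resS f).f ≫ φ) := by
    funext φ i
    show f • φ.hom (X ^ (i + 1)) - φ.hom (X ^ i) = φ.hom (muLin f (X ^ i))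
    rw [muLin_apply, pf_mul_X_pow, map_sub, map_smul]
  constructor
  · intro h
    have h1 : Function.Bijective (seqOf (A := A) M ∘
        (fun φ : (resS f).X₂ ⟶ ModuleCat.of A M => (resS f).f ≫ φ)) :=
      (seqOf_bijective (A := A) M).comp h
    have h2 : Function.Bijective ((fun (m : ℕ → M) (i : ℕ) => f • m (i + 1) - m i) ∘ seqOf (A := A) M) :=
      (congrArg Function.Bijective hcomm).mpr h1
    exact (Function.Bijective.of_comp_iff _ (seqOf_bijective (A := A) M)).1 h2
  · intro h
    have h1 : Function.Bijective ((fun (m : ℕ → M) (i : ℕ) => f • m (i + 1) - m i) ∘ seqOf (A := A) M) :=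
      h.comp (seqOf_bijective (A := A) M)
    have h2 : Function.Bijective (seqOf (A := A) M ∘
        (fun φ : (resS f).X₂ ⟶ ModuleCat.of A M => (resS f).f ≫ φ)) :=
      (congrArg Function.Bijective hcomm).mp h1
    exact (Function.Bijective.of_comp_iff' (seqOf_bijective (A := A) M) _).1 h2

end seq

lemma DCo_of_finite_free {T : DerivedCategory (ModuleCat.{u} A)}
    (hA : DCo T (ModuleCat.of A A)) (M : ModuleCat.{u} A) [Module.Finite A M]
    [Module.Free A M] : DCo T M := by
  let b := Module.Free.chooseBasis A M
  apply DCo.of_sum Finset.univ (fun _ => ModuleCat.of A A)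
    (fun i => ModuleCat.ofHom (b.coord i))
    (fun i => ModuleCat.ofHom (LinearMap.toSpanSingleton A M (b i))) ?_ (fun _ _ => hA)
  apply ModuleCat.hom_ext
  apply LinearMap.ext
  intro x
  rw [ModuleCat.hom_sum, LinearMap.sum_apply]
  show x = ∑ i, (LinearMap.toSpanSingleton A M (b i)) (b.coord i x)
  simp only [LinearMap.toSpanSingleton_apply, Module.Basis.coord_apply]
  exact (b.sum_repr x).symm

end Groth.Agent.H23.DComp
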