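import Groth.Agent.H23.DCompMod2
import Groth.Agent.H23.DCompIdeal
import Groth.Prelude.Def_DDual2

/-!
# Derived completeness: the ideal of `f`, restriction of scalars (helper23)
-/

open CategoryTheory CategoryTheory.Limits

universe u

attribute [local instance] HasDerivedCategory.standard

namespace Groth.Agent.H23.DComp

variable {A : Type u} [CommRing A]

lemma dc_iff_subsingleton (f : A) (K : Dual.D A) :
    DC (Tf f) K ↔ ∀ n : ℤ, Subsingleton (Dual.inD A (Localization.Away f) ⟶ K⟦n⟧) := by
  constructor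
  · intro h n
    exact ⟨fun a b => by rw [h n a, h n b]⟩
  · intro h n g
    haveI : Subsingleton (Dual.inD A (Localization.Away f) ⟶
        (shiftFunctor (Dual.D A) n).obj K) := h n
    exact Subsingleton.elim _ _

lemma dc_iff_P (f : A) (K : Dual.D A) :
    DC (Tf f) K ↔ ∀ i : ℤ, P (A := A) (Dual.HD A K i) f := by
  rw [dc_iff (good_Tf f) K]
  exact forall_congr' (fun i => seq_crit (M := Dual.HD A K i) f)

variable {B : Type u} [CommRing B]

lemma homology_restrict (φ : A →+* B) (L : Dual.D B) (i : ℤ) :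
    Nonempty ((DerivedCategory.homologyFunctor (ModuleCat.{u} A) i).obj
        ((DRing.restrictD φ).obj L) ≅
      (ModuleCat.restrictScalars.{u} φ).obj
        ((DerivedCategory.homologyFunctor (ModuleCat.{u} B) i).obj L)) := by
  let F := ModuleCat.restrictScalars.{u} φ
  let K := DerivedCategory.Q.objPreimage L
  let e : DerivedCategory.Q.obj K ≅ L := DerivedCategory.Q.objObjPreimageIso L
  let e1 : (DerivedCategory.homologyFunctor (ModuleCat.{u} A) i).obj
        ((DRing.restrictD φ).obj L) ≅
      (DerivedCategory.homologyFunctor (ModuleCat.{u} A) i).obj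
        ((DRing.restrictD φ).obj (DerivedCategory.Q.obj K)) :=
    (DerivedCategory.homologyFunctor (ModuleCat.{u} A) i).mapIso
      ((DRing.restrictD φ).mapIso e.symm)
  let e2 : (DerivedCategory.homologyFunctor (ModuleCat.{u} A) i).obj
        ((DRing.restrictD φ).obj (DerivedCategory.Q.obj K)) ≅
      (DerivedCategory.homologyFunctor (ModuleCat.{u} A) i).obj
        (DerivedCategory.Q.obj ((F.mapHomologicalComplex (ComplexShape.up ℤ)).obj K)) :=
    (DerivedCategory.homologyFunctor (ModuleCat.{u} A) i).mapIso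
      (F.mapDerivedCategoryFactors.app K)
  let e3 : (DerivedCategory.homologyFunctor (ModuleCat.{u} A) i).obj
        (DerivedCategory.Q.obj ((F.mapHomologicalComplex (ComplexShape.up ℤ)).obj K)) ≅
      ((F.mapHomologicalComplex (ComplexShape.up ℤ)).obj K).homology i :=
    (DerivedCategory.homologyFunctorFactors (ModuleCat.{u} A) i).app _
  let e4 : ((F.mapHomologicalComplex (ComplexShape.up ℤ)).obj K).homology i ≅
      F.obj (K.homology i) := (K.sc i).mapHomologyIso F
  let e5 : F.obj (K.homology i) ≅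
      F.obj ((DerivedCategory.homologyFunctor (ModuleCat.{u} B) i).obj L) :=
    F.mapIso (((DerivedCategory.homologyFunctorFactors (ModuleCat.{u} B) i).app K).symm ≪≫
      (DerivedCategory.homologyFunctor (ModuleCat.{u} B) i).mapIso e)
  exact ⟨e1 ≪≫ e2 ≪≫ e3 ≪≫ e4 ≪≫ e5⟩

lemma P_restrict (φ : A →+* B) (N : ModuleCat.{u} B) (f : A) :
    P (A := A) ((ModuleCat.restrictScalars.{u} φ).obj N) f ↔ P (A := B) N (φ f) :=
  Iff.rfl

lemma dc_restrict_iff (φ : A →+* B) (L : Dual.D B) (f : A) :
    DC (Tf f) ((DRing.restrictD φ).obj L) ↔ ∀ i : ℤ, P (A := B) (Dual.HD B L i) (φ f) := by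
  rw [dc_iff (good_Tf f) _]
  refine forall_congr' (fun i => ?_)
  obtain ⟨e⟩ := homology_restrict φ L i
  have h1 : DCo (Tf f) ((DerivedCategory.homologyFunctor (ModuleCat.{u} A) i).obj
        ((DRing.restrictD φ).obj L)) ↔
      DCo (Tf f) ((ModuleCat.restrictScalars.{u} φ).obj
        ((DerivedCategory.homologyFunctor (ModuleCat.{u} B) i).obj L)) :=
    ⟨fun h => h.of_iso e, fun h => h.of_iso e.symm⟩
  rw [h1]
  exact (seq_crit (M := ((ModuleCat.restrictScalars.{u} φ).obj
    ((DerivedCategory.homologyFunctor (ModuleCat.{u} B) i).obj L))) f).trans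
    (P_restrict φ _ f)

end Groth.Agent.H23.DComp
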