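import Groth.Agent.H23.DCompIdeal

/-!
# Convergence of Cauchy sequences in derived complete modules (helper23)
-/

universe u

namespace Groth.Agent.H23.DComp

variable {A : Type u} [CommRing A]

section

variable {M : Type*} [AddCommGroup M] [Module A M]

/-- Cauchy sequences for the `I`-adic topology converge (not necessarily uniquely). -/
def Q (I : Ideal A) (M : Type*) [AddCommGroup M] [Module A M] : Prop :=
  ∀ x : ℕ → M, (∀ n, x (n + 1) - x n ∈ (I ^ n • ⊤ : Submodule A M)) →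
    ∃ z : M, ∀ n, z - x n ∈ (I ^ n • ⊤ : Submodule A M)

lemma cauchy_le {I : Ideal A} {x : ℕ → M}
    (hx : ∀ n, x (n + 1) - x n ∈ (I ^ n • ⊤ : Submodule A M)) :
    ∀ n m, n ≤ m → x m - x n ∈ (I ^ n • ⊤ : Submodule A M) := by
  intro n m hnm
  induction m, hnm using Nat.le_induction with
  | base => rw [sub_self]; exact Submodule.zero_mem _
  | succ m hnm ih =>
    have e : x (m + 1) - x n = (x (m + 1) - x m) + (x m - x n) := by abel
    rw [e]
    exact Submodule.add_mem _
      (Submodule.smul_mono_left (Ideal.pow_le_pow_right hnm) (hx m)) ih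

lemma Q_bot : Q (⊥ : Ideal A) M := by
  intro x hx
  refine ⟨x 1, fun n => ?_⟩
  rcases Nat.eq_zero_or_pos n with rfl | hn
  · rw [pow_zero, Ideal.one_eq_top, Submodule.top_smul]; exact Submodule.mem_top
  · have h1 := cauchy_le hx 1 n hn
    rw [pow_one, Submodule.bot_smul, Submodule.mem_bot] at h1
    have h2 : x 1 - x n = 0 := by
      rw [← neg_sub, h1, neg_zero]
    rw [h2]; exact Submodule.zero_mem _

lemma Q_sup {I₁ I₂ : Ideal A} (h₁ : Q I₁ M) (h₂ : Q I₂ M) : Q (I₁ ⊔ I₂) M := by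
  intro x hx
  have hc := cauchy_le hx
  have hdec : ∀ n, ∃ u ∈ (I₁ ^ n • ⊤ : Submodule A M), ∃ v ∈ (I₂ ^ n • ⊤ : Submodule A M),
      u + v = x (2 * (n + 1)) - x (2 * n) := by
    intro n
    have h1 : x (2 * (n + 1)) - x (2 * n) ∈ ((I₁ ⊔ I₂) ^ (2 * n) • ⊤ : Submodule A M) :=
      hc (2 * n) (2 * (n + 1)) (by omega)
    have h2 : ((I₁ ⊔ I₂) ^ (2 * n) • ⊤ : Submodule A M) ≤ I₁ ^ n • ⊤ ⊔ I₂ ^ n • ⊤ := by
      rw [← Submodule.sup_smul, two_mul]
      exact Submodule.smul_mono_left Ideal.sup_pow_add_le_pow_sup_pow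
    exact Submodule.mem_sup.1 (h2 h1)
  choose u hu v hv huv using hdec
  let U : ℕ → M := fun n => ∑ k ∈ Finset.range n, u k
  let V : ℕ → M := fun n => ∑ k ∈ Finset.range n, v k
  have hU : ∀ n, U (n + 1) - U n ∈ (I₁ ^ n • ⊤ : Submodule A M) := by
    intro n
    have e : U (n + 1) - U n = u n := by
      simp only [U]; rw [Finset.sum_range_succ, add_sub_cancel_left]
    rw [e]; exact hu n
  have hV : ∀ n, V (n + 1) - V n ∈ (I₂ ^ n • ⊤ : Submodule A M) := by
    intro n
    have e : V (n + 1) - V n = v n := by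
      simp only [V]; rw [Finset.sum_range_succ, add_sub_cancel_left]
    rw [e]; exact hv n
  obtain ⟨zu, hzu⟩ := h₁ U hU
  obtain ⟨zv, hzv⟩ := h₂ V hV
  have hx2 : ∀ n, x (2 * n) = x 0 + U n + V n := by
    intro n
    induction n with
    | zero => simp [U, V]
    | succ n ih =>
      have e1 : x (2 * (n + 1)) = x (2 * n) + (u n + v n) := by rw [huv n]; abel
      have eU : U (n + 1) = U n + u n := by simp only [U]; rw [Finset.sum_range_succ]
      have eV : V (n + 1) = V n + v n := by simp only [V]; rw [Finset.sum_range_succ]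
      rw [e1, ih, eU, eV]; abel
  refine ⟨x 0 + zu + zv, fun n => ?_⟩
  have e : x 0 + zu + zv - x n = (zu - U n) + (zv - V n) + (x (2 * n) - x n) := by
    rw [hx2 n]; abel
  rw [e]
  refine Submodule.add_mem _ (Submodule.add_mem _ ?_ ?_) (hc n (2 * n) (by omega))
  · exact Submodule.smul_mono_left (Ideal.pow_right_mono le_sup_left n) (hzu n)
  · exact Submodule.smul_mono_left (Ideal.pow_right_mono le_sup_right n) (hzv n)

lemma Q_span_singleton {f : A} (hP : P (A := A) M f) : Q (Ideal.span {f}) M := by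
  intro x hx
  have hy : ∀ n, ∃ y : M, f ^ n • y = x (n + 1) - x n := by
    intro n
    have h1 := hx n
    rw [Ideal.span_singleton_pow, Submodule.ideal_span_singleton_smul] at h1
    obtain ⟨y, -, hy⟩ := (Submodule.mem_smul_pointwise_iff_exists _ _ _).1 h1
    exact ⟨y, hy⟩
  choose y hy using hy
  obtain ⟨w, hw⟩ := hP.2 (fun i => -y i)
  have hw' : ∀ i, w i = y i + f • w (i + 1) := by
    intro i
    have h1 : f • w (i + 1) - w i = -y i := congrFun hw i
    have h2 : w i = f • w (i + 1) - (f • w (i + 1) - w i) := by abel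
    rw [h2, h1]; abel
  have key : ∀ n, x 0 + w 0 - x n = f ^ n • w n := by
    intro n
    induction n with
    | zero => rw [pow_zero, one_smul]; abel
    | succ n ih =>
      have e : x 0 + w 0 - x (n + 1) = (x 0 + w 0 - x n) - (x (n + 1) - x n) := by abel
      rw [e, ih, ← hy n, ← smul_sub]
      have e2 : w n - y n = f • w (n + 1) := by rw [hw' n]; abel
      rw [e2, smul_smul, ← pow_succ]
  refine ⟨x 0 + w 0, fun n => ?_⟩
  rw [key n]
  exact Submodule.smul_mem_smul (Ideal.pow_mem_pow (Ideal.mem_span_singleton_self f) n)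
    Submodule.mem_top

lemma Q_span_finset [DecidableEq A] (s : Finset A) (h : ∀ f ∈ s, P (A := A) M f) :
    Q (Ideal.span (s : Set A)) M := by
  induction s using Finset.induction_on with
  | empty => rw [Finset.coe_empty, Ideal.span_empty]; exact Q_bot
  | insert a s ha ih =>
    rw [Finset.coe_insert, Ideal.span_insert]
    exact Q_sup (Q_span_singleton (h a (Finset.mem_insert_self a s)))
      (ih (fun f hf => h f (Finset.mem_insert_of_mem hf)))

lemma of_surjective_of_Q {I : Ideal A} (hQ : Q I M) :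
    Function.Surjective (AdicCompletion.of I M) := by
  intro y
  have hx : ∀ n, ∃ x : M, Submodule.mkQ (I ^ n • ⊤ : Submodule A M) x = y.val n :=
    fun n => Submodule.mkQ_surjective _ _
  choose x hx using hx
  have hc : ∀ n, x (n + 1) - x n ∈ (I ^ n • ⊤ : Submodule A M) := by
    intro n
    rw [← Submodule.Quotient.eq]
    have h1 := y.property (Nat.le_succ n)
    rw [← hx (n + 1), ← hx n] at h1
    exact h1
  obtain ⟨z, hz⟩ := hQ x hc
  refine ⟨z, AdicCompletion.ext (fun n => ?_)⟩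
  rw [AdicCompletion.of_apply, ← hx n]
  exact (Submodule.Quotient.eq _).2 (hz n)

lemma isPrecomplete_of_Q {I : Ideal A} (hQ : Q I M) : IsPrecomplete I M := by
  refine ⟨fun x hx => ?_⟩
  have hc : ∀ n, x (n + 1) - x n ∈ (I ^ n • ⊤ : Submodule A M) := fun n =>
    SModEq.sub_mem.1 (hx (Nat.le_succ n)).symm
  obtain ⟨z, hz⟩ := hQ x hc
  exact ⟨z, fun n => (SModEq.sub_mem.2 (hz n)).symm⟩

end

/-- The key step for nilpotence of `⋂ Iⁿ`. -/
lemma mul_mem_of_inj {a : A} (I' : Submodule A A)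
    (hinj : Function.Injective (Phi (A := A) (A ⧸ I') a)) (b c : A)
    (hb : ∀ m : ℕ, b ∈ Ideal.span {a} ^ m ⊔ (I' : Ideal A))
    (hc : ∀ m : ℕ, c ∈ Ideal.span {a} ^ m ⊔ (I' : Ideal A)) : b * c ∈ I' := by
  have hb' : ∀ m : ℕ, ∃ b' β : A, β ∈ I' ∧ b' * a ^ m + β = b := by
    intro m
    obtain ⟨y, hy, β, hβ, e⟩ := Submodule.mem_sup.1 (hb m)
    rw [Ideal.span_singleton_pow] at hy
    obtain ⟨b', rfl⟩ := Ideal.mem_span_singleton'.1 hy
    exact ⟨b', β, hβ, e⟩
  have hc' : ∀ m : ℕ, ∃ c' γ : A, γ ∈ I' ∧ c' * a ^ m + γ = c := by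
    intro m
    obtain ⟨y, hy, γ, hγ, e⟩ := Submodule.mem_sup.1 (hc m)
    rw [Ideal.span_singleton_pow] at hy
    obtain ⟨c', rfl⟩ := Ideal.mem_span_singleton'.1 hy
    exact ⟨c', γ, hγ, e⟩
  choose bs β hβ hbs using hb'
  choose cs γ hγ hcs using hc'
  have hseq : Phi (A := A) (A ⧸ I') a (fun i => I'.mkQ (bs i * c)) =
      Phi (A := A) (A ⧸ I') a (fun _ => 0) := by
    funext i
    show a • I'.mkQ (bs (i + 1) * c) - I'.mkQ (bs i * c) = a • (0 : A ⧸ I') - 0
    rw [smul_zero, sub_zero, ← map_smul, ← map_sub, Submodule.mkQ_apply,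
      Submodule.Quotient.mk_eq_zero, smul_eq_mul]
    have e : a * (bs (i + 1) * c) - bs i * c =
        cs i • (β i - β (i + 1)) + (a * bs (i + 1) - bs i) • γ i := by
      simp only [smul_eq_mul]
      have hb0 := hbs i
      have hb1 := hbs (i + 1)
      have hc0 := hcs i
      linear_combination (-(cs i)) * hb0 + (cs i) * hb1 + (-(a * bs (i + 1) - bs i)) * hc0
    rw [e]
    exact I'.add_mem (I'.smul_mem _ (I'.sub_mem (hβ i) (hβ (i + 1)))) (I'.smul_mem _ (hγ i))
  have h0 := congrFun (@hinj (fun i => I'.mkQ (bs i * c)) (fun _ => 0) hseq) 0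
  have h1 : bs 0 * c ∈ I' := by
    have h2 : I'.mkQ (bs 0 * c) = 0 := h0
    rwa [Submodule.mkQ_apply, Submodule.Quotient.mk_eq_zero] at h2
  have hb0 := hbs 0
  rw [pow_zero, mul_one] at hb0
  have e : b * c = bs 0 * c + c • β 0 := by
    rw [smul_eq_mul, ← hb0]; ring
  rw [e]
  exact I'.add_mem h1 (I'.smul_mem _ (hβ 0))

end Groth.Agent.H23.DComp
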