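import Groth.Agent.H23.DCompMod3
import Groth.Agent.H23.DCompSurj

/-!
# Derived completeness: quotients by finitely generated ideals, nilpotence of `⋂ Iⁿ` (helper23)
-/

open CategoryTheory CategoryTheory.Limits

universe u

attribute [local instance] HasDerivedCategory.standard

namespace Groth.Agent.H23.DComp

variable {A : Type u} [CommRing A]

lemma P_of_isDerivedComplete (I : Ideal A) (M : Type u) [AddCommGroup M] [Module A M]
    (hc : DRing.IsDerivedComplete I (Dual.inD A M)) (f : A) (hf : f ∈ I) : P (A := A) M f :=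
  (seq_crit (M := M) f).1 ((isDerivedComplete_iff I _).1 hc f hf)

lemma P_quot_fg (f : A) (hA : P (A := A) A f) (I' : Ideal A) (hI' : I'.FG) :
    P (A := A) (A ⧸ (I' : Submodule A A)) f := by
  classical
  obtain ⟨t, ht⟩ := hI'
  let u : (t → A) →ₗ[A] A := Fintype.linearCombination A (fun i : t => (i : A))
  have hr : LinearMap.range u = (I' : Submodule A A) := by
    rw [Fintype.range_linearCombination, Subtype.range_coe_subtype]
    exact ht
  have h0 : DCo (Tf f) (ModuleCat.of A A) := (seq_crit (M := A) f).2 hA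
  have h1 : DCo (Tf f) (ModuleCat.of A (t → A)) := by
    haveI : Module.Finite A (ModuleCat.of A (t → A)) :=
      inferInstanceAs (Module.Finite A (t → A))
    haveI : Module.Free A (ModuleCat.of A (t → A)) :=
      inferInstanceAs (Module.Free A (t → A))
    exact DCo_of_finite_free h0 (ModuleCat.of A (t → A))
  have h2 : DCo (Tf f) (ModuleCat.of A (A ⧸ LinearMap.range u)) :=
    DCo.of_iso (DCo.ker_coker (good_Tf f) (ModuleCat.ofHom u) h1 h0).2
      (ModuleCat.cokernelIsoRangeQuotient (ModuleCat.ofHom u))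
  have h3 : DCo (Tf f) (ModuleCat.of A (A ⧸ (I' : Submodule A A))) :=
    DCo.of_iso h2 (Submodule.quotEquivOfEq _ _ hr).toModuleIso
  exact (seq_crit (M := A ⧸ (I' : Submodule A A)) f).1 h3

/-- `(⋂ (a, s)ⁿ)² ⊆ ⋂ (s)ⁿ` when `A` is `a`-derived complete. -/
lemma iInf_sq_le (a : A) (hA : P (A := A) A a) (I₀ : Ideal A) (hI₀ : I₀.FG) :
    (⨅ n : ℕ, (Ideal.span {a} ⊔ I₀) ^ n) ^ 2 ≤ ⨅ n : ℕ, I₀ ^ n := by
  rw [pow_two, Ideal.mul_le]
  intro b hb c hc
  rw [Ideal.mem_iInf] at hb hc ⊢
  intro n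
  have hP := P_quot_fg a hA (I₀ ^ n) (hI₀.pow (n := n))
  refine mul_mem_of_inj (a := a) (I₀ ^ n : Ideal A) hP.1 b c (fun m => ?_) (fun m => ?_)
  · exact Ideal.sup_pow_add_le_pow_sup_pow (hb (m + n))
  · exact Ideal.sup_pow_add_le_pow_sup_pow (hc (m + n))

lemma iInf_pow_eq_bot [DecidableEq A] (s : Finset A) (h : ∀ f ∈ s, P (A := A) A f) :
    (⨅ n : ℕ, Ideal.span (s : Set A) ^ n) ^ (2 ^ s.card) = ⊥ := by
  induction s using Finset.induction_on with
  | empty =>
    rw [Finset.coe_empty, Ideal.span_empty, Finset.card_empty, pow_zero, pow_one, eq_bot_iff]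
    refine (iInf_le _ 1).trans ?_
    rw [pow_one]
  | insert a s ha ih =>
    rw [Finset.coe_insert, Ideal.span_insert, Finset.card_insert_of_notMem ha, pow_succ', pow_mul,
      eq_bot_iff]
    have h1 := iInf_sq_le a (h a (Finset.mem_insert_self a s)) (Ideal.span (s : Set A))
      ⟨s, rfl⟩
    refine (Ideal.pow_right_mono h1 _).trans ?_
    rw [ih (fun f hf => h f (Finset.mem_insert_of_mem hf))]

end Groth.Agent.H23.DComp
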