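import Groth.Agent.H23.DerPlus

/-!
# Adjunctions on homotopy categories and the derived adjunction on `D⁺`
-/

namespace Groth.Agent.H23.DerAdj

open CategoryTheory CategoryTheory.Limits

universe w v u

section

variable {A B : Type*} [Category A] [Category B] [Preadditive A] [Preadditive B]
  {L : A ⥤ B} {R : B ⥤ A} (adj : L ⊣ R) [L.Additive] [R.Additive]
  {ι : Type*} (c : ComplexShape ι)

/-- The unit of the adjunction, on complexes. -/
def unitC (K : HomologicalComplex A c) :
    K ⟶ (R.mapHomologicalComplex c).obj ((L.mapHomologicalComplex c).obj K) where
  f n := adj.unit.app (K.X n)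
  comm' i j _ := (adj.unit.naturality (K.d i j)).symm

/-- The counit of the adjunction, on complexes. -/
def counitC (K : HomologicalComplex B c) :
    (L.mapHomologicalComplex c).obj ((R.mapHomologicalComplex c).obj K) ⟶ K where
  f n := adj.counit.app (K.X n)
  comm' i j _ := (adj.counit.naturality (K.d i j)).symm

lemma unitC_naturality {K K' : HomologicalComplex A c} (f : K ⟶ K') :
    f ≫ unitC adj c K' = unitC adj c K ≫
      (R.mapHomologicalComplex c).map ((L.mapHomologicalComplex c).map f) := by
  ext n
  exact adj.unit.naturality (f.f n)

lemma counitC_naturality {K K' : HomologicalComplex B c} (f : K ⟶ K') :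
    (L.mapHomologicalComplex c).map ((R.mapHomologicalComplex c).map f) ≫ counitC adj c K' =
      counitC adj c K ≫ f := by
  ext n
  exact adj.counit.naturality (f.f n)

lemma left_triangleC (K : HomologicalComplex A c) :
    (L.mapHomologicalComplex c).map (unitC adj c K) ≫
      counitC adj c ((L.mapHomologicalComplex c).obj K) = 𝟙 _ := by
  ext n
  exact adj.left_triangle_components (K.X n)

lemma right_triangleC (K : HomologicalComplex B c) :
    unitC adj c ((R.mapHomologicalComplex c).obj K) ≫
      (R.mapHomologicalComplex c).map (counitC adj c K) = 𝟙 _ := by
  ext n
  exact adj.right_triangle_components (K.X n)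

/-- An adjunction between additive functors induces an adjunction on homotopy categories. -/
noncomputable def adjH : L.mapHomotopyCategory c ⊣ R.mapHomotopyCategory c where
  unit :=
    { app := fun X => (HomotopyCategory.quotient A c).map (unitC adj c X.as)
      naturality := by
        rintro ⟨K⟩ ⟨K'⟩ ⟨f : K ⟶ K'⟩
        change (HomotopyCategory.quotient A c).map f ≫
            (HomotopyCategory.quotient A c).map (unitC adj c K') =
          (HomotopyCategory.quotient A c).map (unitC adj c K) ≫
            (HomotopyCategory.quotient A c).map
              ((R.mapHomologicalComplex c).map ((L.mapHomologicalComplex c).map f))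
        rw [← Functor.map_comp, ← Functor.map_comp, unitC_naturality] }
  counit :=
    { app := fun X => (HomotopyCategory.quotient B c).map (counitC adj c X.as)
      naturality := by
        rintro ⟨K⟩ ⟨K'⟩ ⟨f : K ⟶ K'⟩
        change (HomotopyCategory.quotient B c).map
              ((L.mapHomologicalComplex c).map ((R.mapHomologicalComplex c).map f)) ≫
            (HomotopyCategory.quotient B c).map (counitC adj c K') =
          (HomotopyCategory.quotient B c).map (counitC adj c K) ≫
            (HomotopyCategory.quotient B c).map f
        rw [← Functor.map_comp, ← Functor.map_comp, counitC_naturality] }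
  left_triangle_components := by
    rintro ⟨K⟩
    change (HomotopyCategory.quotient B c).map
          ((L.mapHomologicalComplex c).map (unitC adj c K)) ≫
        (HomotopyCategory.quotient B c).map
          (counitC adj c ((L.mapHomologicalComplex c).obj K)) = 𝟙 _
    rw [← Functor.map_comp, left_triangleC]
    exact CategoryTheory.Functor.map_id _ _
  right_triangle_components := by
    rintro ⟨K⟩
    change (HomotopyCategory.quotient A c).map
          (unitC adj c ((R.mapHomologicalComplex c).obj K)) ≫
        (HomotopyCategory.quotient A c).map
          ((R.mapHomologicalComplex c).map (counitC adj c K)) = 𝟙 _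
    rw [← Functor.map_comp, right_triangleC]
    exact CategoryTheory.Functor.map_id _ _

end

section

variable {A B : Type*} [Category A] [Category B] [Abelian A] [Abelian B]
  {L : A ⥤ B} {R : B ⥤ A} (adj : L ⊣ R) [L.Additive] [R.Additive]

/-- The adjunction on bounded below homotopy categories. -/
noncomputable def adjK : L.mapHomotopyCategoryPlus ⊣ R.mapHomotopyCategoryPlus :=
  (adjH adj (ComplexShape.up ℤ)).restrictFullyFaithful
    (HomotopyCategory.Plus.fullyFaithfulι A) (HomotopyCategory.Plus.fullyFaithfulι B)
    (Iso.refl _) (Iso.refl _)

end

end Groth.Agent.H23.DerAdj
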