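import Mathlib

/-!
# Coproducts in the derived category of an abelian category with exact coproducts
-/

set_option autoImplicit false
universe w w' v u
open CategoryTheory CategoryTheory.Limits

namespace Groth.Agent.H23.DerCoprod

section complexes
variable {A : Type u} [Category.{v} A] [Abelian A] {J : Type w}

/-- a family of complexes as a complex of functors -/
noncomputable def fam (K : J → CochainComplex A ℤ) : CochainComplex (Discrete J ⥤ A) ℤ where
  X n := Discrete.functor (fun j => (K j).X n)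
  d n m := Discrete.natTrans (fun j => (K j.as).d n m)
  shape n m h := by
    ext ⟨j⟩
    simp [(K j).shape n m h]
  d_comp_d' n m k _ _ := by
    ext ⟨j⟩
    simp

/-- a family of morphisms of complexes as a morphism of complexes of functors -/
noncomputable def famMap {K' K : J → CochainComplex A ℤ} (s : ∀ j, K' j ⟶ K j) :
    fam K' ⟶ fam K where
  f n := Discrete.natTrans (fun j => (s j.as).f n)
  comm' n m _ := by
    ext ⟨j⟩
    simp [fam]

lemma quasiIso_famMap {K' K : J → CochainComplex A ℤ} (s : ∀ j, K' j ⟶ K j)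
    [∀ j, QuasiIso (s j)] : QuasiIso (famMap s) := by
  rw [HomologicalComplex.quasiIso_iff_evaluation]
  rintro ⟨j⟩
  exact (inferInstance : QuasiIso (s j))

variable [HasColimitsOfShape (Discrete J) A]

/-- the termwise coproduct -/
noncomputable def S (K : J → CochainComplex A ℤ) : CochainComplex A ℤ :=
  ((colim : (Discrete J ⥤ A) ⥤ A).mapHomologicalComplex (ComplexShape.up ℤ)).obj (fam K)

lemma S_d (K : J → CochainComplex A ℤ) (n m : ℤ) :
    (S K).d n m = Limits.Sigma.map (fun j => (K j).d n m) := rfl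

/-- inclusions -/
noncomputable def ιS (K : J → CochainComplex A ℤ) (j : J) : K j ⟶ S K where
  f n := Sigma.ι (fun j => (K j).X n) j
  comm' n m _ := by
    show Sigma.ι (fun j => (K j).X n) j ≫ Limits.Sigma.map (fun j => (K j).d n m) =
      (K j).d n m ≫ Sigma.ι (fun j => (K j).X m) j
    simp

/-- descent -/
noncomputable def descS {K : J → CochainComplex A ℤ} {M : CochainComplex A ℤ}
    (g : ∀ j, K j ⟶ M) : S K ⟶ M where
  f n := Sigma.desc (fun j => (g j).f n)
  comm' n m _ := by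
    show Sigma.desc (fun j => (g j).f n) ≫ M.d n m =
      Limits.Sigma.map (fun j => (K j).d n m) ≫ Sigma.desc (fun j => (g j).f m)
    apply Sigma.hom_ext
    intro j
    simp

@[reassoc (attr := simp)]
lemma ιS_descS {K : J → CochainComplex A ℤ} {M : CochainComplex A ℤ}
    (g : ∀ j, K j ⟶ M) (j : J) : ιS K j ≫ descS g = g j := by
  ext n
  show Sigma.ι (fun j => (K j).X n) j ≫ Sigma.desc (fun j => (g j).f n) = (g j).f n
  simp

/-- functoriality -/
noncomputable def mapS {K' K : J → CochainComplex A ℤ} (s : ∀ j, K' j ⟶ K j) : S K' ⟶ S K :=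
  ((colim : (Discrete J ⥤ A) ⥤ A).mapHomologicalComplex (ComplexShape.up ℤ)).map (famMap s)

@[reassoc]
lemma ιS_mapS {K' K : J → CochainComplex A ℤ} (s : ∀ j, K' j ⟶ K j) (j : J) :
    ιS K' j ≫ mapS s = s j ≫ ιS K j := by
  ext n
  show Sigma.ι (fun j => (K' j).X n) j ≫ Limits.Sigma.map (fun j => (s j).f n) =
    (s j).f n ≫ Sigma.ι (fun j => (K j).X n) j
  simp

lemma quasiIso_mapS [HasExactColimitsOfShape (Discrete J) A]
    {K' K : J → CochainComplex A ℤ} (s : ∀ j, K' j ⟶ K j)
    [∀ j, QuasiIso (s j)] : QuasiIso (mapS s) := by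
  have := quasiIso_famMap s
  have : PreservesFiniteLimits (colim : (Discrete J ⥤ A) ⥤ A) :=
    HasExactColimitsOfShape.preservesFiniteLimits
  have : PreservesFiniteColimits (colim : (Discrete J ⥤ A) ⥤ A) := inferInstance
  exact inferInstanceAs (QuasiIso (((colim : (Discrete J ⥤ A) ⥤ A).mapHomologicalComplex
    (ComplexShape.up ℤ)).map (famMap s)))

/-- homotopy descent -/
noncomputable def homotopyDesc {K : J → CochainComplex A ℤ} {M : CochainComplex A ℤ}
    (G : S K ⟶ M) (h : ∀ j, Homotopy (ιS K j ≫ G) 0) : Homotopy G 0 where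
  hom p q := Sigma.desc (fun j => (h j).hom p q)
  zero p q hpq := by
    show (Sigma.desc (fun j => (h j).hom p q) : (∐ fun j => (K j).X p) ⟶ M.X q) = 0
    apply Sigma.hom_ext
    intro j
    simp [(h j).zero p q hpq]
  comm n := by
    rw [dNext_eq _ (show (ComplexShape.up ℤ).Rel n (n + 1) from rfl),
      prevD_eq _ (show (ComplexShape.up ℤ).Rel (n - 1) n from by simp),
      HomologicalComplex.zero_f, add_zero]
    show @Eq ((∐ fun j => (K j).X n) ⟶ M.X n) (G.f n)
      (Limits.Sigma.map (fun j => (K j).d n (n + 1)) ≫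
          Sigma.desc (fun j => (h j).hom (n + 1) n) +
        Sigma.desc (fun j => (h j).hom n (n - 1)) ≫ M.d (n - 1) n)
    apply Sigma.hom_ext
    intro j
    have hj : Sigma.ι (fun j => (K j).X n) j ≫ G.f n =
        (K j).d n (n + 1) ≫ (h j).hom (n + 1) n + (h j).hom n (n - 1) ≫ M.d (n - 1) n := by
      have := (h j).comm n
      rw [dNext_eq _ (show (ComplexShape.up ℤ).Rel n (n + 1) from rfl),
        prevD_eq _ (show (ComplexShape.up ℤ).Rel (n - 1) n from by simp),
        HomologicalComplex.zero_f, add_zero] at this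
      exact this
    refine hj.trans ?_
    simp

end complexes

section derived
variable {A : Type u} [Category.{v} A] [Abelian A] [HasDerivedCategory.{w'} A]
open DerivedCategory

lemma exists_quasiIso_homotopy {K M : CochainComplex A ℤ} (h : K ⟶ M) (hh : Q.map h = 0) :
    ∃ (K' : CochainComplex A ℤ) (u : K' ⟶ K) (_ : QuasiIso u), Nonempty (Homotopy (u ≫ h) 0) := by
  have h1 : Qh.map ((HomotopyCategory.quotient A (ComplexShape.up ℤ)).map h) = Qh.map 0 := by
    rw [CategoryTheory.Functor.map_zero]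
    have := (quotientCompQhIso A).hom.naturality h
    rw [hh, comp_zero] at this
    exact (cancel_mono ((quotientCompQhIso A).hom.app M)).1 (by rw [zero_comp]; exact this)
  obtain ⟨Z, s, hs, fac⟩ := (MorphismProperty.map_eq_iff_precomp Qh
    (HomotopyCategory.quasiIso A (ComplexShape.up ℤ)) _ _).1 h1
  obtain ⟨K', rfl⟩ := HomotopyCategory.quotient_obj_surjective Z
  obtain ⟨u, rfl⟩ := (HomotopyCategory.quotient _ _).map_surjective s
  rw [HomotopyCategory.quotient_map_mem_quasiIso_iff] at hs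
  refine ⟨K', u, (HomologicalComplex.mem_quasiIso_iff u).1 hs,
    ⟨HomotopyCategory.homotopyOfEq _ _ ?_⟩⟩
  rw [CategoryTheory.Functor.map_comp, fac, comp_zero, CategoryTheory.Functor.map_zero]

variable {J : Type w} [HasColimitsOfShape (Discrete J) A]
  [HasExactColimitsOfShape (Discrete J) A]

lemma exists_desc (K : J → CochainComplex A ℤ) (M : CochainComplex A ℤ)
    (φ : ∀ j, Q.obj (K j) ⟶ Q.obj M) :
    ∃ Φ : Q.obj (S K) ⟶ Q.obj M, ∀ j, Q.map (ιS K j) ≫ Φ = φ j := by
  choose K' s hs g hg using fun j => right_fac (φ j)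
  have : ∀ j, QuasiIso (s j) := fun j => (isIso_Q_map_iff_quasiIso A _).1 (hs j)
  have := quasiIso_mapS s
  have : IsIso (Q.map (mapS s)) := (isIso_Q_map_iff_quasiIso A _).2 inferInstance
  refine ⟨inv (Q.map (mapS s)) ≫ Q.map (descS g), fun j => ?_⟩
  have := hs j
  have h1 : Q.map (ιS K j) ≫ inv (Q.map (mapS s)) = inv (Q.map (s j)) ≫ Q.map (ιS K' j) := by
    rw [IsIso.comp_inv_eq, Category.assoc, ← Q.map_comp (ιS K' j), ιS_mapS, Q.map_comp,
      IsIso.inv_hom_id_assoc]
  rw [← Category.assoc, h1, Category.assoc, ← Q.map_comp, ιS_descS]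
  exact (hg j).symm

lemma eq_zero_of_comp_eq_zero (K : J → CochainComplex A ℤ) (M : CochainComplex A ℤ)
    (Φ : Q.obj (S K) ⟶ Q.obj M) (h : ∀ j, Q.map (ιS K j) ≫ Φ = 0) : Φ = 0 := by
  obtain ⟨M', g, t, ht, rfl⟩ := left_fac Φ
  have h0 : ∀ j, Q.map (ιS K j ≫ g) = 0 := fun j => by
    have := h j
    rw [← Category.assoc, IsIso.comp_inv_eq, zero_comp, ← Q.map_comp] at this
    exact this
  choose K' u hu hH using fun j => exists_quasiIso_homotopy _ (h0 j)
  have : ∀ j, QuasiIso (u j) := hu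
  have := quasiIso_mapS u
  have : IsIso (Q.map (mapS u)) := (isIso_Q_map_iff_quasiIso A _).2 inferInstance
  have H : Homotopy (mapS u ≫ g) 0 := homotopyDesc _ (fun j =>
    (Homotopy.ofEq (ιS_mapS_assoc u j g)).trans (hH j).some)
  have h2 : Q.map (mapS u) ≫ Q.map g = 0 := by
    rw [← Q.map_comp]
    have h3 : Q.map (mapS u ≫ g) = Q.map 0 :=
      HomologicalComplexUpToQuasiIso.Q_map_eq_of_homotopy H
    rw [h3, CategoryTheory.Functor.map_zero]
  have h3 : Q.map g = 0 := (cancel_epi (Q.map (mapS u))).1 (by rw [h2, comp_zero])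
  rw [h3, zero_comp]

theorem hasCoproduct_Q (K : J → CochainComplex A ℤ) :
    HasColimit (Discrete.functor (fun j => (Q : _ ⥤ DerivedCategory A).obj (K j))) := by
  have hex : ∀ (Y : DerivedCategory A) (φ : ∀ j, Q.obj (K j) ⟶ Y),
      ∃ Φ : Q.obj (S K) ⟶ Y, ∀ j, Q.map (ιS K j) ≫ Φ = φ j := by
    intro Y φ
    obtain ⟨Φ, hΦ⟩ := exists_desc K (Q.objPreimage Y)
      (fun j => φ j ≫ (Q.objObjPreimageIso Y).inv)
    refine ⟨Φ ≫ (Q.objObjPreimageIso Y).hom, fun j => ?_⟩
    rw [← Category.assoc, hΦ j, Category.assoc, Iso.inv_hom_id, Category.comp_id]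
  have hun : ∀ (Y : DerivedCategory A) (Φ₁ Φ₂ : Q.obj (S K) ⟶ Y),
      (∀ j, Q.map (ιS K j) ≫ Φ₁ = Q.map (ιS K j) ≫ Φ₂) → Φ₁ = Φ₂ := by
    intro Y Φ₁ Φ₂ h
    have h1 := eq_zero_of_comp_eq_zero K (Q.objPreimage Y)
      ((Φ₁ - Φ₂) ≫ (Q.objObjPreimageIso Y).inv) (fun j => by
        rw [← Category.assoc, Preadditive.comp_sub, h j, sub_self, zero_comp])
    have h2 : Φ₁ - Φ₂ = 0 := by
      rw [← cancel_mono (Q.objObjPreimageIso Y).inv, h1, zero_comp]
    exact sub_eq_zero.1 h2
  exact ⟨⟨⟨Cofan.mk (Q.obj (S K)) (fun j => Q.map (ιS K j)),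
    Cofan.IsColimit.mk _ (fun s => (hex s.pt s.inj).choose)
      (fun s j => (hex s.pt s.inj).choose_spec j)
      (fun s m hm => hun _ _ _ (fun j => (hm j).trans ((hex s.pt s.inj).choose_spec j).symm))⟩⟩⟩

theorem hasCoproductsOfShape : HasCoproductsOfShape J (DerivedCategory A) := by
  constructor
  intro F
  have := hasCoproduct_Q (fun j => (Q : _ ⥤ DerivedCategory A).objPreimage (F.obj ⟨j⟩))
  have e : F ≅ Discrete.functor (fun j => (Q : _ ⥤ DerivedCategory A).obj
      ((Q : _ ⥤ DerivedCategory A).objPreimage (F.obj ⟨j⟩))) :=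
    Discrete.natIso (fun ⟨j⟩ => (Q.objObjPreimageIso (F.obj ⟨j⟩)).symm)
  exact hasColimit_of_iso e

end derived

end Groth.Agent.H23.DerCoprod
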