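import Mathlib

/-!
# Helpers on `Functor.rightDerivedFunctorPlus`

* a comparison isomorphism between `F` applied to the extension of a complex along an embedding
  of complex shapes and the extension of `F` applied to the complex;
* the unit of `R⁺F` at a bounded below complex `K` is an isomorphism iff `F` carries one (any)
  injective resolution `K ⟶ J` to a quasi-isomorphism;
* the case of a single object and an (`ℕ`-indexed) injective resolution.
-/

namespace Groth.Agent.H23.DerPlus

open CategoryTheory CategoryTheory.Limits HomologicalComplex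

universe w w' v v' u u'

section Bridge

variable {ι ι' : Type*} {c : ComplexShape ι} {c' : ComplexShape ι'}
variable {C D : Type*} [Category C] [Category D] [Preadditive C] [Preadditive D]
  [HasZeroObject C] [HasZeroObject D] (F : C ⥤ D) [F.Additive]
  (K L : HomologicalComplex C c) (φ : K ⟶ L) (e : c.Embedding c')

/-- Components of the comparison `F (K.extend e) ≅ (F K).extend e`. -/
noncomputable def XIso : ∀ (i : Option ι),
    F.obj (extend.X K i) ≅ extend.X ((F.mapHomologicalComplex c).obj K) i
  | some _ => Iso.refl _
  | none => IsZero.iso (F.map_isZero (extend.isZero_X K rfl)) (extend.isZero_X _ rfl)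

lemma XIso_hom_d (i j : Option ι) :
    F.map (extend.d K i j) ≫ (XIso F K j).hom =
      (XIso F K i).hom ≫ extend.d ((F.mapHomologicalComplex c).obj K) i j :=
  match i, j with
  | none, _ => by
      rw [extend.d_none_eq_zero K _ _ rfl, extend.d_none_eq_zero _ _ _ rfl, F.map_zero,
        zero_comp, comp_zero]
  | some _, some _ => (Category.comp_id _).trans (Category.id_comp _).symm
  | some _, none => by
      rw [extend.d_none_eq_zero' K _ _ rfl, extend.d_none_eq_zero' _ _ _ rfl, F.map_zero,
        zero_comp, comp_zero]

/-- The comparison isomorphism `F (K.extend e) ≅ (F K).extend e`. -/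
noncomputable def mapExtendIso :
    (F.mapHomologicalComplex c').obj (K.extend e) ≅
      ((F.mapHomologicalComplex c).obj K).extend e :=
  Hom.isoOfComponents (fun i' => XIso F K (e.r i'))
    (fun i' j' _ => (XIso_hom_d F K (e.r i') (e.r j')).symm)

variable {K L}

lemma XIso_hom_naturality (i : Option ι) :
    F.map (extend.mapX φ i) ≫ (XIso F L i).hom =
      (XIso F K i).hom ≫ extend.mapX ((F.mapHomologicalComplex c).map φ) i :=
  match i with
  | none => (extend.isZero_X _ rfl).eq_of_tgt _ _
  | some _ => (Category.comp_id _).trans (Category.id_comp _).symm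

lemma mapExtendIso_hom_naturality :
    (F.mapHomologicalComplex c').map (extendMap φ e) ≫ (mapExtendIso F L e).hom =
      (mapExtendIso F K e).hom ≫ extendMap ((F.mapHomologicalComplex c).map φ) e := by
  ext i'
  exact XIso_hom_naturality F φ (e.r i')

end Bridge

section Abelian

variable {ι ι' : Type*} {c : ComplexShape ι} {c' : ComplexShape ι'}
variable {A : Type u} [Category.{v} A] [Abelian A] {B : Type u'} [Category.{v'} B] [Abelian B]
  (F : A ⥤ B) [F.Additive]

lemma quasiIso_map_extendMap_iff {K L : HomologicalComplex A c} (φ : K ⟶ L)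
    (e : c.Embedding c') :
    QuasiIso ((F.mapHomologicalComplex c').map (extendMap φ e)) ↔
      QuasiIso ((F.mapHomologicalComplex c).map φ) := by
  rw [← quasiIso_extendMap_iff ((F.mapHomologicalComplex c).map φ) e,
    ← quasiIso_iff_comp_right ((F.mapHomologicalComplex c').map (extendMap φ e))
      (mapExtendIso F L e).hom,
    mapExtendIso_hom_naturality, quasiIso_iff_comp_left]

lemma quasiIso_map_ι'_iff {X : A} (I : InjectiveResolution X) :
    QuasiIso ((F.mapHomologicalComplex (ComplexShape.up ℤ)).map I.ι') ↔
      QuasiIso ((F.mapHomologicalComplex (ComplexShape.up ℕ)).map I.ι) := by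
  unfold InjectiveResolution.ι'
  rw [Functor.map_comp, quasiIso_iff_comp_left]
  exact quasiIso_map_extendMap_iff F I.ι ComplexShape.embeddingUpNat

lemma quasiIsoAt_zero_iff {X : A} (I : InjectiveResolution X) :
    QuasiIsoAt ((F.mapHomologicalComplex (ComplexShape.up ℕ)).map I.ι) 0 ↔
      IsIso (I.toRightDerivedZero' F) := by
  rw [CochainComplex.quasiIsoAt₀_iff, ShortComplex.quasiIso_iff_of_zeros]
  · exact (CochainComplex.isIso_liftCycles_iff
      ((F.mapHomologicalComplex (ComplexShape.up ℕ)).obj I.cocomplex) (F.map (I.ι.f 0)) _).symm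
  · simp
    rfl
  · simp
    exact F.map_zero _ _
  · simp
    rfl

lemma quasiIsoAt_succ_iff {X : A} (I : InjectiveResolution X) (n : ℕ) :
    QuasiIsoAt ((F.mapHomologicalComplex (ComplexShape.up ℕ)).map I.ι) (n + 1) ↔
      IsZero (((F.mapHomologicalComplex (ComplexShape.up ℕ)).obj I.cocomplex).homology
        (n + 1)) := by
  have hK : ((F.mapHomologicalComplex (ComplexShape.up ℕ)).obj
      ((CochainComplex.single₀ A).obj X)).ExactAt (n + 1) :=
    ShortComplex.exact_of_isZero_X₂ _
      (F.map_isZero (isZero_single_obj_X (ComplexShape.up ℕ) 0 X (n + 1) (by simp)))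
  rw [quasiIsoAt_iff_exactAt _ _ hK, exactAt_iff_isZero_homology]

lemma quasiIso_map_ι_iff {X : A} (I : InjectiveResolution X) :
    QuasiIso ((F.mapHomologicalComplex (ComplexShape.up ℕ)).map I.ι) ↔
      IsIso (I.toRightDerivedZero' F) ∧ ∀ n : ℕ, IsZero
        (((F.mapHomologicalComplex (ComplexShape.up ℕ)).obj I.cocomplex).homology (n + 1)) := by
  rw [quasiIso_iff]
  constructor
  · intro h
    exact ⟨(quasiIsoAt_zero_iff F I).1 (h 0), fun n => (quasiIsoAt_succ_iff F I n).1 (h (n + 1))⟩
  · rintro ⟨h0, h1⟩ i
    cases i with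
    | zero => exact (quasiIsoAt_zero_iff F I).2 h0
    | succ n => exact (quasiIsoAt_succ_iff F I n).2 (h1 n)

end Abelian

section Derived

variable {A : Type u} [Category.{v} A] [Abelian A] [HasDerivedCategory.{w} A]
  {B : Type u'} [Category.{v'} B] [Abelian B] [HasDerivedCategory.{w'} B]

lemma isIso_PlusQh_map_iff {X Y : HomotopyCategory.Plus B} (φ : X ⟶ Y) :
    IsIso (DerivedCategory.Plus.Qh.map φ) ↔
      HomotopyCategory.quasiIso B (ComplexShape.up ℤ) φ.hom := by
  rw [← isIso_iff_of_reflects_iso _ DerivedCategory.Plus.ι, ← DerivedCategory.isIso_Qh_map_iff]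
  rfl

lemma isIso_PlusQh_quotient_map_iff {K L : CochainComplex.Plus B} (g : K ⟶ L) :
    IsIso (DerivedCategory.Plus.Qh.map ((HomotopyCategory.Plus.quotient B).map g)) ↔
      QuasiIso g.hom := by
  rw [isIso_PlusQh_map_iff]
  exact (HomotopyCategory.quotient_map_mem_quasiIso_iff g.hom).trans
    (HomologicalComplex.mem_quasiIso_iff g.hom)

variable [EnoughInjectives A] (F : A ⥤ B) [F.Additive]

/-- The unit of `R⁺F` at `K` is an isomorphism iff `F` sends an injective resolution `K ⟶ J`
to a quasi-isomorphism. -/
lemma isIso_unit_iff {K J : CochainComplex.Plus A} (q : K ⟶ J) (hq : QuasiIso q.hom)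
    (hJ : ∀ n, Injective (J.obj.X n)) :
    IsIso (F.rightDerivedFunctorPlusUnit.app ((HomotopyCategory.Plus.quotient A).obj K)) ↔
      QuasiIso ((F.mapHomologicalComplex (ComplexShape.up ℤ)).map q.hom) := by
  have h1 : IsIso (DerivedCategory.Plus.Qh.map ((HomotopyCategory.Plus.quotient A).map q)) :=
    (isIso_PlusQh_quotient_map_iff q).2 hq
  have h2 : IsIso (F.rightDerivedFunctorPlusUnit.app
      ((HomotopyCategory.Plus.quotient A).obj J)) := inferInstance
  have h3 : IsIso ((DerivedCategory.Plus.Qh ⋙ F.rightDerivedFunctorPlus).map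
      ((HomotopyCategory.Plus.quotient A).map q)) := by
    change IsIso (F.rightDerivedFunctorPlus.map (DerivedCategory.Plus.Qh.map _))
    infer_instance
  have nat := F.rightDerivedFunctorPlusUnit.naturality ((HomotopyCategory.Plus.quotient A).map q)
  have key : IsIso ((F.mapHomotopyCategoryPlus ⋙ DerivedCategory.Plus.Qh).map
      ((HomotopyCategory.Plus.quotient A).map q)) ↔
      QuasiIso ((F.mapHomologicalComplex (ComplexShape.up ℤ)).map q.hom) := by
    change IsIso (DerivedCategory.Plus.Qh.map (F.mapHomotopyCategoryPlus.map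
      ((HomotopyCategory.Plus.quotient A).map q))) ↔ _
    rw [isIso_PlusQh_map_iff]
    exact (HomotopyCategory.quotient_map_mem_quasiIso_iff
      ((F.mapHomologicalComplex (ComplexShape.up ℤ)).map q.hom)).trans
      (HomologicalComplex.mem_quasiIso_iff _)
  rw [← key]
  constructor
  · intro h
    have : IsIso ((F.mapHomotopyCategoryPlus ⋙ DerivedCategory.Plus.Qh).map
        ((HomotopyCategory.Plus.quotient A).map q) ≫
        F.rightDerivedFunctorPlusUnit.app ((HomotopyCategory.Plus.quotient A).obj J)) := by
      rw [nat]; infer_instance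
    exact IsIso.of_isIso_comp_right _
      (F.rightDerivedFunctorPlusUnit.app ((HomotopyCategory.Plus.quotient A).obj J))
  · intro h
    have : IsIso (F.rightDerivedFunctorPlusUnit.app ((HomotopyCategory.Plus.quotient A).obj K) ≫
        (DerivedCategory.Plus.Qh ⋙ F.rightDerivedFunctorPlus).map
          ((HomotopyCategory.Plus.quotient A).map q)) := by
      rw [← nat]; infer_instance
    exact IsIso.of_isIso_comp_right _
      ((DerivedCategory.Plus.Qh ⋙ F.rightDerivedFunctorPlus).map
          ((HomotopyCategory.Plus.quotient A).map q))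

/-- The single complex `X[0]` as a bounded below complex. -/
noncomputable def sgl (X : A) : CochainComplex.Plus A :=
  ⟨(CochainComplex.singleFunctor A 0).obj X, ⟨0, inferInstance⟩⟩

/-- An injective resolution as a bounded below complex. -/
noncomputable def res {X : A} (I : InjectiveResolution X) : CochainComplex.Plus A :=
  ⟨I.cochainComplex, ⟨0, inferInstance⟩⟩

/-- The resolution map `X[0] ⟶ I`. -/
noncomputable def resMap {X : A} (I : InjectiveResolution X) : sgl X ⟶ res I :=
  ObjectProperty.homMk I.ι'

omit [HasDerivedCategory.{w} A] [EnoughInjectives A] in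
lemma single_eq (X : A) : (HomotopyCategory.Plus.singleFunctor A 0).obj X =
    (HomotopyCategory.Plus.quotient A).obj (sgl X) := rfl

lemma isIso_unit_single_iff {X : A} (I : InjectiveResolution X) :
    IsIso (F.rightDerivedFunctorPlusUnit.app ((HomotopyCategory.Plus.singleFunctor A 0).obj X)) ↔
      QuasiIso ((F.mapHomologicalComplex (ComplexShape.up ℕ)).map I.ι) := by
  rw [← quasiIso_map_ι'_iff]
  have hq : QuasiIso (resMap I).hom := by
    change QuasiIso I.ι'
    infer_instance
  have hJ : ∀ n, Injective ((res I).obj.X n) := by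
    intro n
    change Injective (I.cochainComplex.X n)
    infer_instance
  exact isIso_unit_iff F (resMap I) hq hJ

end Derived

end Groth.Agent.H23.DerPlus
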