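import Mathlib

/-!
# Essential image of `D⁺(A') ⥤ D⁺(A)`: resolutions by `A'`-objects injective in `A`
-/

set_option autoImplicit false
universe w w' v v' u u'
open CategoryTheory CategoryTheory.Limits ZeroObject

namespace Groth.Agent.H23.EssIm

section rhd
variable {A : Type u} [Category.{v} A] [Abelian A]

/-- right homology data from explicit cokernel / kernel facts -/
noncomputable def mkRHD (S : ShortComplex A) {Q H : A} (p : S.X₂ ⟶ Q) (i : H ⟶ Q) (g' : Q ⟶ S.X₃)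
    (wp : S.f ≫ p = 0) (hp : IsColimit (CokernelCofork.ofπ p wp)) (hg' : p ≫ g' = S.g)
    (wi : i ≫ g' = 0) (hi : IsLimit (KernelFork.ofι i wi)) : S.RightHomologyData :=
  have hdesc : hp.desc (CokernelCofork.ofπ S.g S.zero) = g' :=
    Cofork.IsColimit.hom_ext hp (by rw [Cofork.IsColimit.π_desc]; exact hg'.symm)
  { Q := Q, H := H, p := p, ι := i, wp := wp, hp := hp
    wι := by rw [hdesc]; exact wi
    hι := by subst hdesc; exact hi }

lemma mkRHD_g' (S : ShortComplex A) {Q H : A} (p : S.X₂ ⟶ Q) (i : H ⟶ Q) (g' : Q ⟶ S.X₃)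
    (wp : S.f ≫ p = 0) (hp : IsColimit (CokernelCofork.ofπ p wp)) (hg' : p ≫ g' = S.g)
    (wi : i ≫ g' = 0) (hi : IsLimit (KernelFork.ofι i wi)) :
    (mkRHD S p i g' wp hp hg' wi hi).g' = g' :=
  (cancel_epi (mkRHD S p i g' wp hp hg' wi hi).p).1
    (((mkRHD S p i g' wp hp hg' wi hi).p_g').trans hg'.symm)

end rhd

section mapExtend
variable {ι₁ ι₂ : Type*} {c : ComplexShape ι₁} {c' : ComplexShape ι₂}
  {A' : Type u'} [Category.{v'} A'] [Abelian A'] {A : Type u} [Category.{v} A] [Abelian A]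
  (F : A' ⥤ A) [F.Additive] (L : HomologicalComplex A' c) (e : c.Embedding c')

noncomputable def mapXIso : ∀ o : Option ι₁, F.obj (HomologicalComplex.extend.X L o) ≅
    HomologicalComplex.extend.X ((F.mapHomologicalComplex c).obj L) o
  | some _ => Iso.refl _
  | none => IsZero.iso (F.map_isZero (HomologicalComplex.extend.isZero_X L rfl))
      (HomologicalComplex.extend.isZero_X _ rfl)

lemma mapXIso_comm (o₁ o₂ : Option ι₁) :
    (mapXIso F L o₁).hom ≫ HomologicalComplex.extend.d ((F.mapHomologicalComplex c).obj L) o₁ o₂ =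
      F.map (HomologicalComplex.extend.d L o₁ o₂) ≫ (mapXIso F L o₂).hom :=
  match o₁, o₂ with
  | none, _ => (F.map_isZero (HomologicalComplex.extend.isZero_X L rfl)).eq_of_src _ _
  | some i, some j => by
      show 𝟙 _ ≫ F.map (L.d i j) = F.map (L.d i j) ≫ 𝟙 _
      rw [Category.id_comp, Category.comp_id]
  | some _, none => (HomologicalComplex.extend.isZero_X _ rfl).eq_of_tgt _ _

noncomputable def mapExtendIso : (F.mapHomologicalComplex c').obj (L.extend e) ≅
    ((F.mapHomologicalComplex c).obj L).extend e :=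
  HomologicalComplex.Hom.isoOfComponents (fun i' => mapXIso F L (e.r i'))
    (fun i' j' _ => mapXIso_comm F L _ _)

end mapExtend

section core
variable {A' : Type u'} [Category.{v'} A'] [Abelian A'] {A : Type u} [Category.{v} A] [Abelian A]
  (ι : A' ⥤ A) [ι.Additive] [PreservesFiniteLimits ι] [PreservesFiniteColimits ι]
  [ι.Full] [ι.Faithful]
  (K : CochainComplex A ℕ)

lemma map_comp_zero {X Y Z : A'} (p : X ⟶ Y) (q : Y ⟶ Z) (w : p ≫ q = 0) :
    ι.map p ≫ ι.map q = 0 := by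
  rw [← ι.map_comp, w, ι.map_zero]

@[reassoc]
lemma fromOpcycles_pOpcycles (n : ℕ) : K.fromOpcycles n (n+1) ≫ K.pOpcycles (n+1) = 0 := by
  rw [← cancel_epi (K.pOpcycles n), K.p_fromOpcycles_assoc, K.d_pOpcycles, comp_zero]

structure Stage (n : ℕ) where
  J : A'
  C : A'
  q : J ⟶ C
  f : K.X n ⟶ ι.obj J
  φ : K.opcycles n ⟶ ι.obj C
  epi_q : Epi q
  inj : Injective (ι.obj J)
  comm : K.pOpcycles n ≫ φ = f ≫ ι.map q
  mono : Mono (K.homologyι n ≫ φ)

structure StepData {n : ℕ} (s : Stage ι K n) where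
  t : Stage ι K (n+1)
  p : s.C ⟶ t.J
  w : p ≫ t.q = 0
  cok : IsColimit (CokernelCofork.ofπ (ι.map t.q) (map_comp_zero ι p t.q w))
  comm1 : K.fromOpcycles n (n+1) ≫ t.f = s.φ ≫ ι.map p
  wk : (K.homologyι n ≫ s.φ) ≫ ι.map p = 0
  ker : IsLimit (KernelFork.ofι (K.homologyι n ≫ s.φ) wk)

structure Hyp : Prop where
  hK : ∀ n, ι.essImage (K.homology n)
  hinj : ∀ X' : A', ∃ (Y' : A') (i : X' ⟶ Y'), Mono i ∧ Injective (ι.obj Y')
  h0 : IsZero (K.X 0)

variable {ι K}

theorem exists_stepData (H : Hyp ι K) {n : ℕ} (s : Stage ι K n) : Nonempty (StepData ι K s) := by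
  haveI := s.mono
  obtain ⟨H₀, ⟨eH⟩⟩ := H.hK n
  obtain ⟨H₁, ⟨eH'⟩⟩ := H.hK (n+1)
  obtain ⟨g₀, hg₀⟩ : ∃ g₀ : H₀ ⟶ s.C, ι.map g₀ = eH.hom ≫ K.homologyι n ≫ s.φ :=
    ⟨ι.preimage _, ι.map_preimage _⟩
  haveI : Mono (ι.map g₀) := by rw [hg₀]; infer_instance
  haveI : Mono g₀ := ι.mono_of_mono_map inferInstance
  obtain ⟨J₁, m₁, hm₁, hJ₁⟩ := H.hinj (cokernel g₀)
  obtain ⟨J₂, m₂, hm₂, hJ₂⟩ := H.hinj H₁
  haveI := hm₁; haveI := hm₂; haveI := hJ₁; haveI := hJ₂
  have h1 : K.homologyι n ≫ s.φ = eH.inv ≫ ι.map g₀ := by rw [hg₀, Iso.inv_hom_id_assoc]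
  have hex : (ShortComplex.mk (K.homologyι n) (K.fromOpcycles n (n+1))
      (K.homologyι_comp_fromOpcycles n (n+1))).Exact :=
    ShortComplex.exact_of_f_is_kernel _ (K.homologyIsKernel n (n+1) (by simp))
  have hug : K.homologyι n ≫ (s.φ ≫ ι.map (cokernel.π g₀ ≫ m₁)) = 0 := by
    rw [← Category.assoc, h1, Category.assoc, ← ι.map_comp, cokernel.condition_assoc, zero_comp,
      ι.map_zero, comp_zero]
  obtain ⟨f₁, hf₁⟩ : ∃ f₁ : K.X (n+1) ⟶ ι.obj J₁,
      K.fromOpcycles n (n+1) ≫ f₁ = s.φ ≫ ι.map (cokernel.π g₀ ≫ m₁) :=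
    ⟨hex.descToInjective _ hug, hex.comp_descToInjective _ hug⟩
  haveI : Mono (eH'.inv ≫ ι.map m₂) := inferInstance
  obtain ⟨ext, hext⟩ : ∃ ext : K.opcycles (n+1) ⟶ ι.obj J₂,
      K.homologyι (n+1) ≫ ext = eH'.inv ≫ ι.map m₂ :=
    ⟨Injective.factorThru (eH'.inv ≫ ι.map m₂) (K.homologyι (n+1)), Injective.comp_factorThru _ _⟩
  obtain ⟨p, hp⟩ : ∃ p : s.C ⟶ J₁ ⊞ J₂, p = cokernel.π g₀ ≫ m₁ ≫ biprod.inl := ⟨_, rfl⟩
  obtain ⟨f, hf⟩ : ∃ f : K.X (n+1) ⟶ ι.obj (J₁ ⊞ J₂),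
      f = f₁ ≫ ι.map biprod.inl + K.pOpcycles (n+1) ≫ ext ≫ ι.map biprod.inr := ⟨_, rfl⟩
  have hJ : Injective (ι.obj (J₁ ⊞ J₂)) := by
    refine ⟨fun g i _ => ⟨Injective.factorThru (g ≫ ι.map biprod.fst) i ≫ ι.map biprod.inl +
      Injective.factorThru (g ≫ ι.map biprod.snd) i ≫ ι.map biprod.inr, ?_⟩⟩
    simp only [Preadditive.comp_add, Injective.comp_factorThru_assoc, Category.assoc,
      ← CategoryTheory.Functor.map_comp]
    rw [← Preadditive.comp_add, ← ι.map_add, biprod.total, ι.map_id, Category.comp_id]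
  have comm1 : K.fromOpcycles n (n+1) ≫ f = s.φ ≫ ι.map p := by
    simp only [hf, hp, Preadditive.comp_add, reassoc_of% hf₁, fromOpcycles_pOpcycles_assoc,
      zero_comp, add_zero, Category.assoc, CategoryTheory.Functor.map_comp]
  have w : p ≫ cokernel.π p = 0 := cokernel.condition p
  have hk : K.d n (n+1) ≫ f ≫ ι.map (cokernel.π p) = 0 := by
    rw [← K.p_fromOpcycles n (n+1), Category.assoc, reassoc_of% comm1, ← ι.map_comp, w,
      ι.map_zero, comp_zero, comp_zero]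
  obtain ⟨φ', hφ'⟩ : ∃ φ' : K.opcycles (n+1) ⟶ ι.obj (cokernel p),
      K.pOpcycles (n+1) ≫ φ' = f ≫ ι.map (cokernel.π p) :=
    ⟨K.descOpcycles _ n (by simp) hk, K.p_descOpcycles _ _ _ _⟩
  have hps : p ≫ (biprod.snd : J₁ ⊞ J₂ ⟶ J₂) = 0 := by rw [hp]; simp
  obtain ⟨r, hr⟩ : ∃ r : cokernel p ⟶ J₂, cokernel.π p ≫ r = biprod.snd :=
    ⟨cokernel.desc p _ hps, cokernel.π_desc _ _ _⟩
  have hφr : φ' ≫ ι.map r = ext := by
    rw [← cancel_epi (K.pOpcycles (n+1)), reassoc_of% hφ', ← ι.map_comp, hr, hf]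
    simp only [Preadditive.add_comp, Category.assoc, ← CategoryTheory.Functor.map_comp,
      biprod.inl_snd, biprod.inr_snd, CategoryTheory.Functor.map_zero,
      CategoryTheory.Functor.map_id, comp_zero, zero_add, Category.comp_id]
  have hmono' : Mono (K.homologyι (n+1) ≫ φ') := by
    haveI : Mono ((K.homologyι (n+1) ≫ φ') ≫ ι.map r) := by
      rw [Category.assoc, hφr, hext]; infer_instance
    exact mono_of_mono _ (ι.map r)
  have cok : IsColimit (CokernelCofork.ofπ (ι.map (cokernel.π p))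
      (map_comp_zero ι p (cokernel.π p) w)) :=
    CokernelCofork.mapIsColimit _ (cokernelIsCokernel p) ι
  have wk : (K.homologyι n ≫ s.φ) ≫ ι.map p = 0 := by
    rw [h1, Category.assoc, ← ι.map_comp, hp, cokernel.condition_assoc, zero_comp, ι.map_zero,
      comp_zero]
  have ker : IsLimit (KernelFork.ofι (K.homologyι n ≫ s.φ) wk) := by
    have k1 : IsLimit (KernelFork.ofι g₀ (cokernel.condition g₀)) :=
      Abelian.monoIsKernelOfCokernel _ (colimit.isColimit _)
    have k2 := KernelFork.mapIsLimit _ k1 ι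
    have k3 := isKernelCompMono k2 (ι.map (m₁ ≫ biprod.inl)) (h := ι.map p)
      (by rw [hp, ← ι.map_comp])
    exact IsLimit.ofIsoLimit k3 (Fork.ext eH (by
      change eH.hom ≫ (K.homologyι n ≫ s.φ) = ι.map g₀
      rw [hg₀]))
  exact ⟨{ t := { J := J₁ ⊞ J₂, C := cokernel p, q := cokernel.π p, f := f, φ := φ',
                  epi_q := inferInstance, inj := hJ, comm := hφ', mono := hmono' }
           p := p, w := w, cok := cok, comm1 := comm1, wk := wk, ker := ker }⟩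

section seq
variable (H : Hyp ι K)

noncomputable def stage0 : Stage ι K 0 where
  J := 0
  C := 0
  q := 0
  f := 0
  φ := 0
  epi_q := ⟨fun _ _ _ => (isZero_zero A').eq_of_src _ _⟩
  inj := IsZero.injective (ι.map_isZero (isZero_zero A'))
  comm := (ι.map_isZero (isZero_zero A')).eq_of_tgt _ _
  mono := ⟨fun _ _ _ => IsZero.eq_of_tgt
    ((K.exactAt_iff_isZero_homology 0).1 (ShortComplex.exact_of_isZero_X₂ _ H.h0)) _ _⟩

noncomputable def stepData {n : ℕ} (s : Stage ι K n) : StepData ι K s :=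
  (exists_stepData H s).some

noncomputable def seq : ∀ n, Stage ι K n
  | 0 => stage0 H
  | n+1 => (stepData H (seq n)).t

noncomputable def sd (n : ℕ) : StepData ι K (seq H n) := stepData H (seq H n)

noncomputable def Jn (n : ℕ) : A' := (seq H n).J
noncomputable def Cn (n : ℕ) : A' := (seq H n).C
noncomputable def qn (n : ℕ) : Jn H n ⟶ Cn H n := (seq H n).q
noncomputable def fn (n : ℕ) : K.X n ⟶ ι.obj (Jn H n) := (seq H n).f
noncomputable def φn (n : ℕ) : K.opcycles n ⟶ ι.obj (Cn H n) := (seq H n).φ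
noncomputable def pn (n : ℕ) : Cn H n ⟶ Jn H (n+1) := (sd H n).p

lemma epi_qn (n : ℕ) : Epi (qn H n) := (seq H n).epi_q
lemma inj_Jn (n : ℕ) : Injective (ι.obj (Jn H n)) := (seq H n).inj
lemma comm_n (n : ℕ) : K.pOpcycles n ≫ φn H n = fn H n ≫ ι.map (qn H n) := (seq H n).comm
lemma mono_n (n : ℕ) : Mono (K.homologyι n ≫ φn H n) := (seq H n).mono
lemma pq (n : ℕ) : pn H n ≫ qn H (n+1) = 0 := (sd H n).w
noncomputable def cok_n (n : ℕ) : IsColimit (CokernelCofork.ofπ (ι.map (qn H (n+1)))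
    (map_comp_zero ι (pn H n) (qn H (n+1)) (pq H n))) := (sd H n).cok
lemma comm1_n (n : ℕ) : K.fromOpcycles n (n+1) ≫ fn H (n+1) = φn H n ≫ ι.map (pn H n) :=
  (sd H n).comm1
lemma wk_n (n : ℕ) : (K.homologyι n ≫ φn H n) ≫ ι.map (pn H n) = 0 := (sd H n).wk
noncomputable def ker_n (n : ℕ) : IsLimit (KernelFork.ofι (K.homologyι n ≫ φn H n) (wk_n H n)) :=
  (sd H n).ker

lemma isZero_Jn_zero : IsZero (Jn H 0) := isZero_zero A'

noncomputable def L : CochainComplex A' ℕ :=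
  CochainComplex.of (Jn H) (fun n => qn H n ≫ pn H n)
    (fun n => by rw [Category.assoc, reassoc_of% (pq H n), zero_comp, comp_zero])

lemma L_d (n : ℕ) : (L H).d n (n+1) = qn H n ≫ pn H n := by
  unfold L
  exact CochainComplex.of_d (Jn H) (fun n => qn H n ≫ pn H n) n

lemma mapL_d (n : ℕ) : ((ι.mapHomologicalComplex (ComplexShape.up ℕ)).obj (L H)).d n (n+1) =
    ι.map (qn H n) ≫ ι.map (pn H n) := by
  change ι.map ((L H).d n (n+1)) = _
  rw [L_d]
  exact ι.map_comp _ _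

noncomputable def fL : K ⟶ (ι.mapHomologicalComplex (ComplexShape.up ℕ)).obj (L H) where
  f n := fn H n
  comm' i j hij := by
    obtain rfl : i + 1 = j := hij
    have h : fn H i ≫ (ι.map (qn H i) ≫ ι.map (pn H i)) = K.d i (i+1) ≫ fn H (i+1) := by
      rw [← K.p_fromOpcycles i (i+1), Category.assoc, comm1_n, reassoc_of% (comm_n H i)]
    change fn H i ≫ ((ι.mapHomologicalComplex (ComplexShape.up ℕ)).obj (L H)).d i (i+1) = _
    rw [mapL_d]
    exact h

lemma quasiIsoAt_zero : QuasiIsoAt (fL H) 0 := by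
  rw [quasiIsoAt_iff_exactAt _ _ (ShortComplex.exact_of_isZero_X₂ _ H.h0)]
  exact ShortComplex.exact_of_isZero_X₂ _ (ι.map_isZero (isZero_Jn_zero H))

lemma quasiIsoAt_succ (n : ℕ) : QuasiIsoAt (fL H) (n+1) := by
  rw [quasiIsoAt_iff' (fL H) n (n+1) (n+2) (by simp) (by simp)]
  have := epi_qn H n
  have hd1 := mapL_d H n
  have hd2 : ι.map (qn H (n+1)) ≫ ι.map (pn H (n+1)) =
      ((ι.mapHomologicalComplex (ComplexShape.up ℕ)).obj (L H)).d (n+1) (n+2) :=
    (mapL_d H (n+1)).symm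
  have wp : ((ι.mapHomologicalComplex (ComplexShape.up ℕ)).obj (L H)).d n (n+1) ≫
      ι.map (qn H (n+1)) = 0 := by
    have h : (ι.map (qn H n) ≫ ι.map (pn H n)) ≫ ι.map (qn H (n+1)) = 0 := by
      rw [Category.assoc, map_comp_zero ι _ _ (pq H n), comp_zero]
    rw [hd1]; exact h
  let h₁ : (K.sc' n (n+1) (n+2)).RightHomologyData :=
    mkRHD _ (K.pOpcycles (n+1)) (K.homologyι (n+1)) (K.fromOpcycles (n+1) (n+2))
      (K.d_pOpcycles n (n+1)) (K.opcyclesIsCokernel n (n+1) (by simp))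
      (K.p_fromOpcycles (n+1) (n+2))
      (K.homologyι_comp_fromOpcycles (n+1) (n+2)) (K.homologyIsKernel (n+1) (n+2) (by simp))
  let h₂ : (((ι.mapHomologicalComplex (ComplexShape.up ℕ)).obj (L H)).sc' n (n+1)
      (n+2)).RightHomologyData :=
    mkRHD _ (ι.map (qn H (n+1))) (K.homologyι (n+1) ≫ φn H (n+1)) (ι.map (pn H (n+1)))
      wp (isCokernelEpiComp (cok_n H n) (ι.map (qn H n)) hd1)
      hd2 (wk_n H (n+1)) (ker_n H (n+1))
  let γ : ShortComplex.RightHomologyMapData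
      ((HomologicalComplex.shortComplexFunctor' A _ n (n+1) (n+2)).map (fL H)) h₁ h₂ :=
    { φQ := φn H (n+1)
      φH := 𝟙 _
      commp := comm_n H (n+1)
      commg' := by
        rw [mkRHD_g', mkRHD_g']
        exact (comm1_n H (n+1)).symm
      commι := Category.id_comp _ }
  exact γ.quasiIso_iff.2 (show IsIso (𝟙 (K.homology (n+1))) from inferInstance)

instance quasiIso_fL : QuasiIso (fL H) :=
  ⟨fun n => by
    cases n with
    | zero => exact quasiIsoAt_zero H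
    | succ n => exact quasiIsoAt_succ H n⟩

end seq

theorem core_exists (H : Hyp ι K) :
    ∃ (L : CochainComplex A' ℕ) (f : K ⟶ (ι.mapHomologicalComplex (ComplexShape.up ℕ)).obj L),
      IsZero (L.X 0) ∧ (∀ n, Injective (ι.obj (L.X n))) ∧ QuasiIso f :=
  ⟨L H, fL H, isZero_Jn_zero H, fun n => inj_Jn H n, inferInstance⟩


end core

section derived
open DerivedCategory

variable {A' : Type u'} [Category.{v'} A'] [Abelian A'] [HasDerivedCategory.{w'} A']
  {A : Type u} [Category.{v} A] [Abelian A] [HasDerivedCategory.{w} A]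

lemma exists_nat_model (Z : DerivedCategory A) (a : ℤ) [Z.IsGE a] :
    ∃ (K₁ : CochainComplex A ℕ), IsZero (K₁.X 0) ∧
      Nonempty (Z ≅ DerivedCategory.Q.obj (K₁.extend (ComplexShape.embeddingUpIntGE (a-1)))) := by
  obtain ⟨K, hK, ⟨e₀⟩⟩ := DerivedCategory.exists_iso_Q_obj_of_isGE Z a
  haveI : K.IsStrictlyGE (a-1) := K.isStrictlyGE_of_ge (a-1) a (by omega)
  refine ⟨K.restriction (ComplexShape.embeddingUpIntGE (a-1)), ?_,
    ⟨e₀ ≪≫ DerivedCategory.Q.mapIso ?_⟩⟩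
  · exact K.isZero_of_isStrictlyGE a _ (by
      change a - 1 + ((0 : ℕ) : ℤ) < a
      omega)
  · haveI : IsIso (HomologicalComplex.restrictionToTruncGE' K (ComplexShape.embeddingUpIntGE (a-1))) :=
      HomologicalComplex.Hom.isIso_of_components _
    exact asIso (HomologicalComplex.πTruncGE K (ComplexShape.embeddingUpIntGE (a-1))) ≪≫
      ((ComplexShape.embeddingUpIntGE (a-1)).extendFunctor A).mapIso
        (asIso (HomologicalComplex.restrictionToTruncGE' K (ComplexShape.embeddingUpIntGE (a-1)))).symm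

theorem main (ι : A' ⥤ A) [ι.Additive] [PreservesFiniteLimits ι] [PreservesFiniteColimits ι]
    [ι.Full] [ι.Faithful]
    (hinj : ∀ X' : A', ∃ (Y' : A') (i : X' ⟶ Y'), Mono i ∧ Injective (ι.obj Y'))
    (Z : DerivedCategory A) (a : ℤ) [Z.IsGE a]
    (hZ : ∀ i : ℤ, ι.essImage ((DerivedCategory.homologyFunctor A i).obj Z)) :
    ∃ (I : CochainComplex A' ℤ), I.IsStrictlyGE a ∧ (∀ n : ℤ, Injective (ι.obj (I.X n))) ∧
      Nonempty (ι.mapDerivedCategory.obj (DerivedCategory.Q.obj I) ≅ Z) := by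
  obtain ⟨K₁, h0, ⟨e₀⟩⟩ := exists_nat_model Z a
  have hK₁ : ∀ n, ι.essImage (K₁.homology n) := fun n =>
    Functor.essImage.ofIso ((DerivedCategory.homologyFunctor A _).mapIso e₀ ≪≫
      (DerivedCategory.homologyFunctorFactors A _).app _ ≪≫
      K₁.extendHomologyIso (ComplexShape.embeddingUpIntGE (a-1)) (j := n) rfl) (hZ _)
  obtain ⟨L, f, hL0, hLinj, hf⟩ := core_exists (ι := ι) (K := K₁) ⟨hK₁, hinj, h0⟩
  refine ⟨L.extend (ComplexShape.embeddingUpIntGE (a-1)), ?_, ?_, ⟨?_⟩⟩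
  · rw [CochainComplex.isStrictlyGE_iff]
    intro i hi
    by_cases h : i = a - 1
    · exact hL0.of_iso (L.extendXIso (ComplexShape.embeddingUpIntGE (a-1)) (i := 0) (by
        change a - 1 + ((0 : ℕ) : ℤ) = i
        omega))
    · exact L.isZero_extend_X _ i (fun n hn => by
        change a - 1 + (n : ℤ) = i at hn
        omega)
  · intro i
    by_cases h : ∃ n, (ComplexShape.embeddingUpIntGE (a-1)).f n = i
    · obtain ⟨n, rfl⟩ := h
      exact Injective.of_iso (ι.mapIso (L.extendXIso _ rfl).symm) (hLinj n)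
    · exact IsZero.injective (ι.map_isZero (L.isZero_extend_X _ i (by simpa using h)))
  · haveI := hf
    exact (ι.mapDerivedCategoryFactors.app _) ≪≫
      DerivedCategory.Q.mapIso (mapExtendIso ι L (ComplexShape.embeddingUpIntGE (a-1))) ≪≫
      (asIso (DerivedCategory.Q.map
        (HomologicalComplex.extendMap f (ComplexShape.embeddingUpIntGE (a-1))))).symm ≪≫ e₀.symm

end derived

end Groth.Agent.H23.EssIm
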