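import Mathlib.Algebra.Category.ModuleCat.Ext.HasExt
import Mathlib.Algebra.Homology.DerivedCategory.Ext.Map
import Mathlib.Algebra.Homology.DerivedCategory.Ext.Linear
import Mathlib.Algebra.Homology.DerivedCategory.Ext.EnoughProjectives
import Mathlib.Algebra.Category.ModuleCat.Localization
import Mathlib.RingTheory.LocalProperties.ProjectiveDimension
import Mathlib.RingTheory.Noetherian.Basic
import Mathlib.RingTheory.Finiteness.Cardinality
import Mathlib.Algebra.Module.FinitePresentation
import Mathlib.Algebra.Homology.ShortComplex.ModuleCat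

/-!
# Ext commutes with localization for finite modules over a Noetherian ring (helper23; S14412)
-/

universe u

namespace Groth.Agent.H23.ExtLoc

open CategoryTheory Abelian

variable {R : Type u} [CommRing R] (S : Submonoid R)

/-- the localization functor -/
noncomputable abbrev Lf : ModuleCat.{u} R ⥤ ModuleCat.{u} (Localization S) :=
  ModuleCat.localizedModuleFunctor.{u} S

lemma Lmap_apply {M N : ModuleCat.{u} R} (f : M ⟶ N) (x : M) :
    ((Lf S).map f).hom (M.localizedModuleMkLinearMap S x) =
      N.localizedModuleMkLinearMap S (f.hom x) := by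
  change (IsLocalizedModule.mapExtendScalars S (M.localizedModuleMkLinearMap S)
    (N.localizedModuleMkLinearMap S) (Localization S) f.hom) _ = _
  rw [IsLocalizedModule.mapExtendScalars_apply_apply, IsLocalizedModule.map_apply]

lemma hom_ext_mk {M : ModuleCat.{u} R} {X : ModuleCat.{u} (Localization S)}
    (g h : M.localizedModule S ⟶ X)
    (H : ∀ x : M, g.hom (M.localizedModuleMkLinearMap S x) =
      h.hom (M.localizedModuleMkLinearMap S x)) : g = h := by
  apply ModuleCat.hom_ext
  apply LinearMap.ext
  intro y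
  obtain ⟨⟨m, s⟩, hy⟩ := IsLocalizedModule.surj S (M.localizedModuleMkLinearMap S) y
  have hu : IsUnit (algebraMap R (Localization S) s) := IsLocalization.map_units _ s
  have h1 : algebraMap R (Localization S) s • y = M.localizedModuleMkLinearMap S m := by
    rw [algebraMap_smul]
    exact hy
  have h2 : algebraMap R (Localization S) s • g.hom y =
      algebraMap R (Localization S) s • h.hom y := by
    rw [← map_smul, ← map_smul, h1, H]
  exact hu.smul_left_cancel.1 h2

lemma Lmap_smul_id (r : R) (N : ModuleCat.{u} R) :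
    (Lf S).map (r • 𝟙 N) = algebraMap R (Localization S) r • 𝟙 ((Lf S).obj N) := by
  apply hom_ext_mk
  intro x
  have h6 : (ModuleCat.Hom.hom (algebraMap R (Localization S) r • 𝟙 ((Lf S).obj N)))
      (N.localizedModuleMkLinearMap S x) =
      algebraMap R (Localization S) r • (N.localizedModuleMkLinearMap S x) := rfl
  have h7 : N.localizedModuleMkLinearMap S ((ModuleCat.Hom.hom (r • 𝟙 N)) x) =
      r • N.localizedModuleMkLinearMap S x := by
    have h8 : (ModuleCat.Hom.hom (r • 𝟙 N)) x = r • x := rfl
    rw [h8, map_smul]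
  exact (Lmap_apply S (r • 𝟙 N) x).trans (h7.trans ((algebraMap_smul (Localization S) r
    (N.localizedModuleMkLinearMap S x)).symm.trans h6.symm))

lemma map_smul_ext {M N : ModuleCat.{u} R} {i : ℕ} (r : R) (e : Ext M N i) :
    (r • e).mapExactFunctor (Lf S) =
      algebraMap R (Localization S) r • e.mapExactFunctor (Lf S) := by
  rw [Ext.smul_eq_comp_mk₀, Ext.mapExactFunctor_comp, Ext.mapExactFunctor_mk₀, Lmap_smul_id,
    ← Ext.smul_eq_comp_mk₀]

lemma deg0_surj [IsNoetherianRing R] (M N : ModuleCat.{u} R) [Module.Finite R M]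
    (g : M.localizedModule S ⟶ N.localizedModule S) :
    ∃ (h : M ⟶ N) (s : S), algebraMap R (Localization S) (s : R) • g = (Lf S).map h := by
  haveI : Module.FinitePresentation R M := Module.finitePresentation_of_finite R M
  let g₀ : M.localizedModule S →ₗ[R] N.localizedModule S := g.hom.restrictScalars R
  obtain ⟨⟨h, s⟩, hs⟩ := IsLocalizedModule.surj S (IsLocalizedModule.map S
    (M.localizedModuleMkLinearMap S) (N.localizedModuleMkLinearMap S)) g₀
  refine ⟨ModuleCat.ofHom h, s, ?_⟩
  apply hom_ext_mk
  intro x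
  have h3 : (s • g₀) (M.localizedModuleMkLinearMap S x) =
      N.localizedModuleMkLinearMap S (h x) := by
    rw [hs]
    exact IsLocalizedModule.map_apply S _ _ h x
  have h4 : (s • g₀) (M.localizedModuleMkLinearMap S x) =
      (s : R) • g.hom (M.localizedModuleMkLinearMap S x) := rfl
  have h5 : (ModuleCat.Hom.hom (algebraMap R (Localization S) (s : R) • g))
      (M.localizedModuleMkLinearMap S x) =
      algebraMap R (Localization S) (s : R) • g.hom (M.localizedModuleMkLinearMap S x) := rfl
  exact (h5.trans ((algebraMap_smul (Localization S) (s : R) _).trans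
    (h4.symm.trans h3))).trans (Lmap_apply S (ModuleCat.ofHom h) x).symm

lemma deg0_ker [IsNoetherianRing R] (M N : ModuleCat.{u} R) [Module.Finite R M]
    (f : M ⟶ N) (hf : (Lf S).map f = 0) : ∃ s : S, (s : R) • f = 0 := by
  haveI : Module.FinitePresentation R M := Module.finitePresentation_of_finite R M
  have h0 : IsLocalizedModule.map S (M.localizedModuleMkLinearMap S)
      (N.localizedModuleMkLinearMap S) f.hom = 0 := by
    apply IsLocalizedModule.ext S (M.localizedModuleMkLinearMap S)
      (IsLocalizedModule.map_units (N.localizedModuleMkLinearMap S))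
    apply LinearMap.ext
    intro x
    have h1 := Lmap_apply S f x
    rw [hf] at h1
    have h2 : (ModuleCat.Hom.hom (0 : (Lf S).obj M ⟶ (Lf S).obj N))
        (M.localizedModuleMkLinearMap S x) = 0 := by simp
    rw [h2] at h1
    simp only [LinearMap.comp_apply, IsLocalizedModule.map_apply, LinearMap.zero_apply]
    exact h1.symm
  obtain ⟨s, hs⟩ := (IsLocalizedModule.eq_zero_iff S (IsLocalizedModule.map S
    (M.localizedModuleMkLinearMap S) (N.localizedModuleMkLinearMap S))).1 h0
  refine ⟨s, ?_⟩
  apply ModuleCat.hom_ext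
  simpa [Submonoid.smul_def] using hs

theorem main [IsNoetherianRing R] (N : ModuleCat.{u} R) :
    ∀ (i : ℕ) (M : ModuleCat.{u} R) [Module.Finite R M],
    (∀ y : Ext ((Lf S).obj M) ((Lf S).obj N) i, ∃ (e : Ext M N i) (s : S),
      algebraMap R (Localization S) (s : R) • y = e.mapExactFunctor (Lf S)) ∧
    (∀ e : Ext M N i, e.mapExactFunctor (Lf S) = 0 → ∃ s : S, (s : R) • e = 0) := by
  intro i
  induction i with
  | zero =>
    intro M _
    constructor
    · intro y
      obtain ⟨g, rfl⟩ := (Ext.mk₀_bijective _ _).2 y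
      obtain ⟨h, s, hs⟩ := deg0_surj S M N g
      refine ⟨Ext.mk₀ h, s, ?_⟩
      rw [Ext.mapExactFunctor_mk₀, ← Ext.mk₀_smul]
      exact congrArg Ext.mk₀ hs
    · intro e he
      obtain ⟨f, rfl⟩ := (Ext.mk₀_bijective _ _).2 e
      rw [Ext.mapExactFunctor_mk₀] at he
      have hf : (Lf S).map f = 0 := (Ext.mk₀_bijective _ _).1 (he.trans (Ext.mk₀_zero _ _).symm)
      obtain ⟨s, hs⟩ := deg0_ker S M N f hf
      exact ⟨s, by rw [← Ext.mk₀_smul, hs, Ext.mk₀_zero]⟩
  | succ i ih =>
    intro M _
    obtain ⟨n, p, hp⟩ := Module.Finite.exists_fin' R M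
    let F : ModuleCat.{u} R := ModuleCat.of R (Fin n → R)
    let K : ModuleCat.{u} R := ModuleCat.of R (LinearMap.ker p)
    let T : ShortComplex (ModuleCat.{u} R) :=
      ShortComplex.mk (ModuleCat.ofHom (LinearMap.ker p).subtype : K ⟶ F)
        (ModuleCat.ofHom p : F ⟶ M)
        (ModuleCat.hom_ext (LinearMap.ext fun x => LinearMap.mem_ker.1 x.2))
    have hT : T.ShortExact := by
      refine ShortComplex.ShortExact.mk' ((ShortComplex.moduleCat_exact_iff_range_eq_ker T).2 ?_)
        ((ModuleCat.mono_iff_injective _).2 (Submodule.injective_subtype _))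
        ((ModuleCat.epi_iff_surjective _).2 hp)
      exact Submodule.range_subtype _
    haveI : Module.Finite R K := inferInstanceAs (Module.Finite R (LinearMap.ker p))
    haveI : Module.Finite R F := inferInstanceAs (Module.Finite R (Fin n → R))
    haveI : Projective T.X₂ := (IsProjective.iff_projective (R := R) (Fin n → R)).1 inferInstance
    have hT' : (T.map (Lf S)).ShortExact := hT.map_of_exact (Lf S)
    haveI : Projective (T.map (Lf S)).X₂ := (Lf S).projective_obj T.X₂
    obtain ⟨ihK1, ihK2⟩ := ih K
    obtain ⟨ihF1, ihF2⟩ := ih F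
    constructor
    · intro y
      obtain ⟨y', hy'⟩ := Ext.contravariant_sequence_exact₃ hT' ((Lf S).obj N) y
        (Ext.eq_zero_of_projective _) (add_comm 1 i)
      obtain ⟨e', s, hs⟩ := ihK1 y'
      refine ⟨hT.extClass.comp e' (add_comm 1 i), s, ?_⟩
      rw [Ext.mapExactFunctor_comp, Ext.mapExactFunctor_extClass, ← hs, Ext.comp_smul]
      exact congrArg (fun z => algebraMap R (Localization S) (s : R) • z) hy'.symm
    · intro e he
      obtain ⟨e', he'⟩ := Ext.contravariant_sequence_exact₃ hT N e
        (Ext.eq_zero_of_projective _) (add_comm 1 i)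
      subst he'
      rw [Ext.mapExactFunctor_comp, Ext.mapExactFunctor_extClass] at he
      obtain ⟨z, hz⟩ := Ext.contravariant_sequence_exact₁ hT' _ (e'.mapExactFunctor (Lf S))
        (add_comm 1 i) he
      obtain ⟨z₀, t, ht⟩ := ihF1 z
      have hw : ((t : R) • e' - (Ext.mk₀ T.f).comp z₀ (zero_add i)).mapExactFunctor (Lf S) = 0 := by
        have h1 := ((Lf S).mapExtAddHom K N i).map_sub ((t : R) • e')
          ((Ext.mk₀ T.f).comp z₀ (zero_add i))
        rw [Functor.mapExtAddHom_apply, Functor.mapExtAddHom_apply, Functor.mapExtAddHom_apply]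
          at h1
        rw [h1, map_smul_ext, Ext.mapExactFunctor_comp, Ext.mapExactFunctor_mk₀, ← ht,
          Ext.comp_smul, ← hz]
        exact sub_self _
      obtain ⟨t', ht'⟩ := ihK2 _ hw
      refine ⟨t' * t, ?_⟩
      have h2 : ((t' * t : S) : R) • e' = (t' : R) • (Ext.mk₀ T.f).comp z₀ (zero_add i) := by
        rw [smul_sub, sub_eq_zero, smul_smul] at ht'
        exact ht'
      rw [← Ext.comp_smul, h2, Ext.comp_smul, ShortComplex.ShortExact.extClass_comp_assoc,
        smul_zero]

end Groth.Agent.H23.ExtLoc
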