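import Groth.Prelude.Def_HRes

/-!
# Naturality of `Ext.mapExactFunctor` in the exact functor, and compatibility with composition

helper23 library for S14708 / S14709.
-/

universe w w' w'' v v' v'' u u' u''

namespace Groth.Agent.H23.ExtNat

open CategoryTheory Limits Abelian

variable {C : Type u} [Category.{v} C] [Abelian C] {D : Type u'} [Category.{v'} D] [Abelian D]
  [HasExt.{w} C] [HasExt.{w'} D] [EnoughInjectives C]

section Nat

variable (G G' : C ⥤ D) [G.Additive] [G'.Additive] [PreservesFiniteLimits G]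
  [PreservesFiniteColimits G] [PreservesFiniteLimits G'] [PreservesFiniteColimits G'] (τ : G ⟶ G')

theorem mapExactFunctor_naturality : ∀ (n : ℕ) {X Y : C} (x : Ext.{w} X Y n),
    (x.mapExactFunctor G).comp (Ext.mk₀ (τ.app Y)) (add_zero n) =
      (Ext.mk₀ (τ.app X)).comp (x.mapExactFunctor G') (zero_add n) := by
  intro n
  induction n with
  | zero =>
    intro X Y x
    obtain ⟨f, rfl⟩ := (Ext.mk₀_bijective X Y).2 x
    rw [Ext.mapExactFunctor_mk₀, Ext.mapExactFunctor_mk₀, Ext.mk₀_comp_mk₀, Ext.mk₀_comp_mk₀,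
      τ.naturality]
  | succ n ih =>
    intro X Y x
    let I : InjectivePresentation Y := Classical.arbitrary _
    let S := ShortComplex.mk _ _ (cokernel.condition I.f)
    have hS : S.ShortExact := { exact := ShortComplex.exact_cokernel I.f }
    haveI : Injective S.X₂ := I.injective
    obtain ⟨x₃, rfl⟩ := Ext.covariant_sequence_exact₁ X hS x (Ext.eq_zero_of_injective _)
      (rfl : n + 1 = n + 1)
    have hnat : (hS.map_of_exact G).extClass.comp (Ext.mk₀ (τ.app S.X₁)) (add_zero 1) =
        (Ext.mk₀ (τ.app S.X₃)).comp (hS.map_of_exact G').extClass (zero_add 1) :=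
      ShortComplex.ShortExact.extClass_naturality (hS.map_of_exact G) (hS.map_of_exact G')
        (S.mapNatTrans τ)
    have e1 := Ext.comp_assoc_of_third_deg_zero (x₃.mapExactFunctor G)
      (hS.map_of_exact G).extClass (Ext.mk₀ (τ.app S.X₁)) (rfl : n + 1 = n + 1)
    have e2 := Ext.comp_assoc_of_second_deg_zero (x₃.mapExactFunctor G)
      (Ext.mk₀ (τ.app S.X₃)) (hS.map_of_exact G').extClass (rfl : n + 1 = n + 1)
    have e3 := Ext.comp_assoc (Ext.mk₀ (τ.app X)) (x₃.mapExactFunctor G')
      (hS.map_of_exact G').extClass (zero_add n) (rfl : n + 1 = n + 1)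
      (by lia : 0 + n + 1 = n + 1)
    rw [Ext.mapExactFunctor_comp, Ext.mapExactFunctor_comp, Ext.mapExactFunctor_extClass,
      Ext.mapExactFunctor_extClass]
    exact e1.trans ((congrArg (fun z => (x₃.mapExactFunctor G).comp z (rfl : n + 1 = n + 1))
      hnat).trans (e2.symm.trans ((congrArg (fun z => z.comp (hS.map_of_exact G').extClass
        (rfl : n + 1 = n + 1)) (ih x₃)).trans e3)))

end Nat

section Comp

variable {E : Type u''} [Category.{v''} E] [Abelian E] [HasExt.{w''} E]
  (F : C ⥤ D) (F' : D ⥤ E) [F.Additive] [F'.Additive] [PreservesFiniteLimits F]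
  [PreservesFiniteColimits F] [PreservesFiniteLimits F'] [PreservesFiniteColimits F']

theorem mapExactFunctor_comp_functor : ∀ (n : ℕ) {X Y : C} (x : Ext.{w} X Y n),
    (x.mapExactFunctor (F ⋙ F') : Ext.{w''} (F'.obj (F.obj X)) (F'.obj (F.obj Y)) n) =
      (x.mapExactFunctor F).mapExactFunctor F' := by
  intro n
  induction n with
  | zero =>
    intro X Y x
    obtain ⟨f, rfl⟩ := (Ext.mk₀_bijective X Y).2 x
    rw [Ext.mapExactFunctor_mk₀, Ext.mapExactFunctor_mk₀, Ext.mapExactFunctor_mk₀]
    rfl
  | succ n ih =>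
    intro X Y x
    let I : InjectivePresentation Y := Classical.arbitrary _
    let S := ShortComplex.mk _ _ (cokernel.condition I.f)
    have hS : S.ShortExact := { exact := ShortComplex.exact_cokernel I.f }
    haveI : Injective S.X₂ := I.injective
    obtain ⟨x₃, rfl⟩ := Ext.covariant_sequence_exact₁ X hS x (Ext.eq_zero_of_injective _)
      (rfl : n + 1 = n + 1)
    rw [Ext.mapExactFunctor_comp, Ext.mapExactFunctor_comp, Ext.mapExactFunctor_comp,
      Ext.mapExactFunctor_extClass, Ext.mapExactFunctor_extClass, ih x₃]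
    have h : (hS.map_of_exact (F ⋙ F')).extClass =
        Ext.mapExactFunctor F' (hS.map_of_exact F).extClass :=
      (Ext.mapExactFunctor_extClass F' (hS.map_of_exact F)).symm
    exact congrArg (fun z => ((x₃.mapExactFunctor F).mapExactFunctor F').comp z
      (rfl : n + 1 = n + 1)) h

end Comp

section Id

theorem mapExactFunctor_id : ∀ (n : ℕ) {X Y : C} (x : Ext.{w} X Y n),
    (x.mapExactFunctor (𝟭 C) : Ext.{w} X Y n) = x := by
  intro n
  induction n with
  | zero =>
    intro X Y x
    obtain ⟨f, rfl⟩ := (Ext.mk₀_bijective X Y).2 x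
    rw [Ext.mapExactFunctor_mk₀]
    rfl
  | succ n ih =>
    intro X Y x
    let I : InjectivePresentation Y := Classical.arbitrary _
    let S := ShortComplex.mk _ _ (cokernel.condition I.f)
    have hS : S.ShortExact := { exact := ShortComplex.exact_cokernel I.f }
    haveI : Injective S.X₂ := I.injective
    obtain ⟨x₃, rfl⟩ := Ext.covariant_sequence_exact₁ X hS x (Ext.eq_zero_of_injective _)
      (rfl : n + 1 = n + 1)
    rw [Ext.mapExactFunctor_comp, Ext.mapExactFunctor_extClass, ih x₃]
    rfl

end Id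

end Groth.Agent.H23.ExtNat
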