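import Mathlib

/-!
# Realizing morphisms `Q ⟶ F⟦1⟧` between single objects of the derived category by short exact
sequences
-/

set_option autoImplicit false
universe w v u
open CategoryTheory CategoryTheory.Limits CategoryTheory.Pretriangulated DerivedCategory

namespace Groth.Agent.H23.ExtRealize

variable {C : Type u} [Category.{v} C] [Abelian C] [HasDerivedCategory.{w} C]

/-- A distinguished triangle of objects in degree `0` comes from a short exact sequence. -/
lemma shortExact_of_distTriang {F X Q : C} (i : F ⟶ X) (π : X ⟶ Q)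
    (δ : (singleFunctor C 0).obj Q ⟶ ((singleFunctor C 0).obj F)⟦(1 : ℤ)⟧)
    (hT : Triangle.mk ((singleFunctor C 0).map i) ((singleFunctor C 0).map π) δ ∈
      distTriang (DerivedCategory C)) :
    ∃ w : i ≫ π = 0, (ShortComplex.mk i π w).ShortExact := by
  have w : i ≫ π = 0 := by
    apply (singleFunctor C 0).map_injective
    rw [CategoryTheory.Functor.map_comp, CategoryTheory.Functor.map_zero]
    exact comp_distTriang_mor_zero₁₂ _ hT
  refine ⟨w, ?_⟩
  obtain ⟨T, hTdef⟩ : ∃ T : Triangle (DerivedCategory C),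
    T = Triangle.mk ((singleFunctor C 0).map i) ((singleFunctor C 0).map π) δ := ⟨_, rfl⟩
  have ex := HomologySequence.exact₂ _ hT 0
  have hm : Mono ((homologyFunctor C 0).map ((singleFunctor C 0).map i)) :=
    (HomologySequence.mono_homologyMap_mor₁_iff _ hT (-1) 0 (by lia)).2
      ((isZero_of_isGE ((singleFunctor C 0).obj Q) 0 (-1) (by lia)).eq_of_src _ _)
  have he : Epi ((homologyFunctor C 0).map ((singleFunctor C 0).map π)) :=
    (HomologySequence.epi_homologyMap_mor₂_iff _ hT 0 1 (by lia)).2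
      ((isZero_of_isLE ((singleFunctor C 0).obj F) 0 1 (by lia)).eq_of_tgt _ _)
  have hS₁ : ((ShortComplex.mk i π w).map
      (singleFunctor C 0 ⋙ homologyFunctor C 0)).ShortExact :=
    ShortComplex.ShortExact.mk' ex hm he
  exact ShortComplex.shortExact_of_iso
    ((ShortComplex.mk i π w).mapNatIso (singleFunctorCompHomologyFunctorIso C 0)) hS₁

/-- Every morphism `Q ⟶ F⟦1⟧` between single objects is the third map of a distinguished
triangle of single objects. -/
lemma exists_triangle {F Q : C}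
    (ξ : (singleFunctor C 0).obj Q ⟶ ((singleFunctor C 0).obj F)⟦(1 : ℤ)⟧) :
    ∃ (X : C) (i : F ⟶ X) (π : X ⟶ Q),
      Triangle.mk ((singleFunctor C 0).map i) ((singleFunctor C 0).map π) ξ ∈
        distTriang (DerivedCategory C) := by
  obtain ⟨X', i', π', hT⟩ := distinguished_cocone_triangle₂ ξ
  have hGE : X'.IsGE 0 := DerivedCategory.TStructure.t.isGE₂ _ hT 0
    (show ((singleFunctor C 0).obj F).IsGE 0 from inferInstance)
    (show ((singleFunctor C 0).obj Q).IsGE 0 from inferInstance)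
  have hLE : X'.IsLE 0 := DerivedCategory.TStructure.t.isLE₂ _ hT 0
    (show ((singleFunctor C 0).obj F).IsLE 0 from inferInstance)
    (show ((singleFunctor C 0).obj Q).IsLE 0 from inferInstance)
  obtain ⟨X, ⟨e⟩⟩ := exists_iso_singleFunctor_obj_of_isGE_of_isLE X' 0
  obtain ⟨i, hi⟩ := (singleFunctor C 0).map_surjective (i' ≫ e.hom)
  obtain ⟨π, hπ⟩ := (singleFunctor C 0).map_surjective (e.inv ≫ π')
  refine ⟨X, i, π, isomorphic_distinguished _ hT _ ?_⟩
  exact Triangle.isoMk _ _ (Iso.refl _) e.symm (Iso.refl _)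
    (by
      show (singleFunctor C 0).map i ≫ e.inv = 𝟙 _ ≫ i'
      rw [hi, Category.assoc, e.hom_inv_id, Category.comp_id, Category.id_comp])
    (by
      show (singleFunctor C 0).map π ≫ 𝟙 _ = e.inv ≫ π'
      rw [hπ, Category.comp_id])
    (by
      show ξ ≫ (𝟙 ((singleFunctor C 0).obj F))⟦(1 : ℤ)⟧' = 𝟙 _ ≫ ξ
      rw [CategoryTheory.Functor.map_id, Category.comp_id, Category.id_comp])

/-- Every morphism `Q ⟶ F⟦1⟧` between single objects is the connecting map of a short exact
sequence `0 ⟶ F ⟶ X ⟶ Q ⟶ 0`. -/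
lemma exists_shortExact {F Q : C}
    (ξ : (singleFunctor C 0).obj Q ⟶ ((singleFunctor C 0).obj F)⟦(1 : ℤ)⟧) :
    ∃ (X : C) (i : F ⟶ X) (π : X ⟶ Q) (w : i ≫ π = 0),
      (ShortComplex.mk i π w).ShortExact ∧
      Triangle.mk ((singleFunctor C 0).map i) ((singleFunctor C 0).map π) ξ ∈
        distTriang (DerivedCategory C) := by
  obtain ⟨X, i, π, hT⟩ := exists_triangle ξ
  obtain ⟨w, hS⟩ := shortExact_of_distTriang i π ξ hT
  exact ⟨X, i, π, w, hS, hT⟩

/-- Two distinguished triangles of single objects with the same first two maps (the second one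
being induced by an epimorphism) have the same third map. -/
lemma mor₃_unique {F X Q : C} (i : F ⟶ X) (π : X ⟶ Q) [Epi π]
    (δ₁ δ₂ : (singleFunctor C 0).obj Q ⟶ ((singleFunctor C 0).obj F)⟦(1 : ℤ)⟧)
    (h₁ : Triangle.mk ((singleFunctor C 0).map i) ((singleFunctor C 0).map π) δ₁ ∈
      distTriang (DerivedCategory C))
    (h₂ : Triangle.mk ((singleFunctor C 0).map i) ((singleFunctor C 0).map π) δ₂ ∈
      distTriang (DerivedCategory C)) : δ₁ = δ₂ := by
  obtain ⟨c, hc₁, hc₂⟩ : ∃ c : (singleFunctor C 0).obj Q ⟶ (singleFunctor C 0).obj Q,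
      (singleFunctor C 0).map π ≫ c = 𝟙 _ ≫ (singleFunctor C 0).map π ∧
      δ₁ ≫ (𝟙 ((singleFunctor C 0).obj F))⟦(1 : ℤ)⟧' = c ≫ δ₂ :=
    complete_distinguished_triangle_morphism _ _ h₁ h₂ (𝟙 _) (𝟙 _)
      (by
        show (singleFunctor C 0).map i ≫ 𝟙 _ = 𝟙 _ ≫ (singleFunctor C 0).map i
        rw [Category.comp_id, Category.id_comp])
  obtain ⟨c₀, rfl⟩ := (singleFunctor C 0).map_surjective c
  have hc₀ : c₀ = 𝟙 Q := by
    rw [← cancel_epi π, Category.comp_id]
    apply (singleFunctor C 0).map_injective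
    rw [CategoryTheory.Functor.map_comp, hc₁, Category.id_comp]
  rw [hc₀, CategoryTheory.Functor.map_id, CategoryTheory.Functor.map_id, Category.comp_id,
    Category.id_comp] at hc₂
  exact hc₂

end Groth.Agent.H23.ExtRealize

namespace Groth.Agent.H23.ExtRealize

universe w'

/-- Every class in `Ext¹(Q, F)` is the class of a short exact sequence `0 ⟶ F ⟶ X ⟶ Q ⟶ 0`. -/
theorem exists_extClass_eq {C : Type u} [Category.{v} C] [Abelian C] [HasExt.{w'} C] {F Q : C}
    (e : Abelian.Ext.{w'} Q F 1) :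
    ∃ (X : C) (i : F ⟶ X) (p : X ⟶ Q) (hip : i ≫ p = 0)
      (hS : (ShortComplex.mk i p hip).ShortExact), hS.extClass = e := by
  letI := HasDerivedCategory.standard C
  obtain ⟨X, i, p, hip, hS, hT⟩ := exists_shortExact (C := C) e.hom
  refine ⟨X, i, p, hip, hS, ?_⟩
  have : Epi p := hS.epi_g
  apply Abelian.Ext.ext
  rw [hS.extClass_hom]
  exact mor₃_unique i p _ _ hS.singleTriangle_distinguished hT

end Groth.Agent.H23.ExtRealize
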