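import Mathlib

/-!
# Dévissage for full faithfulness of a triangulated functor (helper23)
-/

open CategoryTheory CategoryTheory.Limits CategoryTheory.Pretriangulated

namespace Groth.Agent.H23.FF

variable {𝒯 : Type*} [Category 𝒯] [Preadditive 𝒯] [HasZeroObject 𝒯]
  [HasShift 𝒯 ℤ] [∀ n : ℤ, (shiftFunctor 𝒯 n).Additive] [Pretriangulated 𝒯]
  {D : Type*} [Category D] [Preadditive D] [HasZeroObject D] [HasShift D ℤ]
  [∀ n : ℤ, (shiftFunctor D n).Additive] [Pretriangulated D]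
  (G : 𝒯 ⥤ D)

/-- `G` induces a bijection `Hom(K, L) → Hom(G K, G L)` -/
def BijOn (K L : 𝒯) : Prop := Function.Bijective (fun f : K ⟶ L => G.map f)

lemma bijOn_of_iso {K K' L L' : 𝒯} (e : K ≅ K') (e' : L ≅ L') (h : BijOn G K L) :
    BijOn G K' L' := by
  constructor
  · intro f₁ f₂ hf
    dsimp only at hf
    have h1 : e.hom ≫ f₁ ≫ e'.inv = e.hom ≫ f₂ ≫ e'.inv := h.1 (by
      dsimp only
      rw [G.map_comp, G.map_comp, G.map_comp, G.map_comp, hf])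
    simpa using h1
  · intro b
    obtain ⟨f, hf⟩ := h.2 (G.map e.hom ≫ b ≫ G.map e'.inv)
    refine ⟨e.inv ≫ f ≫ e'.hom, ?_⟩
    dsimp only at hf ⊢
    rw [G.map_comp, G.map_comp, hf]
    simp

section Shift

variable [G.CommShift ℤ]

lemma map_shift {K L : 𝒯} (m : ℤ) (f : K ⟶ L) :
    G.map (f⟦m⟧') = (G.commShiftIso m).hom.app K ≫ (G.map f)⟦m⟧' ≫
      (G.commShiftIso m).inv.app L := by
  have h1 : G.map (f⟦m⟧') ≫ (G.commShiftIso m).hom.app L =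
      (G.commShiftIso m).hom.app K ≫ (G.map f)⟦m⟧' := (G.commShiftIso m).hom.naturality f
  rw [← reassoc_of% h1, Iso.hom_inv_id_app]
  exact (Category.comp_id _).symm

lemma bijOn_shift {K L : 𝒯} (m : ℤ) (h : BijOn G K L) : BijOn G (K⟦m⟧) (L⟦m⟧) := by
  constructor
  · intro g₁ g₂ hg
    obtain ⟨f₁, rfl⟩ := (shiftFunctor 𝒯 m).map_surjective g₁
    obtain ⟨f₂, rfl⟩ := (shiftFunctor 𝒯 m).map_surjective g₂
    dsimp only at hg
    rw [map_shift, map_shift] at hg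
    have h2 : (G.map f₁)⟦m⟧' = (G.map f₂)⟦m⟧' := by
      rw [← cancel_epi ((G.commShiftIso m).hom.app K),
        ← cancel_mono ((G.commShiftIso m).inv.app L)]
      simpa using hg
    rw [h.1 ((shiftFunctor D m).map_injective h2)]
  · intro b
    obtain ⟨c, hc⟩ := (shiftFunctor D m).map_surjective (X := G.obj K) (Y := G.obj L)
      ((G.commShiftIso m).inv.app K ≫ b ≫ (G.commShiftIso m).hom.app L)
    obtain ⟨f, hf⟩ := h.2 c
    refine ⟨f⟦m⟧', ?_⟩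
    dsimp only at hf ⊢
    rw [map_shift, hf, hc]
    simp

variable [G.IsTriangulated]

lemma five₁ (T : Triangle 𝒯) (hT : T ∈ distTriang 𝒯) (L : 𝒯)
    (h₁ : BijOn G T.obj₁ L) (h₃ : BijOn G T.obj₃ L)
    (h₁' : BijOn G (T.obj₁⟦(1 : ℤ)⟧) L) (h₃' : BijOn G (T.obj₃⟦(-1 : ℤ)⟧) L) :
    BijOn G T.obj₂ L := by
  have hGT := G.map_distinguished _ hT
  have hGTr := G.map_distinguished _ (rot_of_distTriang _ hT)
  constructor
  · -- injectivity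
    suffices H : ∀ x : T.obj₂ ⟶ L, G.map x = 0 → x = 0 by
      intro x₁ x₂ hx
      dsimp only at hx
      rw [← sub_eq_zero]
      apply H
      rw [G.map_sub, hx, sub_self]
    intro x hx
    have h1 : T.mor₁ ≫ x = 0 := h₁.1 (by
      dsimp only
      rw [G.map_comp, hx, comp_zero, G.map_zero])
    obtain ⟨y, hy⟩ := Triangle.yoneda_exact₂ T hT x h1
    have h2 : G.map T.mor₂ ≫ G.map y = 0 := by rw [← G.map_comp, ← hy, hx]
    obtain ⟨z, hz⟩ : ∃ z : G.obj (T.obj₁⟦(1 : ℤ)⟧) ⟶ G.obj L, G.map y = G.map T.mor₃ ≫ z :=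
      Triangle.yoneda_exact₂ _ hGTr (G.map y) h2
    obtain ⟨w, hw⟩ := h₁'.2 z
    dsimp only at hw
    have h3 : y = T.mor₃ ≫ w := h₃.1 (by
      dsimp only
      rw [hz, G.map_comp, hw])
    rw [hy, h3, comp_distTriang_mor_zero₂₃_assoc _ hT, zero_comp]
  · -- surjectivity
    intro b
    obtain ⟨a₄, ha₄⟩ := h₁.2 (G.map T.mor₁ ≫ b)
    dsimp only at ha₄
    have hinv := inv_rot_of_distTriang _ hT
    obtain ⟨ι₀, hz, hex⟩ : ∃ ι₀ : T.obj₃⟦(-1 : ℤ)⟧ ⟶ T.obj₁, ι₀ ≫ T.mor₁ = 0 ∧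
        ∀ a₄ : T.obj₁ ⟶ L, ι₀ ≫ a₄ = 0 → ∃ a₃ : T.obj₂ ⟶ L, a₄ = T.mor₁ ≫ a₃ :=
      ⟨T.invRotate.mor₁, comp_distTriang_mor_zero₁₂ _ hinv,
        fun a₄ h => Triangle.yoneda_exact₂ _ hinv a₄ h⟩
    have h1 : ι₀ ≫ a₄ = 0 := h₃'.1 (by
      dsimp only
      rw [G.map_comp, ha₄, ← G.map_comp_assoc, hz, G.map_zero, zero_comp, G.map_zero])
    obtain ⟨a₃, ha₃⟩ := hex a₄ h1
    have h2 : G.map T.mor₁ ≫ (b - G.map a₃) = 0 := by
      rw [Preadditive.comp_sub, ← G.map_comp, ← ha₃, ha₄, sub_self]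
    obtain ⟨c, hc⟩ : ∃ c : G.obj T.obj₃ ⟶ G.obj L, b - G.map a₃ = G.map T.mor₂ ≫ c :=
      Triangle.yoneda_exact₂ _ hGT _ h2
    obtain ⟨a₂, ha₂⟩ := h₃.2 c
    dsimp only at ha₂
    refine ⟨a₃ + T.mor₂ ≫ a₂, ?_⟩
    dsimp only
    rw [G.map_add, G.map_comp, ha₂, ← hc]
    abel

lemma five₂ (T : Triangle 𝒯) (hT : T ∈ distTriang 𝒯) (K : 𝒯)
    (h₁ : BijOn G K T.obj₁) (h₃ : BijOn G K T.obj₃)
    (h₁' : BijOn G K (T.obj₁⟦(1 : ℤ)⟧)) (h₃' : BijOn G K (T.obj₃⟦(-1 : ℤ)⟧)) :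
    BijOn G K T.obj₂ := by
  have hGT := G.map_distinguished _ hT
  have hinv := inv_rot_of_distTriang _ hT
  have hGTi := G.map_distinguished _ hinv
  constructor
  · suffices H : ∀ x : K ⟶ T.obj₂, G.map x = 0 → x = 0 by
      intro x₁ x₂ hx
      dsimp only at hx
      rw [← sub_eq_zero]
      apply H
      rw [G.map_sub, hx, sub_self]
    intro x hx
    have h1 : x ≫ T.mor₂ = 0 := h₃.1 (by
      dsimp only
      rw [G.map_comp, hx, zero_comp, G.map_zero])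
    obtain ⟨y, hy⟩ := Triangle.coyoneda_exact₂ T hT x h1
    have h2 : G.map y ≫ G.map T.mor₁ = 0 := by rw [← G.map_comp, ← hy, hx]
    obtain ⟨ι₀, hz', hex⟩ : ∃ ι₀ : T.obj₃⟦(-1 : ℤ)⟧ ⟶ T.obj₁, ι₀ ≫ T.mor₁ = 0 ∧
        ∀ y' : G.obj K ⟶ G.obj T.obj₁, y' ≫ G.map T.mor₁ = 0 →
          ∃ z : G.obj K ⟶ G.obj (T.obj₃⟦(-1 : ℤ)⟧), y' = z ≫ G.map ι₀ :=
      ⟨T.invRotate.mor₁, comp_distTriang_mor_zero₁₂ _ hinv,
        fun y' h => Triangle.coyoneda_exact₂ _ hGTi y' h⟩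
    obtain ⟨z, hz⟩ := hex (G.map y) h2
    obtain ⟨w, hw⟩ := h₃'.2 z
    dsimp only at hw
    have h3 : y = w ≫ ι₀ := h₁.1 (by
      dsimp only
      rw [hz, G.map_comp, hw])
    rw [hy, h3, Category.assoc, hz', comp_zero]
  · intro b
    obtain ⟨a₄, ha₄⟩ := h₃.2 (b ≫ G.map T.mor₂)
    dsimp only at ha₄
    have h1 : a₄ ≫ T.mor₃ = 0 := h₁'.1 (by
      dsimp only
      rw [G.map_comp, ha₄, Category.assoc, ← G.map_comp, comp_distTriang_mor_zero₂₃ _ hT,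
        G.map_zero, comp_zero, G.map_zero])
    obtain ⟨a₃, ha₃⟩ := Triangle.coyoneda_exact₃ T hT a₄ h1
    have h2 : (b - G.map a₃) ≫ G.map T.mor₂ = 0 := by
      rw [Preadditive.sub_comp, ← G.map_comp, ← ha₃, ha₄, sub_self]
    obtain ⟨c, hc⟩ : ∃ c : G.obj K ⟶ G.obj T.obj₁, b - G.map a₃ = c ≫ G.map T.mor₁ :=
      Triangle.coyoneda_exact₂ _ hGT _ h2
    obtain ⟨a₂, ha₂⟩ := h₁.2 c
    dsimp only at ha₂
    refine ⟨a₃ + a₂ ≫ T.mor₁, ?_⟩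
    dsimp only
    rw [G.map_add, G.map_comp, ha₂, ← hc]
    abel

/-- bijectivity on all shifts -/
def Good (K L : 𝒯) : Prop := ∀ a b : ℤ, BijOn G (K⟦a⟧) (L⟦b⟧)

omit [G.CommShift ℤ] [G.IsTriangulated] in
lemma good_of_iso {K K' L L' : 𝒯} (e : K ≅ K') (e' : L ≅ L') (h : Good G K L) :
    Good G K' L' := fun a b =>
  bijOn_of_iso G ((shiftFunctor 𝒯 a).mapIso e) ((shiftFunctor 𝒯 b).mapIso e') (h a b)

omit [G.CommShift ℤ] [G.IsTriangulated] in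
lemma good_shift_left {K L : 𝒯} (m : ℤ) (h : Good G K L) : Good G (K⟦m⟧) L := fun a b =>
  bijOn_of_iso G ((shiftFunctorAdd' 𝒯 m a (m + a) rfl).app K) (Iso.refl _) (h (m + a) b)

omit [G.CommShift ℤ] [G.IsTriangulated] in
lemma good_shift_right {K L : 𝒯} (m : ℤ) (h : Good G K L) : Good G K (L⟦m⟧) := fun a b =>
  bijOn_of_iso G (Iso.refl _) ((shiftFunctorAdd' 𝒯 m b (m + b) rfl).app L) (h a (m + b))

lemma good_ext_left (T : Triangle 𝒯) (hT : T ∈ distTriang 𝒯) (L : 𝒯)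
    (h₁ : Good G T.obj₁ L) (h₃ : Good G T.obj₃ L) : Good G T.obj₂ L := fun a b =>
  five₁ G _ (Triangle.shift_distinguished T hT a) (L⟦b⟧) (h₁ a b) (h₃ a b)
    (good_shift_left G a h₁ 1 b) (good_shift_left G a h₃ (-1) b)

lemma good_ext_right (T : Triangle 𝒯) (hT : T ∈ distTriang 𝒯) (K : 𝒯)
    (h₁ : Good G K T.obj₁) (h₃ : Good G K T.obj₃) : Good G K T.obj₂ := fun a b =>
  five₂ G _ (Triangle.shift_distinguished T hT b) (K⟦a⟧) (h₁ a b) (h₃ a b)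
    (good_shift_right G b h₁ a 1) (good_shift_right G b h₃ a (-1))

omit [G.CommShift ℤ] [G.IsTriangulated] in
lemma bijOn_of_good {K L : 𝒯} (h : Good G K L) : BijOn G K L :=
  bijOn_of_iso G ((shiftFunctorZero 𝒯 ℤ).app K) ((shiftFunctorZero 𝒯 ℤ).app L) (h 0 0)

end Shift

end Groth.Agent.H23.FF
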