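import Mathlib.RingTheory.Flat.FaithfullyFlat.Basic
import Mathlib.RingTheory.Flat.FaithfullyFlat.Algebra

/-! Helper: flatness descends along a faithfully flat ring map on the source side of a tower. -/

open TensorProduct

namespace Groth.Agent.H23

universe u

/-- If `A → B → C` with `C` faithfully flat over `B` and `C` flat over `A`, then `B` is flat
over `A`. -/
theorem flat_of_flat_of_faithfullyFlat_tower (A B C : Type u) [CommRing A] [CommRing B] [CommRing C]
    [Algebra A B] [Algebra B C] [Algebra A C] [IsScalarTower A B C]
    [Module.FaithfullyFlat B C] [Module.Flat A C] : Module.Flat A B := by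
  rw [Module.Flat.iff_lTensor_preserves_injective_linearMap]
  intro N P _ _ _ _ f hf
  have h1 : Function.Injective (f.baseChange B) := by
    rw [← Module.FaithfullyFlat.lTensor_injective_iff_injective B C (f.baseChange B)]
    have hcomm : ∀ x : C ⊗[B] (B ⊗[A] N),
        AlgebraTensorModule.cancelBaseChange A B B C P ((f.baseChange B).lTensor C x) =
          f.lTensor C (AlgebraTensorModule.cancelBaseChange A B B C N x) := by
      intro x
      induction x using TensorProduct.induction_on with
      | zero => simp
      | add x y hx hy => simp only [map_add, hx, hy]
      | tmul c y =>
        induction y using TensorProduct.induction_on with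
        | zero => simp
        | add y z hy hz => simp only [tmul_add, map_add, hy, hz]
        | tmul b n => simp
    intro x y hxy
    have h2 := congrArg (AlgebraTensorModule.cancelBaseChange A B B C P) hxy
    rw [hcomm, hcomm] at h2
    have h3 := Module.Flat.lTensor_preserves_injective_linearMap (M := C) f hf h2
    exact (AlgebraTensorModule.cancelBaseChange A B B C N).injective h3
  exact h1

end Groth.Agent.H23
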