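import Groth.Agent.H23.ExtNat

/-!
# Identity and composition laws for `HRes.pull` (helper23; S14708 / S14709)
-/

universe u

namespace Groth.Agent.H23.HResLaws

open CategoryTheory Limits AlgebraicGeometry Opposite Abelian

variable (K : Precoverage Scheme.{u})

theorem pullConst_id (S : Scheme.{u}) (M : AddCommGrpCat.{u + 1}) :
    (HRes.pullConst K (𝟙 S) M).inv ≫
      (K.toGrothendieck.overMapPullbackId AddCommGrpCat.{u + 1} S).hom.app
        ((constantSheaf (QuotSh.J K S) AddCommGrpCat.{u + 1}).obj M) = 𝟙 _ := by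
  apply Sheaf.hom_ext
  refine sheafify_hom_ext (QuotSh.J K S) _ _
    ((constantSheaf (QuotSh.J K S) AddCommGrpCat.{u + 1}).obj M).property ?_
  have h1 := Functor.toSheafify_pullbackSheafificationCompatibility (Over.map (𝟙 S))
    AddCommGrpCat.{u + 1} (QuotSh.J K S) (QuotSh.J K S) ((Functor.const _).obj M)
  have h2 : toSheafify (QuotSh.J K S) ((Functor.const (Over S)ᵒᵖ).obj M) ≫
      ((HRes.pullConst K (𝟙 S) M).inv ≫
          (K.toGrothendieck.overMapPullbackId AddCommGrpCat.{u + 1} S).hom.app
            ((constantSheaf (QuotSh.J K S) AddCommGrpCat.{u + 1}).obj M)).hom =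
      (toSheafify (QuotSh.J K S) ((Over.map (𝟙 S)).op ⋙ (Functor.const (Over S)ᵒᵖ).obj M) ≫
      (((Over.map (𝟙 S)).pushforwardContinuousSheafificationCompatibility AddCommGrpCat.{u + 1}
        (QuotSh.J K S) (QuotSh.J K S)).hom.app ((Functor.const (Over S)ᵒᵖ).obj M)).hom) ≫
        ((K.toGrothendieck.overMapPullbackId AddCommGrpCat.{u + 1} S).hom.app
            ((constantSheaf (QuotSh.J K S) AddCommGrpCat.{u + 1}).obj M)).hom :=
    (Category.assoc _ _ _).symm
  rw [h2, h1]
  apply NatTrans.ext
  funext U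
  have h4 := (toSheafify (QuotSh.J K S) ((Functor.const (Over S)ᵒᵖ).obj M)).naturality
    ((Over.mapId S).inv.app U.unop).op
  have h5 := GrothendieckTopology.overMapPullbackId_hom_app_hom_app K.toGrothendieck
    AddCommGrpCat.{u + 1} S ((constantSheaf (QuotSh.J K S) AddCommGrpCat.{u + 1}).obj M) U
  change (toSheafify (QuotSh.J K S) ((Functor.const (Over S)ᵒᵖ).obj M)).app _ ≫
    ((K.toGrothendieck.overMapPullbackId AddCommGrpCat.{u + 1} S).hom.app
      ((constantSheaf (QuotSh.J K S) AddCommGrpCat.{u + 1}).obj M)).hom.app U =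
    (toSheafify (QuotSh.J K S) ((Functor.const (Over S)ᵒᵖ).obj M)).app U ≫ 𝟙 _
  rw [h5, Category.comp_id]
  refine h4.symm.trans ?_
  exact Category.id_comp _

theorem pullConst_comp {S T T' : Scheme.{u}} (f : T ⟶ S) (g : T' ⟶ T) (M : AddCommGrpCat.{u + 1}) :
    (HRes.pullConst K g M).inv ≫
      (BigSite.pullBig K g AddCommGrpCat.{u + 1}).map (HRes.pullConst K f M).inv ≫
      (K.toGrothendieck.overMapPullbackComp AddCommGrpCat.{u + 1} g f).hom.app
        ((constantSheaf (QuotSh.J K S) AddCommGrpCat.{u + 1}).obj M) =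
      (HRes.pullConst K (g ≫ f) M).inv := by
  apply Sheaf.hom_ext
  refine sheafify_hom_ext (QuotSh.J K T') _ _
    ((BigSite.pullBig K (g ≫ f) AddCommGrpCat.{u + 1}).obj
      ((constantSheaf (QuotSh.J K S) AddCommGrpCat.{u + 1}).obj M)).property ?_
  have hg := Functor.toSheafify_pullbackSheafificationCompatibility (Over.map g)
    AddCommGrpCat.{u + 1} (QuotSh.J K T') (QuotSh.J K T) ((Functor.const _).obj M)
  have hf := Functor.toSheafify_pullbackSheafificationCompatibility (Over.map f)
    AddCommGrpCat.{u + 1} (QuotSh.J K T) (QuotSh.J K S) ((Functor.const _).obj M)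
  have hgf := Functor.toSheafify_pullbackSheafificationCompatibility (Over.map (g ≫ f))
    AddCommGrpCat.{u + 1} (QuotSh.J K T') (QuotSh.J K S) ((Functor.const _).obj M)
  apply NatTrans.ext
  funext U
  have hgU := congrArg (fun η => η.app U) hg
  have hfU := congrArg (fun η => η.app (op ((Over.map g).obj U.unop))) hf
  have hgfU := congrArg (fun η => η.app U) hgf
  have h5 := GrothendieckTopology.overMapPullbackComp_hom_app_hom_app K.toGrothendieck
    AddCommGrpCat.{u + 1} g f ((constantSheaf (QuotSh.J K S) AddCommGrpCat.{u + 1}).obj M) U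
  have hgU' : (toSheafify (QuotSh.J K T')
        ((Over.map g).op ⋙ (Functor.const (Over T)ᵒᵖ).obj M)).app U ≫
      (((Over.map g).pushforwardContinuousSheafificationCompatibility AddCommGrpCat.{u + 1}
        (QuotSh.J K T') (QuotSh.J K T)).hom.app ((Functor.const (Over T)ᵒᵖ).obj M)).hom.app U =
      (toSheafify (QuotSh.J K T) ((Over.map f).op ⋙ (Functor.const (Over S)ᵒᵖ).obj M)).app
        (op ((Over.map g).obj (unop U))) := hgU
  have hfU' : (toSheafify (QuotSh.J K T)
        ((Over.map f).op ⋙ (Functor.const (Over S)ᵒᵖ).obj M)).app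
          (op ((Over.map g).obj (unop U))) ≫
      (((Over.map f).pushforwardContinuousSheafificationCompatibility AddCommGrpCat.{u + 1}
        (QuotSh.J K T) (QuotSh.J K S)).hom.app ((Functor.const (Over S)ᵒᵖ).obj M)).hom.app
          (op ((Over.map g).obj (unop U))) =
      (toSheafify (QuotSh.J K S) ((Functor.const (Over S)ᵒᵖ).obj M)).app
        (op ((Over.map f).obj ((Over.map g).obj (unop U)))) := hfU
  have hgfU' : (toSheafify (QuotSh.J K T')
        ((Over.map (g ≫ f)).op ⋙ (Functor.const (Over S)ᵒᵖ).obj M)).app U ≫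
      (((Over.map (g ≫ f)).pushforwardContinuousSheafificationCompatibility AddCommGrpCat.{u + 1}
        (QuotSh.J K T') (QuotSh.J K S)).hom.app ((Functor.const (Over S)ᵒᵖ).obj M)).hom.app U =
      (toSheafify (QuotSh.J K S) ((Functor.const (Over S)ᵒᵖ).obj M)).app
        (op ((Over.map (g ≫ f)).obj (unop U))) := hgfU
  have nat := (toSheafify (QuotSh.J K S) ((Functor.const (Over S)ᵒᵖ).obj M)).naturality
    ((Over.mapComp g f).hom.app (unop U)).op
  have key : (toSheafify (QuotSh.J K T')
        ((Over.map g).op ⋙ (Functor.const (Over T)ᵒᵖ).obj M)).app U ≫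
      ((((Over.map g).pushforwardContinuousSheafificationCompatibility AddCommGrpCat.{u + 1}
        (QuotSh.J K T') (QuotSh.J K T)).hom.app ((Functor.const (Over T)ᵒᵖ).obj M)).hom.app U ≫
      ((((Over.map f).pushforwardContinuousSheafificationCompatibility AddCommGrpCat.{u + 1}
        (QuotSh.J K T) (QuotSh.J K S)).hom.app ((Functor.const (Over S)ᵒᵖ).obj M)).hom.app
          (op ((Over.map g).obj (unop U))) ≫
      ((K.toGrothendieck.overMapPullbackComp AddCommGrpCat.{u + 1} g f).hom.app
            ((constantSheaf (QuotSh.J K S) AddCommGrpCat.{u + 1}).obj M)).hom.app U)) =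
      (toSheafify (QuotSh.J K T')
        ((Over.map (g ≫ f)).op ⋙ (Functor.const (Over S)ᵒᵖ).obj M)).app U ≫
      (((Over.map (g ≫ f)).pushforwardContinuousSheafificationCompatibility AddCommGrpCat.{u + 1}
        (QuotSh.J K T') (QuotSh.J K S)).hom.app ((Functor.const (Over S)ᵒᵖ).obj M)).hom.app U := by
    rw [h5, reassoc_of% hgU']
    erw [reassoc_of% hfU']
    erw [hgfU']
    exact nat.symm.trans (Category.id_comp _)
  exact key

end Groth.Agent.H23.HResLaws
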