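import Mathlib

set_option autoImplicit false

/-! helper23: factorisation lemma with exact bounds for bounded below cochain complexes -/

open CategoryTheory Limits HomologicalComplex CochainComplex Abelian

universe v u

namespace Groth.Agent.H23.Horseshoe

variable {A : Type u} [Category.{v} A] [Abelian A]

/-- a complex with injective terms, strictly `≥ n`, containing `B` -/
lemma exists_mono_injective [EnoughInjectives A] (B : CochainComplex A ℤ) (n : ℤ)
    [B.IsStrictlyGE n] :
    ∃ (M : CochainComplex A ℤ) (m : B ⟶ M), Mono m ∧ M.IsStrictlyGE n ∧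
      ∀ k, Injective (M.X k) := by
  obtain ⟨L₀, j, hjmono, _, hL₀inj, _⟩ :=
    CochainComplex.Plus.modelCategoryQuillen.exists_mono_quasiIso_injective B (n - 1) n (by lia)
  have hlift : (ComplexShape.embeddingUpIntGE n).HasLift
      (HomologicalComplex.restrictionMap j (ComplexShape.embeddingUpIntGE n)) := by
    intro i hi i' hrel
    apply IsZero.eq_of_src
    refine B.isZero_of_isStrictlyGE n i' ?_
    rw [ComplexShape.boundaryGE_embeddingUpIntGE_iff] at hi
    subst hi
    simp at hrel
    lia
  have hex : ∀ k : ℤ, n ≤ k → ∃ i : ℕ, (ComplexShape.embeddingUpIntGE n).f i = k := by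
    intro k hk
    refine ⟨(k - n).toNat, ?_⟩
    simp
    lia
  refine ⟨(L₀.restriction (ComplexShape.embeddingUpIntGE n)).extend
      (ComplexShape.embeddingUpIntGE n),
    (ComplexShape.embeddingUpIntGE n).liftExtend
      (HomologicalComplex.restrictionMap j (ComplexShape.embeddingUpIntGE n)) hlift,
    ?_, inferInstance, ?_⟩
  · apply HomologicalComplex.mono_of_mono_f
    intro k
    by_cases hk : n ≤ k
    · obtain ⟨i, hi⟩ := hex k hk
      rw [(ComplexShape.embeddingUpIntGE n).mono_liftExtend_f_iff _ _ hi]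
      show Mono (j.f ((ComplexShape.embeddingUpIntGE n).f i))
      infer_instance
    · exact (B.isZero_of_isStrictlyGE n k (by lia)).mono _
  · intro k
    by_cases hk : n ≤ k
    · obtain ⟨i, hi⟩ := hex k hk
      exact Injective.of_iso ((L₀.restriction (ComplexShape.embeddingUpIntGE n)).extendXIso
        (ComplexShape.embeddingUpIntGE n) hi).symm
        (hL₀inj ((ComplexShape.embeddingUpIntGE n).f i))
    · apply IsZero.injective
      apply HomologicalComplex.isZero_extend_X
      intro i hi
      simp at hi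
      lia

/-- CM5a with exact bounds -/
lemma cm5a' [EnoughInjectives A] {K L : CochainComplex A ℤ} (f : K ⟶ L) (n : ℤ)
    [K.IsStrictlyGE n] [L.IsStrictlyGE n] :
    ∃ (K' : CochainComplex A ℤ) (_ : K'.IsStrictlyGE n) (ι : K ⟶ K') (π : K' ⟶ L),
      Mono ι ∧ QuasiIso ι ∧ degreewiseEpiWithInjectiveKernel π ∧ ι ≫ π = f := by
  obtain ⟨M, m, hm, hM, hMinj⟩ := exists_mono_injective K n
  have hML : (M ⊞ L).IsStrictlyGE n := by
    rw [isStrictlyGE_iff]
    intro i hi
    refine IsZero.of_iso ?_ ((HomologicalComplex.eval A (ComplexShape.up ℤ) i).mapBiprod _ _)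
    simp only [HomologicalComplex.eval_obj, biprod_isZero_iff]
    exact ⟨M.isZero_of_isStrictlyGE n i hi, L.isZero_of_isStrictlyGE n i hi⟩
  have : Mono (biprod.lift m f) := mono_of_mono_fac (biprod.lift_fst m f)
  obtain ⟨K', hK', ι, π, hι, hι', hπ, hfac⟩ :=
    CochainComplex.Plus.modelCategoryQuillen.cm5a_cof (biprod.lift m f) n
  refine ⟨K', hK', ι, π ≫ biprod.snd, hι, hι', ?_, ?_⟩
  · refine MorphismProperty.comp_mem _ _ _ hπ ?_
    intro k
    rw [epiWithInjectiveKernel_iff]
    refine ⟨M.X k, hMinj k, (biprod.inl : M ⟶ M ⊞ L).f k, ?_,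
      (biprod.fst : M ⊞ L ⟶ M).f k, (biprod.inr : L ⟶ M ⊞ L).f k, ?_, ?_, ?_⟩
    all_goals simp [← HomologicalComplex.comp_f, ← HomologicalComplex.add_f_apply]
  · rw [← Category.assoc, hfac, biprod.lift_snd]

end Groth.Agent.H23.Horseshoe
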