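import Groth.Agent.S12537

/-!
# Injective amplitude ⇔ bounded complex of injectives (enough injectives version)
Same proof as `Groth.Agent.S12537.result`, under `[EnoughInjectives C]`.
-/

set_option autoImplicit false
universe w' v u
open CategoryTheory CategoryTheory.Limits Groth.Agent.S12537

namespace Groth.Agent.H23.InjAmp

variable {C : Type u} [Category.{v} C] [Abelian C] [EnoughInjectives C] [HasDerivedCategory.{w'} C]

theorem amp_iff (X : DerivedCategory C) (a b : ℤ) (hab : a ≤ b) :
    (∀ (F : C) (i : ℤ), (i < a ∨ b < i) →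
        ∀ φ : (DerivedCategory.singleFunctor C 0).obj F ⟶ (shiftFunctor (DerivedCategory C) i).obj X, φ = 0) ↔
      ∃ I : CochainComplex C ℤ, (∀ i, Injective (I.X i)) ∧ (∀ i, (i < a ∨ b < i) → IsZero (I.X i)) ∧
        Nonempty (DerivedCategory.Q.obj I ≅ X) := by
  constructor
  · intro hyp
    let K := DerivedCategory.Q.objPreimage X
    have e₀ : DerivedCategory.Q.obj K ≅ X := DerivedCategory.Q.objObjPreimageIso X
    have hKGE : K.IsGE a := by
      rw [CochainComplex.isGE_iff]
      intro m hm
      rw [HomologicalComplex.exactAt_iff_isZero_homology]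
      refine IsZero.of_iso ?_ ((CochainComplex.ShiftSequence.shiftIso C m 0 m (by omega)).app K).symm
      exact isZero_homology_zero (K⟦m⟧)
        (fun F g => Qmap_eq_zero (fun F φ => hyp F m (Or.inl hm) φ) K e₀ F g)
    have hXGE : X.IsGE a := by
      have : (DerivedCategory.Q.obj K).IsGE a := inferInstance
      exact DerivedCategory.TStructure.t.isGE_of_iso e₀ a
    obtain ⟨K', hK', ⟨e₁⟩⟩ := DerivedCategory.exists_iso_Q_obj_of_isGE X a
    obtain ⟨I, i, hi, hI, hIGE⟩ :=
      CochainComplex.Plus.modelCategoryQuillen.exists_quasiIso_injective K' a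
    have := hI
    have : IsIso (DerivedCategory.Q.map i) := by
      rw [DerivedCategory.isIso_Q_map_iff_quasiIso]
      exact hi
    have e : DerivedCategory.Q.obj I ≅ X := (asIso (DerivedCategory.Q.map i)).symm ≪≫ e₁.symm
    have : I.IsKInjective := CochainComplex.isKInjective_of_injective I a
    have CB : ∀ (p q r : ℤ), p + 1 = q → q + 1 = r → (q < a ∨ b < q) → ∀ (F : C) (k : F ⟶ I.X q),
        k ≫ I.d q r = 0 → ∃ h : F ⟶ I.X p, h ≫ I.d p q = k := by
      intro p q r hpq hqr hq F k hk
      obtain ⟨m, rfl⟩ : ∃ m, q = 0 + m := ⟨q, by omega⟩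
      obtain rfl : p = -1 + m := by omega
      obtain rfl : r = 1 + m := by omega
      have hm : m < a ∨ b < m := by omega
      have hk' : k ≫ (m.negOnePow • I.d (0 + m) (1 + m)) = 0 := by
        rw [Linear.comp_units_smul, hk, smul_zero]
      obtain ⟨h', hh'⟩ : ∃ h' : F ⟶ I.X (-1 + m),
          h' ≫ (m.negOnePow • I.d (-1 + m) (0 + m)) = k :=
        exists_lift (I⟦m⟧) F k hk'
          (fun g => Qmap_eq_zero (fun F φ => hyp F m hm φ) I e F g)
      refine ⟨m.negOnePow • h', ?_⟩
      rw [Linear.comp_units_smul] at hh'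
      rw [Linear.units_smul_comp]
      exact hh'
    have hILE : I.IsLE b := by
      rw [CochainComplex.isLE_iff]
      intro j hj
      rw [I.exactAt_iff' (j - 1) j (j + 1) (by simp) (by simp)]
      rw [ShortComplex.exact_iff_exact_up_to_refinements]
      intro A x₂ hx₂
      obtain ⟨h, hh⟩ := CB (j - 1) j (j + 1) (by omega) rfl (Or.inr hj) A x₂ hx₂
      exact ⟨A, 𝟙 A, inferInstance, h, by rw [Category.id_comp]; exact hh.symm⟩
    have hcyc : Injective (I.cycles b) := by
      obtain ⟨h, hh⟩ := CB b (b + 1) (b + 1 + 1) rfl rfl (Or.inr (by omega)) (I.cycles (b + 1))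
        (I.iCycles (b + 1)) (I.iCycles_d (b + 1) (b + 1 + 1))
      let t := I.toCycles b (b + 1)
      have ht : t ≫ I.iCycles (b + 1) = I.d b (b + 1) := I.toCycles_i b (b + 1)
      have hit : I.iCycles b ≫ t = 0 := by
        rw [← cancel_mono (I.iCycles (b + 1)), Category.assoc, ht, zero_comp, I.iCycles_d]
      let r : I.X b ⟶ I.cycles b := I.liftCycles (𝟙 _ - t ≫ h) (b + 1) (by simp) (by
        rw [Preadditive.sub_comp, Category.id_comp, Category.assoc, hh, ht, sub_self])
      have hr : r ≫ I.iCycles b = 𝟙 _ - t ≫ h := I.liftCycles_i _ _ _ _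
      have hir : I.iCycles b ≫ r = 𝟙 _ := by
        rw [← cancel_mono (I.iCycles b), Category.assoc, hr, Preadditive.comp_sub,
          Category.comp_id, ← Category.assoc, hit, zero_comp, sub_zero, Category.id_comp]
      exact Retract.injective { i := I.iCycles b, r := r, retract := hir }
    have : IsIso (DerivedCategory.Q.map (I.ιTruncLE b)) := by
      rw [DerivedCategory.isIso_Q_map_iff_quasiIso]
      infer_instance
    refine ⟨I.truncLE b, ?_, ?_, ⟨asIso (DerivedCategory.Q.map (I.ιTruncLE b)) ≪≫ e⟩⟩
    · intro j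
      rcases lt_trichotomy j b with h | rfl | h
      · exact Injective.of_iso (I.truncLEXIso b j h).symm (hI j)
      · exact Injective.of_iso (I.truncLEXIsoCycles j).symm hcyc
      · exact ((I.truncLE b).isZero_of_isStrictlyLE b j h).injective
    · intro j hj
      rcases hj with hj | hj
      · exact IsZero.of_iso (I.isZero_of_isStrictlyGE a j hj) (I.truncLEXIso b j (by omega))
      · exact (I.truncLE b).isZero_of_isStrictlyLE b j hj
  · rintro ⟨I, hI, hI0, ⟨e⟩⟩ F m hm φ
    have := hI
    have : I.IsStrictlyGE a := by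
      rw [CochainComplex.isStrictlyGE_iff]
      intro j hj
      exact hI0 j (Or.inl hj)
    have : I.IsKInjective := CochainComplex.isKInjective_of_injective I a
    have key : ∀ ψ : DerivedCategory.Q.obj ((CochainComplex.singleFunctor C 0).obj F) ⟶
        DerivedCategory.Q.obj (I⟦m⟧), ψ = 0 := by
      intro ψ
      have γ₁ : DerivedCategory.Qh.obj ((HomotopyCategory.quotient _ _).obj
          ((CochainComplex.singleFunctor C 0).obj F)) ≅
          DerivedCategory.Q.obj ((CochainComplex.singleFunctor C 0).obj F) :=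
        (DerivedCategory.quotientCompQhIso C).app _
      have γ₂ : DerivedCategory.Qh.obj ((HomotopyCategory.quotient _ _).obj (I⟦m⟧)) ≅
          DerivedCategory.Q.obj (I⟦m⟧) :=
        (DerivedCategory.quotientCompQhIso C).app _
      obtain ⟨g', hg'⟩ := (CochainComplex.IsKInjective.Qh_map_bijective
        ((HomotopyCategory.quotient _ _).obj ((CochainComplex.singleFunctor C 0).obj F))
          (I⟦m⟧)).2 (γ₁.hom ≫ ψ ≫ γ₂.inv)
      obtain ⟨g, rfl⟩ := (HomotopyCategory.quotient _ _).map_surjective g'
      have hg : g = 0 := by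
        apply HomologicalComplex.from_single_hom_ext
        exact (hI0 (0 + m) (by omega)).eq_of_tgt _ _
      rw [hg, Functor.map_zero, Functor.map_zero] at hg'
      have h5 : ψ = γ₁.inv ≫ (γ₁.hom ≫ ψ ≫ γ₂.inv) ≫ γ₂.hom := by
        simp
      rw [h5, ← hg', zero_comp, comp_zero]
    have α : (DerivedCategory.singleFunctor C 0).obj F ≅
        DerivedCategory.Q.obj ((CochainComplex.singleFunctor C 0).obj F) :=
      (DerivedCategory.singleFunctorIsoCompQ C 0).app F
    have β : DerivedCategory.Q.obj (I⟦m⟧) ≅ (shiftFunctor (DerivedCategory C) m).obj X :=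
      (DerivedCategory.Q.commShiftIso m).app I ≪≫ (shiftFunctor (DerivedCategory C) m).mapIso e
    have h1 := key (α.inv ≫ φ ≫ β.inv)
    have h2 : φ = α.hom ≫ (α.inv ≫ φ ≫ β.inv) ≫ β.hom := by
      simp
    rw [h2, h1, zero_comp, comp_zero]

end Groth.Agent.H23.InjAmp
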