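import Groth.Agent.H23.InjAmp

/-!
# Injective amplitude of complexes of modules via Baer's criterion (helper23)
-/

set_option autoImplicit false
universe w' v u
open CategoryTheory CategoryTheory.Limits Groth.Agent.S12537
open scoped ZeroObject

namespace Groth.Agent.H23.InjAmp

section General

variable {C : Type u} [Category.{v} C] [Abelian C] [HasDerivedCategory.{w'} C]

lemma Qmap_eq_zero' {X : DerivedCategory C} {m : ℤ} (F : C)
    (hyp : ∀ (φ : (DerivedCategory.singleFunctor C 0).obj F ⟶
      (shiftFunctor (DerivedCategory C) m).obj X), φ = 0)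
    (K : CochainComplex C ℤ) (e : DerivedCategory.Q.obj K ≅ X)
    (g : (CochainComplex.singleFunctor C 0).obj F ⟶ K⟦m⟧) : DerivedCategory.Q.map g = 0 := by
  have α : (DerivedCategory.singleFunctor C 0).obj F ≅
      DerivedCategory.Q.obj ((CochainComplex.singleFunctor C 0).obj F) :=
    (DerivedCategory.singleFunctorIsoCompQ C 0).app F
  have β : DerivedCategory.Q.obj (K⟦m⟧) ≅ (shiftFunctor (DerivedCategory C) m).obj X :=
    (DerivedCategory.Q.commShiftIso m).app K ≪≫ (shiftFunctor (DerivedCategory C) m).mapIso e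
  have h1 := hyp (α.hom ≫ DerivedCategory.Q.map g ≫ β.hom)
  have h2 : DerivedCategory.Q.map g =
      α.inv ≫ (α.hom ≫ DerivedCategory.Q.map g ≫ β.hom) ≫ β.inv := by
    simp
  rw [h2, h1, zero_comp, comp_zero]

lemma comp_homologyπ_eq_zero (L : CochainComplex C ℤ) (F : C) (t : F ⟶ L.cycles 0)
    (h : ∀ (g : (CochainComplex.singleFunctor C 0).obj F ⟶ L), DerivedCategory.Q.map g = 0) :
    t ≫ L.homologyπ 0 = 0 := by
  let g : (CochainComplex.singleFunctor C 0).obj F ⟶ L :=
    HomologicalComplex.mkHomFromSingle (t ≫ L.iCycles 0) (by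
      intro k _
      rw [Category.assoc, L.iCycles_d 0 k, comp_zero])
  have hg : HomologicalComplex.homologyMap g 0 = 0 := by
    have nat := (DerivedCategory.homologyFunctorFactors C 0).hom.naturality g
    rw [Functor.comp_map, h g, Functor.map_zero, zero_comp] at nat
    have h3 : ((DerivedCategory.homologyFunctorFactors C 0).app
        ((CochainComplex.singleFunctor C 0).obj F)).hom ≫ HomologicalComplex.homologyMap g 0 =
        ((DerivedCategory.homologyFunctorFactors C 0).app
          ((CochainComplex.singleFunctor C 0).obj F)).hom ≫ 0 := by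
      rw [comp_zero]
      exact nat.symm
    exact (cancel_epi _).1 h3
  have hπ := HomologicalComplex.homologyπ_naturality g 0
  rw [hg, comp_zero] at hπ
  have hg0 : g.f 0 = (HomologicalComplex.singleObjXSelf (ComplexShape.up ℤ) 0 F).hom ≫
      t ≫ L.iCycles 0 := HomologicalComplex.mkHomFromSingle_f _ _
  have hcm : HomologicalComplex.cyclesMap g 0 ≫ L.iCycles 0 =
      ((((CochainComplex.singleFunctor C 0).obj F).iCycles 0 ≫
        (HomologicalComplex.singleObjXSelf (ComplexShape.up ℤ) 0 F).hom) ≫ t) ≫ L.iCycles 0 := by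
    rw [HomologicalComplex.cyclesMap_i, hg0, Category.assoc, Category.assoc]
    all_goals rfl
  have hcm' := (cancel_mono (L.iCycles 0)).1 hcm
  haveI : IsIso (((CochainComplex.singleFunctor C 0).obj F).iCycles 0) :=
    HomologicalComplex.isIso_iCycles _ 0 _ rfl rfl
  have h5 : (((CochainComplex.singleFunctor C 0).obj F).iCycles 0 ≫
      (HomologicalComplex.singleObjXSelf (ComplexShape.up ℤ) 0 F).hom) ≫
        (t ≫ L.homologyπ 0) = 0 := by
    rw [← Category.assoc, ← hcm']
    exact hπ.symm
  exact (cancel_epi _).1 (h5.trans comp_zero.symm)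

end General

section Ring

variable {R : Type u} [CommRing R]

attribute [local instance] HasDerivedCategory.standard

lemma isZero_homology_zero_of_ring (L : CochainComplex (ModuleCat.{u} R) ℤ)
    (h : ∀ (g : (CochainComplex.singleFunctor (ModuleCat.{u} R) 0).obj (ModuleCat.of R R) ⟶ L),
      DerivedCategory.Q.map g = 0) :
    IsZero (L.homology 0) := by
  have hz : L.homologyπ 0 = 0 := by
    apply ModuleCat.hom_ext
    apply LinearMap.ext
    intro z
    have h1 := comp_homologyπ_eq_zero L (ModuleCat.of R R)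
      (ModuleCat.ofHom (LinearMap.toSpanSingleton R (L.cycles 0) z)) h
    have h2 := congrArg (fun φ => φ.hom (1 : R)) h1
    have h4 : (L.homologyπ 0).hom ((1 : R) • z) = 0 := h2
    rw [one_smul] at h4
    exact h4
  exact IsZero.of_epi_eq_zero _ hz

theorem exists_injective_of_quotients (X : DerivedCategory (ModuleCat.{u} R)) (a b : ℤ)
    (hyp : ∀ (J : Ideal R) (i : ℤ), (i < a ∨ b < i) →
      ∀ φ : (DerivedCategory.singleFunctor (ModuleCat.{u} R) 0).obj (ModuleCat.of R (R ⧸ J)) ⟶
        (shiftFunctor (DerivedCategory (ModuleCat.{u} R)) i).obj X, φ = 0) :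
    ∃ I : CochainComplex (ModuleCat.{u} R) ℤ, (∀ i, Injective (I.X i)) ∧
      (∀ i, (i < a ∨ b < i) → IsZero (I.X i)) ∧ Nonempty (DerivedCategory.Q.obj I ≅ X) := by
  have hypR : ∀ (i : ℤ), (i < a ∨ b < i) →
      ∀ φ : (DerivedCategory.singleFunctor (ModuleCat.{u} R) 0).obj (ModuleCat.of R R) ⟶
        (shiftFunctor (DerivedCategory (ModuleCat.{u} R)) i).obj X, φ = 0 := by
    intro i hi φ
    let eB : ModuleCat.of R (R ⧸ (⊥ : Ideal R)) ≅ ModuleCat.of R R :=
      (Submodule.quotEquivOfEqBot (⊥ : Ideal R) rfl).toModuleIso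
    have h1 := hyp ⊥ i hi ((DerivedCategory.singleFunctor _ 0).map eB.hom ≫ φ)
    have h2 : φ = (DerivedCategory.singleFunctor _ 0).map eB.inv ≫
        ((DerivedCategory.singleFunctor _ 0).map eB.hom ≫ φ) := by
      rw [← Category.assoc, ← CategoryTheory.Functor.map_comp, eB.inv_hom_id,
        CategoryTheory.Functor.map_id, Category.id_comp]
    rw [h2, h1, comp_zero]
  have hex : ∀ (K : CochainComplex (ModuleCat.{u} R) ℤ) (e : DerivedCategory.Q.obj K ≅ X) (m : ℤ),
      (m < a ∨ b < m) → K.ExactAt m := by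
    intro K e m hm
    rw [HomologicalComplex.exactAt_iff_isZero_homology]
    refine IsZero.of_iso ?_
      ((CochainComplex.ShiftSequence.shiftIso (ModuleCat.{u} R) m 0 m (by omega)).app K).symm
    exact isZero_homology_zero_of_ring (K⟦m⟧)
      (fun g => Qmap_eq_zero' (ModuleCat.of R R) (fun φ => hypR m hm φ) K e g)
  let K := DerivedCategory.Q.objPreimage X
  have e₀ : DerivedCategory.Q.obj K ≅ X := DerivedCategory.Q.objObjPreimageIso X
  have hKGE : K.IsGE a := by
    rw [CochainComplex.isGE_iff]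
    intro m hm
    exact hex K e₀ m (Or.inl hm)
  have hXGE : X.IsGE a := by
    have : (DerivedCategory.Q.obj K).IsGE a := inferInstance
    exact DerivedCategory.TStructure.t.isGE_of_iso e₀ a
  by_cases hab : a ≤ b
  swap
  · have hKLE : K.IsLE b := by
      rw [CochainComplex.isLE_iff]
      intro m hm
      exact hex K e₀ m (Or.inr hm)
    have hXLE : X.IsLE b := by
      have : (DerivedCategory.Q.obj K).IsLE b := inferInstance
      exact DerivedCategory.TStructure.t.isLE_of_iso e₀ b
    have hX0 : IsZero X := DerivedCategory.TStructure.t.isZero X b a (by omega)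
    refine ⟨0, fun i => ?_, fun i _ => ?_, ⟨?_⟩⟩
    · exact (Functor.map_isZero (HomologicalComplex.eval _ _ i) (isZero_zero _)).injective
    · exact Functor.map_isZero (HomologicalComplex.eval _ _ i) (isZero_zero _)
    · exact IsZero.iso (Functor.map_isZero DerivedCategory.Q (isZero_zero _)) hX0
  obtain ⟨K', hK', ⟨e₁⟩⟩ := DerivedCategory.exists_iso_Q_obj_of_isGE X a
  obtain ⟨I, i, hi, hI, hIGE⟩ :=
    CochainComplex.Plus.modelCategoryQuillen.exists_quasiIso_injective K' a
  have := hI
  have : IsIso (DerivedCategory.Q.map i) := by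
    rw [DerivedCategory.isIso_Q_map_iff_quasiIso]
    exact hi
  have e : DerivedCategory.Q.obj I ≅ X := (asIso (DerivedCategory.Q.map i)).symm ≪≫ e₁.symm
  have : I.IsKInjective := CochainComplex.isKInjective_of_injective I a
  have hILE : I.IsLE b := by
    rw [CochainComplex.isLE_iff]
    intro j hj
    exact hex I e j (Or.inr hj)
  have CB : ∀ (J : Ideal R) (p q r : ℤ), p + 1 = q → q + 1 = r → (q < a ∨ b < q) →
      ∀ (k : ModuleCat.of R (R ⧸ J) ⟶ I.X q), k ≫ I.d q r = 0 →
      ∃ h : ModuleCat.of R (R ⧸ J) ⟶ I.X p, h ≫ I.d p q = k := by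
    intro J p q r hpq hqr hq k hk
    obtain ⟨m, rfl⟩ : ∃ m, q = 0 + m := ⟨q, by omega⟩
    obtain rfl : p = -1 + m := by omega
    obtain rfl : r = 1 + m := by omega
    have hm : m < a ∨ b < m := by omega
    have hk' : k ≫ (m.negOnePow • I.d (0 + m) (1 + m)) = 0 := by
      rw [Linear.comp_units_smul, hk, smul_zero]
    obtain ⟨h', hh'⟩ : ∃ h' : ModuleCat.of R (R ⧸ J) ⟶ I.X (-1 + m),
        h' ≫ (m.negOnePow • I.d (-1 + m) (0 + m)) = k :=
      exists_lift (I⟦m⟧) (ModuleCat.of R (R ⧸ J)) k hk'
        (fun g => Qmap_eq_zero' (ModuleCat.of R (R ⧸ J)) (fun φ => hyp J m hm φ) I e g)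
    refine ⟨m.negOnePow • h', ?_⟩
    rw [Linear.comp_units_smul] at hh'
    rw [Linear.units_smul_comp]
    exact hh'
  have hcyc : Injective (I.cycles b) := by
    have hB : Module.Baer R (I.cycles b) := by
      intro J g
      let ι : ModuleCat.of R J ⟶ ModuleCat.of R R := ModuleCat.ofHom (Submodule.subtype J)
      haveI : Mono ι := (ModuleCat.mono_iff_injective ι).2 (Submodule.injective_subtype J)
      let π : ModuleCat.of R R ⟶ ModuleCat.of R (R ⧸ J) := ModuleCat.ofHom (Submodule.mkQ J)
      haveI : Epi π := (ModuleCat.epi_iff_surjective π).2 (Submodule.mkQ_surjective J)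
      have hιπ : ι ≫ π = 0 := by
        apply ModuleCat.hom_ext
        apply LinearMap.ext
        intro x
        exact (Submodule.Quotient.mk_eq_zero J).2 x.2
      let g₀ : ModuleCat.of R J ⟶ I.cycles b := ModuleCat.ofHom g
      let g₁ : ModuleCat.of R R ⟶ I.X b := Injective.factorThru (g₀ ≫ I.iCycles b) ι
      have hg₁ : ι ≫ g₁ = g₀ ≫ I.iCycles b := Injective.comp_factorThru _ _
      have hker : ι ≫ (g₁ ≫ I.d b (b + 1)) = 0 := by
        rw [← Category.assoc, hg₁, Category.assoc, I.iCycles_d, comp_zero]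
      have hk : ∃ k : ModuleCat.of R (R ⧸ J) ⟶ I.X (b + 1), π ≫ k = g₁ ≫ I.d b (b + 1) := by
        have hle : J ≤ LinearMap.ker (g₁ ≫ I.d b (b + 1)).hom := by
          intro x hx
          have h8 := congrArg (fun φ => φ.hom (⟨x, hx⟩ : J)) hker
          exact LinearMap.mem_ker.2 h8
        refine ⟨ModuleCat.ofHom (Submodule.liftQ J (g₁ ≫ I.d b (b + 1)).hom hle), ?_⟩
        apply ModuleCat.hom_ext
        exact Submodule.liftQ_mkQ J _ hle
      obtain ⟨k, hk⟩ := hk
      have hkd : k ≫ I.d (b + 1) (b + 1 + 1) = 0 := by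
        rw [← cancel_epi π, ← Category.assoc, hk, Category.assoc, I.d_comp_d, comp_zero,
          comp_zero]
      obtain ⟨h, hh⟩ := CB J b (b + 1) (b + 1 + 1) rfl rfl (Or.inr (by omega)) k hkd
      let g₂ : ModuleCat.of R R ⟶ I.X b := g₁ - π ≫ h
      have hg₂ : g₂ ≫ I.d b (b + 1) = 0 := by
        rw [Preadditive.sub_comp, Category.assoc, hh, hk, sub_self]
      let g₃ : ModuleCat.of R R ⟶ I.cycles b := I.liftCycles g₂ (b + 1) (by simp) hg₂
      have hg₃ : g₃ ≫ I.iCycles b = g₂ := I.liftCycles_i _ _ _ _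
      have hι : ι ≫ g₃ = g₀ := by
        rw [← cancel_mono (I.iCycles b), Category.assoc, hg₃, Preadditive.comp_sub, hg₁,
          ← Category.assoc, hιπ, zero_comp, sub_zero]
      refine ⟨g₃.hom, fun x hx => ?_⟩
      have h9 := congrArg (fun φ => φ.hom (⟨x, hx⟩ : J)) hι
      exact h9
    haveI : Module.Injective R (I.cycles b) := Module.Baer.injective hB
    exact Module.injective_object_of_injective_module R (I.cycles b)
  have : IsIso (DerivedCategory.Q.map (I.ιTruncLE b)) := by
    rw [DerivedCategory.isIso_Q_map_iff_quasiIso]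
    infer_instance
  refine ⟨I.truncLE b, ?_, ?_, ⟨asIso (DerivedCategory.Q.map (I.ιTruncLE b)) ≪≫ e⟩⟩
  · intro j
    rcases lt_trichotomy j b with h | rfl | h
    · exact Injective.of_iso (I.truncLEXIso b j h).symm (hI j)
    · exact Injective.of_iso (I.truncLEXIsoCycles j).symm hcyc
    · exact ((I.truncLE b).isZero_of_isStrictlyLE b j h).injective
  · intro j hj
    rcases hj with hj | hj
    · exact IsZero.of_iso (I.isZero_of_isStrictlyGE a j hj) (I.truncLEXIso b j (by omega))
    · exact (I.truncLE b).isZero_of_isStrictlyLE b j hj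

end Ring

end Groth.Agent.H23.InjAmp
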