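import Groth.Agent.H23.PCohFT

/-!
# Pseudo-coherence over an abelian category: cones and the approximation lemma (helper23)
-/

open CategoryTheory CategoryTheory.Limits CochainComplex.HomComplex

universe w v u

namespace Groth.Agent.H23.PCohLib

variable {C : Type u} [Category.{v} C] [Abelian C]

open CochainComplex

section ConeMap

variable {K₁ L₁ K₂ L₂ : CochainComplex C ℤ} (φ₁ : K₁ ⟶ L₁) (φ₂ : K₂ ⟶ L₂)
  (a : K₁ ⟶ K₂) (b : L₁ ⟶ L₂) (comm : φ₁ ≫ b = a ≫ φ₂)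

lemma mkc_map {A : C} (i j : ℤ) (hij : i + 1 = j) (x : A ⟶ K₁.X j) (y : A ⟶ L₁.X i) :
    mkc φ₁ i j hij x y ≫ (mappingCone.map φ₁ φ₂ a b comm).f i =
      mkc φ₂ i j hij (x ≫ a.f j) (y ≫ b.f i) := by
  simp [mkc, mappingCone.map]

lemma quasiIso_cone_map [QuasiIso a] [QuasiIso b] :
    QuasiIso (mappingCone.map φ₁ φ₂ a b comm) := by
  letI : HasDerivedCategory.{max u v} C := HasDerivedCategory.standard C
  rw [← DerivedCategory.isIso_Q_map_iff_quasiIso]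
  have h₁ := DerivedCategory.mappingCone_triangle_distinguished φ₁
  have h₂ := DerivedCategory.mappingCone_triangle_distinguished φ₂
  let ψ := DerivedCategory.Q.mapTriangle.map (mappingCone.triangleMap φ₁ φ₂ a b comm)
  have i₁ : IsIso ψ.hom₁ := by
    show IsIso (DerivedCategory.Q.map a)
    rw [DerivedCategory.isIso_Q_map_iff_quasiIso]
    infer_instance
  have i₂ : IsIso ψ.hom₂ := by
    show IsIso (DerivedCategory.Q.map b)
    rw [DerivedCategory.isIso_Q_map_iff_quasiIso]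
    infer_instance
  exact Pretriangulated.isIso₃_of_isIso₁₂ ψ h₁ h₂ i₁ i₂

end ConeMap

section ConeExact

variable {K L : CochainComplex C ℤ} (φ : K ⟶ L)

/-- the cone is exact in degree `i` when `H^i(φ)` is epi and `H^{i+1}(φ)` is mono. -/
lemma cone_exactAt (i : ℤ)
    (hepi : Epi (HomologicalComplex.homologyMap φ i))
    (hmono : Mono (HomologicalComplex.homologyMap φ (i + 1))) :
    (mappingCone φ).ExactAt i := by
  rw [HomologicalComplex.exactAt_iff_exact_up_to_refinements _ (i - 1) i (i + 1)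
    (by simp) (by simp)]
  intro A m hm
  obtain ⟨x, y, rfl⟩ : ∃ x y, m = mkc φ i (i + 1) rfl x y := ⟨_, _, eq_mkc φ i (i + 1) rfl m⟩
  rw [mkc_d φ i (i + 1) (i + 1 + 1) rfl rfl, ← mkc_zero φ (i + 1) (i + 1 + 1) rfl] at hm
  obtain ⟨hx, hy⟩ := mkc_ext φ _ _ _ hm
  have hx' : x ≫ K.d (i + 1) (i + 1 + 1) = 0 := by simpa using hx
  have hy' : x ≫ φ.f (i + 1) = (-y) ≫ L.d i (i + 1) := by
    rw [Preadditive.neg_comp]
    exact eq_neg_of_add_eq_zero_left hy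
  obtain ⟨A₁, π₁, hπ₁, x', hx'eq⟩ := (HomologicalComplex.mono_homologyMap_iff_up_to_refinements
    φ i (i + 1) (i + 1 + 1) (by simp) (by simp)).1 hmono x hx' (-y) hy'
  have hy'cyc : (π₁ ≫ y + x' ≫ φ.f i) ≫ L.d i (i + 1) = 0 := by
    have h1 : x' ≫ φ.f i ≫ L.d i (i + 1) = π₁ ≫ x ≫ φ.f (i + 1) := by
      rw [φ.comm i (i + 1), ← Category.assoc, ← hx'eq, Category.assoc]
    rw [Preadditive.add_comp, Category.assoc, Category.assoc, h1, ← Preadditive.comp_add,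
      add_comm (y ≫ L.d i (i + 1)), hy, comp_zero]
  obtain ⟨A₂, π₂, hπ₂, x'', hx''cyc, y'', hy''⟩ :=
    (HomologicalComplex.epi_homologyMap_iff_up_to_refinements φ (i - 1) i (i + 1)
      (by simp) (by simp)).1 hepi _ hy'cyc
  haveI := hπ₁
  haveI := hπ₂
  refine ⟨A₂, π₂ ≫ π₁, epi_comp _ _, mkc φ (i - 1) i (by simp) (x'' - π₂ ≫ x') y'', ?_⟩
  rw [mkc_d φ (i - 1) i (i + 1) (by simp) rfl, comp_mkc]
  have e1 : (π₂ ≫ π₁) ≫ x = -((x'' - π₂ ≫ x') ≫ K.d i (i + 1)) := by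
    rw [Category.assoc, hx'eq, Preadditive.sub_comp, hx''cyc, zero_sub, neg_neg, Category.assoc]
  have e2 : (π₂ ≫ π₁) ≫ y = (x'' - π₂ ≫ x') ≫ φ.f i + y'' ≫ L.d (i - 1) i := by
    rw [Preadditive.sub_comp, sub_add_eq_add_sub, ← hy'', Preadditive.comp_add, Category.assoc,
      Category.assoc, add_sub_cancel_right]
  rw [e1, e2]

end ConeExact

section ConeMapNIso

variable {K₁ K₂ L : CochainComplex C ℤ} (φ₁ : K₁ ⟶ L) (φ₂ : K₂ ⟶ L)
  (a : K₁ ⟶ K₂) (comm : φ₁ ≫ 𝟙 L = a ≫ φ₂)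

include comm in
lemma comm_f (j : ℤ) : a.f j ≫ φ₂.f j = φ₁.f j := by
  have := congrArg (fun t => t.f j) comm
  simpa using this.symm

lemma cone_map_epi (i : ℤ) (hepi : Epi (HomologicalComplex.homologyMap a (i + 1))) :
    Epi (HomologicalComplex.homologyMap (mappingCone.map φ₁ φ₂ a (𝟙 L) comm) i) := by
  rw [HomologicalComplex.epi_homologyMap_iff_up_to_refinements _ (i - 1) i (i + 1)
    (by simp) (by simp)]
  intro A m hm
  obtain ⟨x₂, y, rfl⟩ : ∃ x y, m = mkc φ₂ i (i + 1) rfl x y := ⟨_, _, eq_mkc φ₂ i (i + 1) rfl m⟩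
  rw [mkc_d φ₂ i (i + 1) (i + 1 + 1) rfl rfl, ← mkc_zero φ₂ (i + 1) (i + 1 + 1) rfl] at hm
  obtain ⟨hx, hy⟩ := mkc_ext φ₂ _ _ _ hm
  have hx' : x₂ ≫ K₂.d (i + 1) (i + 1 + 1) = 0 := by simpa using hx
  obtain ⟨A₁, π₁, hπ₁, x₁, hx₁, z, hz⟩ :=
    (HomologicalComplex.epi_homologyMap_iff_up_to_refinements a i (i + 1) (i + 1 + 1)
      (by simp) (by simp)).1 hepi x₂ hx'
  have hcomm := comm_f φ₁ φ₂ a comm
  refine ⟨A₁, π₁, hπ₁, mkc φ₁ i (i + 1) rfl x₁ (π₁ ≫ y + z ≫ φ₂.f i), ?_,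
    mkc φ₂ (i - 1) i (by simp) (-z) 0, ?_⟩
  · rw [mkc_d φ₁ i (i + 1) (i + 1 + 1) rfl rfl, hx₁, neg_zero]
    have h1 : x₁ ≫ φ₁.f (i + 1) =
        π₁ ≫ x₂ ≫ φ₂.f (i + 1) - z ≫ K₂.d i (i + 1) ≫ φ₂.f (i + 1) := by
      rw [← hcomm (i + 1), ← Category.assoc, ← Category.assoc π₁, ← Category.assoc z,
        ← Preadditive.sub_comp, hz, add_sub_cancel_right]
    have h2 : (π₁ ≫ y + z ≫ φ₂.f i) ≫ L.d i (i + 1) =
        π₁ ≫ y ≫ L.d i (i + 1) + z ≫ K₂.d i (i + 1) ≫ φ₂.f (i + 1) := by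
      rw [Preadditive.add_comp, Category.assoc, Category.assoc, φ₂.comm i (i + 1)]
    have h3 : π₁ ≫ x₂ ≫ φ₂.f (i + 1) + π₁ ≫ y ≫ L.d i (i + 1) = 0 := by
      rw [← Preadditive.comp_add, hy, comp_zero]
    have h4 : x₁ ≫ φ₁.f (i + 1) + (π₁ ≫ y + z ≫ φ₂.f i) ≫ L.d i (i + 1) = 0 := by
      rw [h1, h2, ← h3]
      abel
    rw [h4, mkc_zero]
  · rw [comp_mkc, mkc_map, mkc_d φ₂ (i - 1) i (i + 1) (by simp) rfl, mkc_add]
    have e1 : π₁ ≫ x₂ = x₁ ≫ a.f (i + 1) + -((-z) ≫ K₂.d i (i + 1)) := by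
      rw [Preadditive.neg_comp, neg_neg]
      exact hz
    have e2 : π₁ ≫ y = (π₁ ≫ y + z ≫ φ₂.f i) ≫ (𝟙 L : L ⟶ L).f i +
        ((-z) ≫ φ₂.f i + 0 ≫ L.d (i - 1) i) := by
      simp
    rw [← e1, ← e2]

lemma cone_map_mono (i : ℤ) (hepi : Epi (HomologicalComplex.homologyMap a i))
    (hmono : Mono (HomologicalComplex.homologyMap a (i + 1))) :
    Mono (HomologicalComplex.homologyMap (mappingCone.map φ₁ φ₂ a (𝟙 L) comm) i) := by
  rw [HomologicalComplex.mono_homologyMap_iff_up_to_refinements _ (i - 1) i (i + 1)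
    (by simp) (by simp)]
  intro A m hm n hn
  obtain ⟨x₁, y, rfl⟩ : ∃ x y, m = mkc φ₁ i (i + 1) rfl x y := ⟨_, _, eq_mkc φ₁ i (i + 1) rfl m⟩
  obtain ⟨u, v, rfl⟩ : ∃ x y, n = mkc φ₂ (i - 1) i (by simp) x y :=
    ⟨_, _, eq_mkc φ₂ (i - 1) i (by simp) n⟩
  rw [mkc_map, mkc_d φ₂ (i - 1) i (i + 1) (by simp) rfl] at hn
  obtain ⟨hn1, hn2⟩ := mkc_ext _ _ _ _ hn
  rw [mkc_d φ₁ i (i + 1) (i + 1 + 1) rfl rfl, ← mkc_zero φ₁ (i + 1) (i + 1 + 1) rfl] at hm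
  obtain ⟨hx, hy⟩ := mkc_ext _ _ _ _ hm
  have hx' : x₁ ≫ K₁.d (i + 1) (i + 1 + 1) = 0 := by simpa using hx
  have hcomm := comm_f φ₁ φ₂ a comm
  obtain ⟨A₁, π₁, hπ₁, w, hw⟩ := (HomologicalComplex.mono_homologyMap_iff_up_to_refinements
    a i (i + 1) (i + 1 + 1) (by simp) (by simp)).1 hmono x₁ hx' (-u)
      (by rw [hn1, Preadditive.neg_comp])
  have hc : (w ≫ a.f i + π₁ ≫ u) ≫ K₂.d i (i + 1) = 0 := by
    rw [Preadditive.add_comp, Category.assoc, Category.assoc, a.comm i (i + 1),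
      ← Category.assoc, ← hw, Category.assoc, hn1, Preadditive.comp_neg, neg_add_cancel]
  obtain ⟨A₂, π₂, hπ₂, w', hw', z, hz⟩ :=
    (HomologicalComplex.epi_homologyMap_iff_up_to_refinements a (i - 1) i (i + 1)
      (by simp) (by simp)).1 hepi _ hc
  haveI := hπ₁
  haveI := hπ₂
  refine ⟨A₂, π₂ ≫ π₁, epi_comp _ _, mkc φ₁ (i - 1) i (by simp) (w' - π₂ ≫ w)
    (z ≫ φ₂.f (i - 1) + (π₂ ≫ π₁) ≫ v), ?_⟩
  rw [comp_mkc, mkc_d φ₁ (i - 1) i (i + 1) (by simp) rfl]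
  have e1 : (π₂ ≫ π₁) ≫ x₁ = -((w' - π₂ ≫ w) ≫ K₁.d i (i + 1)) := by
    rw [Preadditive.sub_comp, hw', zero_sub, neg_neg, Category.assoc, Category.assoc, hw]
  have hu : (π₂ ≫ π₁) ≫ u = w' ≫ a.f i + z ≫ K₂.d (i - 1) i - π₂ ≫ w ≫ a.f i := by
    rw [← hz, Preadditive.comp_add, Category.assoc, add_sub_cancel_left]
  have hy2 : y = u ≫ φ₂.f i + v ≫ L.d (i - 1) i := by simpa using hn2
  have e2 : (π₂ ≫ π₁) ≫ y = (w' - π₂ ≫ w) ≫ φ₁.f i +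
      (z ≫ φ₂.f (i - 1) + (π₂ ≫ π₁) ≫ v) ≫ L.d (i - 1) i := by
    rw [hy2, Preadditive.comp_add, ← Category.assoc (π₂ ≫ π₁) u, hu]
    simp only [Preadditive.add_comp, Preadditive.sub_comp, Category.assoc, hcomm,
      φ₂.comm (i - 1) i]
    abel
  rw [e1, e2]

end ConeMapNIso

end Groth.Agent.H23.PCohLib
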