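import Groth.Agent.H23.K0Perf
import Groth.Prelude.Def_DRing2

/-!
# `K₀(R) ≃ K₀(D_perf(R))` (helper23)
-/

set_option autoImplicit false
universe u
open CategoryTheory CategoryTheory.Limits

namespace Groth.Agent.H23.K0PerfMod

variable (R : Type u) [CommRing R]

/-- finite projective modules -/
def FPm : ObjectProperty (ModuleCat.{u} R) := fun M => Module.Finite R M ∧ Module.Projective R M

instance : (FPm R).IsClosedUnderIsomorphisms where
  of_iso e h := by
    obtain ⟨h1, h2⟩ := h
    exact ⟨Module.Finite.equiv e.toLinearEquiv, Module.Projective.of_equiv' e.toLinearEquiv⟩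

instance : (FPm R).ContainsZero where
  exists_zero := ⟨ModuleCat.of R PUnit, ModuleCat.isZero_of_subsingleton _,
    ⟨inferInstance, inferInstance⟩⟩

lemma hsum (X Y : ModuleCat.{u} R) (hX : FPm R X) (hY : FPm R Y) : FPm R (X ⨯ Y) := by
  obtain ⟨h1, h2⟩ := hX
  obtain ⟨h3, h4⟩ := hY
  have : FPm R (ModuleCat.of R (X × Y)) := ⟨inferInstance, inferInstance⟩
  exact (FPm R).prop_of_iso ((ModuleCat.biprodIsoProd X Y).symm ≪≫ biprod.isoProd X Y) this

lemma hlift (E F : ModuleCat.{u} R) (u : E ⟶ F) (hu : Epi u) (hF : FPm R F) : IsSplitEpi u := by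
  haveI := hF.2
  haveI : Projective F := ModuleCat.projective_of_categoryTheory_projective F
  exact IsSplitEpi.mk' ⟨Projective.factorThru (𝟙 F) u, Projective.factorThru_comp _ _⟩

lemma hst (E F : ModuleCat.{u} R) (u : E ⟶ F) (hu : Epi u) (hE : FPm R E) (hF : FPm R F) :
    FPm R (kernel u) := by
  haveI := hlift R E F u hu hF
  have hs : section_ u ≫ u = 𝟙 F := IsSplitEpi.id u
  let r : E ⟶ kernel u := kernel.lift u (𝟙 E - u ≫ section_ u) (by
    rw [Preadditive.sub_comp, Category.id_comp, Category.assoc, hs, Category.comp_id, sub_self])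
  have hr : kernel.ι u ≫ r = 𝟙 _ := by
    rw [← cancel_mono (kernel.ι u), Category.assoc, kernel.lift_ι, Preadditive.comp_sub,
      Category.comp_id, ← Category.assoc, kernel.condition, zero_comp, sub_zero, Category.id_comp]
  have hlin : r.hom.comp (kernel.ι u).hom = LinearMap.id := by
    have := congrArg ModuleCat.Hom.hom hr
    simpa using this
  obtain ⟨h1, h2⟩ := hE
  refine ⟨?_, Module.Projective.of_split _ _ hlin⟩
  apply Module.Finite.of_surjective r.hom
  intro x
  exact ⟨(kernel.ι u).hom x, by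
    have := LinearMap.congr_fun hlin x
    simpa using this⟩

attribute [local instance] HasDerivedCategory.standard

lemma isPerfect_eq : (fun K : Dual.D R => DRing.IsPerfect R K) = K0Perf.PF (FPm R) := by
  funext K
  apply propext
  constructor
  · rintro ⟨E, a, b, hv, hfp, he⟩
    exact ⟨E, ⟨fun i => hfp i, a, b, hv⟩, he⟩
  · rintro ⟨E, ⟨hfp, a, b, hv⟩, he⟩
    exact ⟨E, a, b, hv, fun i => hfp i, he⟩

theorem main_mod (P' : ObjectProperty (Dual.D R)) (h : P' = K0Perf.PF (FPm R)) :
    ∃ φ : KZero.K0sub (fun M : ModuleCat.{u} R => Module.Finite R M ∧ Module.Projective R M) ≃+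
        KZero.K0tr P',
      (∀ (M : Type u) [AddCommGroup M] [Module R M], Module.Finite R M → Module.Projective R M →
        φ (KZero.clSub (fun M : ModuleCat.{u} R => Module.Finite R M ∧ Module.Projective R M)
          (ModuleCat.of R M)) = KZero.clTr P' (Dual.inD R M)) ∧
      ∀ (E : DRing.Cx R) (a b : ℤ), DRing.VanishesOutside E a b →
        DRing.TermwiseFiniteProjective E →
        φ.symm (KZero.clTr P' (DRing.toD E)) =
          (Finset.Icc a b).sum (fun i => (i.negOnePow : ℤ) •
            KZero.clSub (fun M : ModuleCat.{u} R => Module.Finite R M ∧ Module.Projective R M)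
              (E.X i)) := by
  subst h
  obtain ⟨φ, h1, h2⟩ := K0Perf.main (FPm R) (hsum R) (hlift R) (hst R)
  refine ⟨φ, fun M _ _ hf hp => h1 (ModuleCat.of R M) ⟨hf, hp⟩, fun E a b hv hfp => ?_⟩
  exact h2 E a b (fun i => hfp i) hv

end Groth.Agent.H23.K0PerfMod
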