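import Groth.Agent.H23.DerPlus
import Groth.Agent.S12229
import Groth.Agent.S6620

/-!
# Leray's acyclicity lemma for `Functor.rightDerivedFunctorPlus`
-/

namespace Groth.Agent.H23.Leray

open CategoryTheory CategoryTheory.Limits HomologicalComplex Groth.Agent.H23.DerPlus

universe w w' v v' u u'

section General

lemma exact_of_kernel_eq_image {C : Type*} [Category C] [Abelian C] {X Y Z : C}
    (f : X ⟶ Y) (g : Y ⟶ Z) (h : kernelSubobject g = imageSubobject f) :
    ∃ w : f ≫ g = 0, (ShortComplex.mk f g w).Exact := by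
  have hle : imageSubobject f ≤ kernelSubobject g := le_of_eq h.symm
  have w : f ≫ g = 0 := by
    calc f ≫ g = (factorThruImageSubobject f ≫ (imageSubobject f).arrow) ≫ g := by
          rw [imageSubobject_arrow_comp]
      _ = (factorThruImageSubobject f ≫ Subobject.ofLE _ _ hle ≫
            (kernelSubobject g).arrow) ≫ g := by
          rw [Subobject.ofLE_arrow]
      _ = 0 := by
          simp only [Category.assoc, kernelSubobject_arrow_comp, comp_zero]
  exact ⟨w, (ShortComplex.exact_iff_image_eq_kernel _).2 h.symm⟩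

lemma epi_map_iff_of_natIso {C D : Type*} [Category C] [Category D] {G H : C ⥤ D} (σ : G ≅ H)
    {X Y : C} (f : X ⟶ Y) : Epi (G.map f) ↔ Epi (H.map f) := by
  constructor
  · intro h
    have : H.map f = σ.inv.app X ≫ G.map f ≫ σ.hom.app Y := by simp
    rw [this]
    infer_instance
  · intro h
    have : G.map f = σ.hom.app X ≫ H.map f ≫ σ.inv.app Y := by simp
    rw [this]
    infer_instance

lemma quasiIso_f_of_acyclic {C : Type*} [Category C] [Abelian C]
    {S : ShortComplex (CochainComplex C ℤ)} (hS : S.ShortExact) (h₃ : S.X₃.Acyclic) :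
    QuasiIso S.f := by
  rw [quasiIso_iff]
  intro i
  rw [quasiIsoAt_iff_isIso_homologyMap]
  have hz : ∀ j, IsZero (S.X₃.homology j) := fun j => by
    rw [← exactAt_iff_isZero_homology]
    exact h₃ j
  have : Mono (homologyMap S.f i) :=
    (hS.homology_exact₁ (i - 1) i (by simp)).mono_g ((hz (i - 1)).eq_of_src _ _)
  have : Epi (homologyMap S.f i) :=
    (hS.homology_exact₂ i).epi_f ((hz i).eq_of_tgt _ _)
  exact isIso_of_mono_of_epi _

end General

section Bridge

variable {ι ι' : Type*} {c : ComplexShape ι} {c' : ComplexShape ι'}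
variable {A : Type u} [Category.{v} A] [Abelian A] {B : Type u'} [Category.{v'} B] [Abelian B]
  (F : A ⥤ B) [F.Additive]

lemma quasiIsoAt_map_extendMap_iff {K L : HomologicalComplex A c} (φ : K ⟶ L)
    (e : c.Embedding c') {j : ι} {j' : ι'} (hj' : e.f j = j') :
    QuasiIsoAt ((F.mapHomologicalComplex c').map (extendMap φ e)) j' ↔
      QuasiIsoAt ((F.mapHomologicalComplex c).map φ) j := by
  rw [← quasiIsoAt_extendMap_iff ((F.mapHomologicalComplex c).map φ) e hj',
    ← quasiIsoAt_iff_comp_right ((F.mapHomologicalComplex c').map (extendMap φ e))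
      (mapExtendIso F L e).hom j',
    mapExtendIso_hom_naturality, quasiIsoAt_iff_comp_left]

lemma quasiIsoAt_map_ι'_zero_iff {X : A} (I : InjectiveResolution X) :
    QuasiIsoAt ((F.mapHomologicalComplex (ComplexShape.up ℤ)).map I.ι') 0 ↔
      QuasiIsoAt ((F.mapHomologicalComplex (ComplexShape.up ℕ)).map I.ι) 0 := by
  unfold InjectiveResolution.ι'
  rw [Functor.map_comp, quasiIsoAt_iff_comp_left]
  exact quasiIsoAt_map_extendMap_iff F I.ι ComplexShape.embeddingUpNat (j := 0) (j' := 0) rfl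

end Bridge

variable {A : Type u} [Category.{v} A] [Abelian A] [HasDerivedCategory.{w} A] [EnoughInjectives A]
  {B : Type u'} [Category.{v'} B] [Abelian B] [HasDerivedCategory.{w'} B]
  (F : A ⥤ B) [F.Additive]

/-- `Hⁱ(R⁺F(-))` on bounded below complexes. -/
noncomputable abbrev Φ (i : ℤ) : CochainComplex.Plus A ⥤ B :=
  HomotopyCategory.Plus.quotient A ⋙ DerivedCategory.Plus.Qh ⋙ F.rightDerivedFunctorPlus ⋙
    DerivedCategory.Plus.ι ⋙ DerivedCategory.homologyFunctor B i

/-- `Hⁱ(F(-))` on bounded below complexes, through the derived category. -/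
noncomputable abbrev Ψ (i : ℤ) : CochainComplex.Plus A ⥤ B :=
  HomotopyCategory.Plus.quotient A ⋙ (F.mapHomotopyCategoryPlus ⋙ DerivedCategory.Plus.Qh) ⋙
    DerivedCategory.Plus.homologyFunctor B i

/-- `Hⁱ` of the unit of `R⁺F`. -/
noncomputable def η (i : ℤ) : Ψ F i ⟶ Φ F i :=
  Functor.whiskerLeft (HomotopyCategory.Plus.quotient A)
    (Functor.whiskerRight F.rightDerivedFunctorPlusUnit
      (DerivedCategory.Plus.homologyFunctor B i))

/-- `Ψ` computes the homology of `F(K)`. -/
noncomputable def ε (i : ℤ) (K : CochainComplex.Plus A) :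
    (Ψ F i).obj K ≅ ((F.mapHomologicalComplex (ComplexShape.up ℤ)).obj K.obj).homology i :=
  (DerivedCategory.homologyFunctorFactors B i).app
    ((F.mapHomologicalComplex (ComplexShape.up ℤ)).obj K.obj)

lemma ε_naturality (i : ℤ) {K L : CochainComplex.Plus A} (f : K ⟶ L) :
    (Ψ F i).map f ≫ (ε F i L).hom = (ε F i K).hom ≫
      homologyMap ((F.mapHomologicalComplex (ComplexShape.up ℤ)).map f.hom) i :=
  DerivedCategory.homologyFunctorFactors_hom_naturality
    ((F.mapHomologicalComplex (ComplexShape.up ℤ)).map f.hom) i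

lemma isIso_η_iff (i : ℤ) {K J : CochainComplex.Plus A} (q : K ⟶ J) (hq : QuasiIso q.hom)
    (hJ : ∀ n, Injective (J.obj.X n)) :
    IsIso ((η F i).app K) ↔
      QuasiIsoAt ((F.mapHomologicalComplex (ComplexShape.up ℤ)).map q.hom) i := by
  have h1 : IsIso (DerivedCategory.Plus.Qh.map ((HomotopyCategory.Plus.quotient A).map q)) :=
    (isIso_PlusQh_quotient_map_iff q).2 hq
  have h2 : IsIso ((η F i).app J) := by
    change IsIso ((DerivedCategory.Plus.homologyFunctor B i).map
      (F.rightDerivedFunctorPlusUnit.app ((HomotopyCategory.Plus.quotient A).obj J)))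
    infer_instance
  have h3 : IsIso ((Φ F i).map q) := by
    change IsIso ((F.rightDerivedFunctorPlus ⋙ DerivedCategory.Plus.homologyFunctor B i).map
      (DerivedCategory.Plus.Qh.map ((HomotopyCategory.Plus.quotient A).map q)))
    infer_instance
  have nat := (η F i).naturality q
  have key : IsIso ((Ψ F i).map q) ↔
      QuasiIsoAt ((F.mapHomologicalComplex (ComplexShape.up ℤ)).map q.hom) i := by
    rw [quasiIsoAt_iff_isIso_homologyMap]
    have e := ε_naturality F i q
    constructor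
    · intro h
      have : IsIso ((ε F i K).hom ≫
          homologyMap ((F.mapHomologicalComplex (ComplexShape.up ℤ)).map q.hom) i) := by
        rw [← e]; infer_instance
      exact IsIso.of_isIso_comp_left (ε F i K).hom _
    · intro h
      have : IsIso ((Ψ F i).map q ≫ (ε F i J).hom) := by
        rw [e]; infer_instance
      exact IsIso.of_isIso_comp_right _ (ε F i J).hom
  rw [← key]
  constructor
  · intro h
    have : IsIso ((Ψ F i).map q ≫ (η F i).app J) := by
      rw [nat]; infer_instance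
    exact IsIso.of_isIso_comp_right _ ((η F i).app J)
  · intro h
    have : IsIso ((η F i).app K ≫ (Φ F i).map q) := by
      rw [← nat]; infer_instance
    exact IsIso.of_isIso_comp_right _ ((Φ F i).map q)

/-- The map of single complexes induced by a morphism. -/
noncomputable def sglMap {X Y : A} (φ : X ⟶ Y) : sgl X ⟶ sgl Y :=
  ObjectProperty.homMk ((CochainComplex.singleFunctor A 0).map φ)

/-- `X` is acyclic for `F`: `Hⁱ(R⁺F(X[0])) = 0` for `i > 0`. -/
def Acyc (X : A) : Prop := ∀ i : ℤ, 0 < i → IsZero ((Φ F i).obj (sgl X))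

lemma acyc_of_isIso (X : A)
    (h : IsIso (F.rightDerivedFunctorPlusUnit.app ((HomotopyCategory.Plus.quotient A).obj (sgl X)))) :
    Acyc F X := by
  intro i hi
  have e' := (DerivedCategory.Plus.homologyFunctor B i).mapIso
    (asIso (F.rightDerivedFunctorPlusUnit.app ((HomotopyCategory.Plus.quotient A).obj (sgl X))))
  have hz : IsZero (((F.mapHomologicalComplex (ComplexShape.up ℤ)).obj (sgl X).obj).homology i) := by
    have hX : IsZero (((F.mapHomologicalComplex (ComplexShape.up ℤ)).obj (sgl X).obj).X i) :=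
      F.map_isZero (isZero_single_obj_X (ComplexShape.up ℤ) 0 X i (by omega))
    rw [← exactAt_iff_isZero_homology]
    exact ShortComplex.exact_of_isZero_X₂ _ hX
  have hz' : IsZero ((Ψ F i).obj (sgl X)) := hz.of_iso (ε F i (sgl X))
  exact hz'.of_iso e'.symm

lemma acyc_of_injective (X : A) [Injective X] : Acyc F X := by
  apply acyc_of_isIso
  have : ∀ n, Injective ((sgl X).obj.X n) := fun n => by
    change Injective (((HomologicalComplex.single A (ComplexShape.up ℤ) 0).obj X).X n)
    infer_instance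
  infer_instance

variable [PreservesFiniteLimits F]

lemma les (S : ShortComplex A) (hS : S.ShortExact) (i : ℤ) :
    ∃ (w : (Φ F i).map (sglMap S.f) ≫ (Φ F i).map (sglMap S.g) = 0)
      (δ : (Φ F i).obj (sgl S.X₃) ⟶ (Φ F (i + 1)).obj (sgl S.X₁))
      (w₁ : (Φ F i).map (sglMap S.g) ≫ δ = 0) (w₂ : δ ≫ (Φ F (i + 1)).map (sglMap S.f) = 0),
      (ShortComplex.mk _ _ w).Exact ∧ (ShortComplex.mk _ _ w₁).Exact ∧
        (ShortComplex.mk _ _ w₂).Exact := by
  have hS' : (S.map (HomologicalComplex.single A (ComplexShape.up ℤ) 0)).ShortExact :=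
    hS.map_of_exact _
  have hf : Mono ((CochainComplex.Plus.ι A).map (sglMap S.f)) := hS'.mono_f
  have hg : Epi ((CochainComplex.Plus.ι A).map (sglMap S.g)) := hS'.epi_g
  have hex : kernelSubobject ((CochainComplex.Plus.ι A).map (sglMap S.g)) =
      imageSubobject ((CochainComplex.Plus.ι A).map (sglMap S.f)) :=
    ((ShortComplex.exact_iff_image_eq_kernel _).1 hS'.exact).symm
  obtain ⟨h2, δ, h3, h1⟩ := Groth.Agent.S12229.result F (sglMap S.f) (sglMap S.g) hf hg hex i
  obtain ⟨w, e2⟩ := exact_of_kernel_eq_image _ _ h2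
  obtain ⟨w₁, e3⟩ := exact_of_kernel_eq_image _ _ h3
  obtain ⟨w₂, e1⟩ := exact_of_kernel_eq_image _ _ h1
  exact ⟨w, δ, w₁, w₂, e2, e3, e1⟩

lemma acyc_X₃ (S : ShortComplex A) (hS : S.ShortExact) (h₁ : Acyc F S.X₁) (h₂ : Acyc F S.X₂) :
    Acyc F S.X₃ := by
  intro i hi
  obtain ⟨w, δ, w₁, w₂, ex2, ex3, ex1⟩ := les F S hS i
  have : Mono δ := ex3.mono_g ((h₂ i hi).eq_of_src _ _)
  exact IsZero.of_mono δ (h₁ (i + 1) (by omega))

lemma acyc_X₂ (S : ShortComplex A) (hS : S.ShortExact) (h₁ : Acyc F S.X₁) (h₃ : Acyc F S.X₃) :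
    Acyc F S.X₂ := by
  intro i hi
  obtain ⟨w, δ, w₁, w₂, ex2, ex3, ex1⟩ := les F S hS i
  exact ex2.isZero_X₂ ((h₁ i hi).eq_of_src _ _) ((h₃ i hi).eq_of_tgt _ _)

lemma isIso_η_zero_sgl (X : A) : IsIso ((η F 0).app (sgl X)) := by
  let I := injectiveResolution X
  have hq : QuasiIso (resMap I).hom := by
    change QuasiIso I.ι'
    infer_instance
  have hJ : ∀ n, Injective ((res I).obj.X n) := by
    intro n
    change Injective (I.cochainComplex.X n)
    infer_instance
  rw [isIso_η_iff F 0 (resMap I) hq hJ]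
  change QuasiIsoAt ((F.mapHomologicalComplex (ComplexShape.up ℤ)).map I.ι') 0
  rw [quasiIsoAt_map_ι'_zero_iff, quasiIsoAt_zero_iff]
  infer_instance

/-- `H⁰(F(X[0])) ≅ F(X)`, naturally. -/
noncomputable def σ : HomologicalComplex.single A (ComplexShape.up ℤ) 0 ⋙
    F.mapHomologicalComplex (ComplexShape.up ℤ) ⋙
      HomologicalComplex.homologyFunctor B (ComplexShape.up ℤ) 0 ≅ F :=
  (Functor.associator _ _ _).symm ≪≫
    Functor.isoWhiskerRight (HomologicalComplex.singleMapHomologicalComplex F (ComplexShape.up ℤ) 0)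
      (HomologicalComplex.homologyFunctor B (ComplexShape.up ℤ) 0) ≪≫
    Functor.associator _ _ _ ≪≫
    Functor.isoWhiskerLeft F (HomologicalComplex.homologyFunctorSingleIso B (ComplexShape.up ℤ) 0) ≪≫
    F.rightUnitor

lemma epi_map_g_iff (S : ShortComplex A) :
    Epi ((Φ F 0).map (sglMap S.g)) ↔ Epi (F.map S.g) := by
  have i2 := isIso_η_zero_sgl F S.X₂
  have i3 := isIso_η_zero_sgl F S.X₃
  have nat := (η F 0).naturality (sglMap S.g)
  have e := ε_naturality F 0 (sglMap S.g)
  have s1 : Epi ((Φ F 0).map (sglMap S.g)) ↔ Epi ((Ψ F 0).map (sglMap S.g)) := by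
    constructor
    · intro h
      have h' : Epi ((Ψ F 0).map (sglMap S.g) ≫ (η F 0).app (sgl S.X₃)) := by
        rw [nat]; infer_instance
      have hh : (Ψ F 0).map (sglMap S.g) = ((Ψ F 0).map (sglMap S.g) ≫ (η F 0).app (sgl S.X₃)) ≫
          inv ((η F 0).app (sgl S.X₃)) := by simp
      rw [hh]
      infer_instance
    · intro h
      have h' : Epi ((η F 0).app (sgl S.X₂) ≫ (Φ F 0).map (sglMap S.g)) := by
        rw [← nat]; infer_instance
      exact epi_of_epi ((η F 0).app (sgl S.X₂)) _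
  have s2 : Epi ((Ψ F 0).map (sglMap S.g)) ↔
      Epi (homologyMap ((F.mapHomologicalComplex (ComplexShape.up ℤ)).map (sglMap S.g).hom) 0) := by
    constructor
    · intro h
      have h' : Epi ((ε F 0 (sgl S.X₂)).hom ≫
          homologyMap ((F.mapHomologicalComplex (ComplexShape.up ℤ)).map (sglMap S.g).hom) 0) := by
        rw [← e]; infer_instance
      exact epi_of_epi (ε F 0 (sgl S.X₂)).hom _
    · intro h
      have h' : Epi ((Ψ F 0).map (sglMap S.g) ≫ (ε F 0 (sgl S.X₃)).hom) := by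
        rw [e]; infer_instance
      have hh : (Ψ F 0).map (sglMap S.g) = ((Ψ F 0).map (sglMap S.g) ≫ (ε F 0 (sgl S.X₃)).hom) ≫
          (ε F 0 (sgl S.X₃)).inv := by simp
      rw [hh]
      infer_instance
  rw [s1, s2]
  exact epi_map_iff_of_natIso (σ F) S.g

lemma shortExact_map_of_acyc (S : ShortComplex A) (hS : S.ShortExact) (h₁ : Acyc F S.X₁) :
    (S.map F).ShortExact := by
  have hmono : Mono S.f := hS.mono_f
  have hex : (S.map F).Exact := hS.exact.map_of_mono_of_preservesKernel F hmono inferInstance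
  have hm : Mono (F.map S.f) := inferInstance
  have hepi : Epi (F.map S.g) := by
    rw [← epi_map_g_iff]
    obtain ⟨w, δ, w₁, w₂, ex2, ex3, ex1⟩ := les F S hS 0
    exact ex3.epi_f ((h₁ (0 + 1) (by omega)).eq_of_tgt _ _)
  exact { exact := hex, mono_f := hm, epi_g := hepi }

lemma acyclic_map_of_acyc (C : CochainComplex A ℤ) (n₀ : ℤ) [C.IsStrictlyGE n₀]
    (hC : C.Acyclic) (hA : ∀ n, Acyc F (C.X n)) :
    ((F.mapHomologicalComplex (ComplexShape.up ℤ)).obj C).Acyclic := by
  let Z : ℤ → A := fun m => kernel (C.d m (m + 1))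
  let g : ∀ m, C.X m ⟶ Z (m + 1) := fun m =>
    kernel.lift (C.d (m + 1) (m + 1 + 1)) (C.d m (m + 1)) (C.d_comp_d _ _ _)
  have hg : ∀ m, g m ≫ kernel.ι (C.d (m + 1) (m + 1 + 1)) = C.d m (m + 1) :=
    fun m => kernel.lift_ι _ _ _
  have wS : ∀ m, kernel.ι (C.d m (m + 1)) ≫ g m = 0 := by
    intro m
    rw [← cancel_mono (kernel.ι (C.d (m + 1) (m + 1 + 1))), Category.assoc, hg,
      kernel.condition, zero_comp]
  let S : ℤ → ShortComplex A := fun m =>
    ShortComplex.mk (kernel.ι (C.d m (m + 1))) (g m) (wS m)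
  have hS : ∀ m, (S m).ShortExact := by
    intro m
    have hex : (S m).Exact := by
      let T : ShortComplex A :=
        ShortComplex.mk (kernel.ι (C.d m (m + 1))) (C.d m (m + 1)) (kernel.condition _)
      have hT : T.Exact := ShortComplex.exact_of_f_is_kernel _ (kernelIsKernel _)
      let φ : S m ⟶ T :=
        { τ₁ := 𝟙 _
          τ₂ := 𝟙 _
          τ₃ := kernel.ι (C.d (m + 1) (m + 1 + 1))
          comm₁₂ := by simp [S, T]
          comm₂₃ := by
            dsimp [S, T]
            rw [Category.id_comp, hg] }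
      have : Epi φ.τ₁ := by dsimp [φ]; infer_instance
      have : IsIso φ.τ₂ := by dsimp [φ]; infer_instance
      have : Mono φ.τ₃ := by dsimp [φ]; infer_instance
      exact (ShortComplex.exact_iff_of_epi_of_isIso_of_mono φ).2 hT
    have hepi : Epi (g m) := by
      have h := (C.exactAt_iff' m (m + 1) (m + 1 + 1) (by simp) (by simp)).1 (hC (m + 1))
      exact (ShortComplex.exact_iff_epi_kernel_lift _).1 h
    have hm : Mono (S m).f := by dsimp [S]; infer_instance
    exact { exact := hex, mono_f := hm, epi_g := hepi }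
  have hZ0 : ∀ m, m < n₀ → Acyc F (Z m) := by
    intro m hm
    have hz : IsZero (Z m) :=
      IsZero.of_mono (kernel.ι (C.d m (m + 1))) (C.isZero_of_isStrictlyGE n₀ m hm)
    have : Injective (Z m) := hz.injective
    exact acyc_of_injective F (Z m)
  have hP : ∀ m, Acyc F (Z m) := by
    intro m
    by_cases hm : m < n₀
    · exact hZ0 m hm
    · have hle : n₀ - 1 ≤ m := by omega
      exact Int.le_induction (motive := fun n _ => Acyc F (Z n)) (hZ0 (n₀ - 1) (by omega))
        (fun k _ ih => acyc_X₃ F (S k) (hS k) ih (hA k)) m hle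
  have hFS : ∀ m, ((S m).map F).ShortExact :=
    fun m => shortExact_map_of_acyc F (S m) (hS m) (hP m)
  intro n
  obtain ⟨m, rfl⟩ : ∃ m, n = m + 1 := ⟨n - 1, by omega⟩
  rw [HomologicalComplex.exactAt_iff' _ m (m + 1) (m + 1 + 1) (by simp) (by simp)]
  have wd : C.d m (m + 1) ≫ g (m + 1) = 0 := by
    rw [← cancel_mono (kernel.ι (C.d (m + 1 + 1) (m + 1 + 1 + 1))), Category.assoc, hg,
      C.d_comp_d, zero_comp]
  let S₁ : ShortComplex B := ShortComplex.mk (F.map (C.d m (m + 1))) (F.map (g (m + 1)))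
    (by rw [← F.map_comp, wd, F.map_zero])
  let φ₁ : S₁ ⟶ (S (m + 1)).map F :=
    { τ₁ := F.map (g m)
      τ₂ := 𝟙 (F.obj (C.X (m + 1)))
      τ₃ := 𝟙 (F.obj (Z (m + 1 + 1)))
      comm₁₂ := by
        show F.map (g m) ≫ F.map (kernel.ι (C.d (m + 1) (m + 1 + 1))) =
          F.map (C.d m (m + 1)) ≫ 𝟙 (F.obj (C.X (m + 1)))
        rw [Category.comp_id, ← F.map_comp, hg]
      comm₂₃ := by
        show 𝟙 (F.obj (C.X (m + 1))) ≫ F.map (g (m + 1)) =
          F.map (g (m + 1)) ≫ 𝟙 (F.obj (Z (m + 1 + 1)))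
        rw [Category.comp_id, Category.id_comp] }
  have hepi : Epi (F.map (g m)) := (hFS m).epi_g
  have : Epi φ₁.τ₁ := hepi
  have : IsIso φ₁.τ₂ := (inferInstance : IsIso (𝟙 (F.obj (C.X (m + 1)))))
  have : Mono φ₁.τ₃ := (inferInstance : Mono (𝟙 (F.obj (Z (m + 1 + 1)))))
  have ex₁ : S₁.Exact := (ShortComplex.exact_iff_of_epi_of_isIso_of_mono φ₁).2 (hFS (m + 1)).exact
  let φ₂ : S₁ ⟶ ((F.mapHomologicalComplex (ComplexShape.up ℤ)).obj C).sc' m (m + 1) (m + 1 + 1) :=
    { τ₁ := 𝟙 (F.obj (C.X m))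
      τ₂ := 𝟙 (F.obj (C.X (m + 1)))
      τ₃ := F.map (kernel.ι (C.d (m + 1 + 1) (m + 1 + 1 + 1)))
      comm₁₂ := by
        show 𝟙 (F.obj (C.X m)) ≫ F.map (C.d m (m + 1)) =
          F.map (C.d m (m + 1)) ≫ 𝟙 (F.obj (C.X (m + 1)))
        rw [Category.comp_id, Category.id_comp]
      comm₂₃ := by
        show 𝟙 (F.obj (C.X (m + 1))) ≫ F.map (C.d (m + 1) (m + 1 + 1)) =
          F.map (g (m + 1)) ≫ F.map (kernel.ι (C.d (m + 1 + 1) (m + 1 + 1 + 1)))
        rw [Category.id_comp, ← F.map_comp, hg] }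
  have hmono : Mono (F.map (kernel.ι (C.d (m + 1 + 1) (m + 1 + 1 + 1)))) := (hFS (m + 1 + 1)).mono_f
  have : Epi φ₂.τ₁ := (inferInstance : Epi (𝟙 (F.obj (C.X m))))
  have : IsIso φ₂.τ₂ := (inferInstance : IsIso (𝟙 (F.obj (C.X (m + 1)))))
  have : Mono φ₂.τ₃ := hmono
  exact (ShortComplex.exact_iff_of_epi_of_isIso_of_mono φ₂).1 ex₁

/-- Leray's acyclicity lemma: the unit of `R⁺F` is an isomorphism at a bounded below complex
with `F`-acyclic terms (`F` left exact). -/
theorem leray (M : CochainComplex.Plus A) (hM : ∀ n, Acyc F (M.obj.X n)) :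
    IsIso (F.rightDerivedFunctorPlusUnit.app ((HomotopyCategory.Plus.quotient A).obj M)) := by
  obtain ⟨n₁, hn₁⟩ := M.property
  obtain ⟨J, ι, hmono, hqi, hJinj, hJge⟩ :=
    CochainComplex.Plus.modelCategoryQuillen.exists_mono_quasiIso_injective M.obj (n₁ - 1) n₁
      (by omega)
  let J' : CochainComplex.Plus A := ⟨J, ⟨n₁ - 1, hJge⟩⟩
  let q : M ⟶ J' := ObjectProperty.homMk ι
  rw [isIso_unit_iff F q hqi hJinj]
  change QuasiIso ((F.mapHomologicalComplex (ComplexShape.up ℤ)).map ι)
  let S : ShortComplex (CochainComplex A ℤ) :=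
    ShortComplex.mk ι (cokernel.π ι) (cokernel.condition ι)
  have hS : S.ShortExact :=
    { exact := ShortComplex.exact_of_g_is_cokernel _ (cokernelIsCokernel ι)
      mono_f := hmono
      epi_g := by dsimp [S]; infer_instance }
  have hCac : S.X₃.Acyclic := hS.acyclic_X₃ hqi
  have hdeg : ∀ k, (S.map (HomologicalComplex.eval A (ComplexShape.up ℤ) k)).ShortExact :=
    fun k => hS.map_of_exact _
  have hCk : ∀ k, Acyc F (S.X₃.X k) := fun k =>
    acyc_X₃ F _ (hdeg k) (hM k) (by
      have : Injective (J.X k) := hJinj k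
      exact acyc_of_injective F (J.X k))
  have hCge : S.X₃.IsStrictlyGE (n₁ - 1) := by
    rw [CochainComplex.isStrictlyGE_iff]
    intro k hk
    have : Epi ((cokernel.π ι).f k) := (hdeg k).epi_g
    exact IsZero.of_epi ((cokernel.π ι).f k) (J.isZero_of_isStrictlyGE (n₁ - 1) k hk)
  have hFC : ((F.mapHomologicalComplex (ComplexShape.up ℤ)).obj S.X₃).Acyclic :=
    acyclic_map_of_acyc F S.X₃ (n₁ - 1) hCac hCk
  have hFS : (S.map (F.mapHomologicalComplex (ComplexShape.up ℤ))).ShortExact := by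
    apply HomologicalComplex.shortExact_of_degreewise_shortExact
    intro k
    exact shortExact_map_of_acyc F _ (hdeg k) (hM k)
  exact quasiIso_f_of_acyclic hFS hFC

end Groth.Agent.H23.Leray
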