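import Groth.Agent.H23.Leray
import Groth.Agent.S6624

/-!
# Acyclic objects: comparison with the classical right derived functors
-/

namespace Groth.Agent.H23.Leray

open CategoryTheory CategoryTheory.Limits HomologicalComplex Groth.Agent.H23.DerPlus

universe w w' v v' u u'

section Bridge

variable {A : Type u} [Category.{v} A] [Abelian A] {B : Type u'} [Category.{v'} B] [Abelian B]
  (F : A ⥤ B) [F.Additive]

lemma quasiIsoAt_map_ι'_iff {X : A} (I : InjectiveResolution X) (n : ℕ) :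
    QuasiIsoAt ((F.mapHomologicalComplex (ComplexShape.up ℤ)).map I.ι') (n : ℤ) ↔
      QuasiIsoAt ((F.mapHomologicalComplex (ComplexShape.up ℕ)).map I.ι) n := by
  unfold InjectiveResolution.ι'
  rw [Functor.map_comp, quasiIsoAt_iff_comp_left]
  exact quasiIsoAt_map_extendMap_iff F I.ι ComplexShape.embeddingUpNat (j := n) (j' := n) rfl

end Bridge

variable {A : Type u} [Category.{v} A] [Abelian A] [HasDerivedCategory.{w} A] [EnoughInjectives A]
  {B : Type u'} [Category.{v'} B] [Abelian B] [HasDerivedCategory.{w'} B]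
  (F : A ⥤ B) [F.Additive]

lemma rightDerived_isZero_of_acyc (X : A) (h : Acyc F X) (i : ℕ) (hi : 0 < i) :
    IsZero ((F.rightDerived i).obj X) := by
  obtain ⟨n, rfl⟩ : ∃ n, i = n + 1 := ⟨i - 1, by omega⟩
  let I := injectiveResolution X
  have hq : QuasiIso (resMap I).hom := by
    change QuasiIso I.ι'
    infer_instance
  have hJ : ∀ k, Injective ((res I).obj.X k) := by
    intro k
    change Injective (I.cochainComplex.X k)
    infer_instance
  have hΦ : IsZero ((Φ F ((n + 1 : ℕ) : ℤ)).obj (sgl X)) := h _ (by omega)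
  have hΨ : IsZero ((Ψ F ((n + 1 : ℕ) : ℤ)).obj (sgl X)) := by
    have hX : IsZero (((F.mapHomologicalComplex (ComplexShape.up ℤ)).obj (sgl X).obj).X
        ((n + 1 : ℕ) : ℤ)) :=
      F.map_isZero (isZero_single_obj_X (ComplexShape.up ℤ) 0 X _ (by omega))
    have hz : IsZero (((F.mapHomologicalComplex (ComplexShape.up ℤ)).obj (sgl X).obj).homology
        ((n + 1 : ℕ) : ℤ)) := by
      rw [← exactAt_iff_isZero_homology]
      exact ShortComplex.exact_of_isZero_X₂ _ hX
    exact hz.of_iso (ε F _ (sgl X))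
  have hiso : IsIso ((η F ((n + 1 : ℕ) : ℤ)).app (sgl X)) :=
    ⟨⟨0, hΨ.eq_of_src _ _, hΦ.eq_of_src _ _⟩⟩
  rw [isIso_η_iff F _ (resMap I) hq hJ] at hiso
  have h' : QuasiIsoAt ((F.mapHomologicalComplex (ComplexShape.up ℤ)).map I.ι')
      ((n + 1 : ℕ) : ℤ) := hiso
  rw [quasiIsoAt_map_ι'_iff, quasiIsoAt_succ_iff] at h'
  exact h'.of_iso (I.isoRightDerivedObj F (n + 1))

lemma acyc_iff_rightDerived [PreservesFiniteLimits F] (X : A) :
    (∀ i : ℕ, 0 < i → IsZero ((F.rightDerived i).obj X)) ↔ Acyc F X := by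
  constructor
  · intro h
    apply acyc_of_isIso
    exact (Groth.Agent.S6624.result F X).2 ⟨inferInstance, h⟩
  · intro h i hi
    exact rightDerived_isZero_of_acyc F X h i hi

variable [PreservesFiniteLimits F]

lemma acyc_X₁ (S : ShortComplex A) (hS : S.ShortExact) (h₂ : Acyc F S.X₂) (h₃ : Acyc F S.X₃)
    (hepi : Epi (F.map S.g)) : Acyc F S.X₁ := by
  intro i hi
  obtain ⟨j, rfl⟩ : ∃ j, i = j + 1 := ⟨i - 1, by omega⟩
  obtain ⟨w, δ, w₁, w₂, ex2, ex3, ex1⟩ := les F S hS j
  have hδ : δ = 0 := by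
    by_cases hj : 0 < j
    · exact (h₃ j hj).eq_of_src _ _
    · have hj0 : j = 0 := by omega
      subst hj0
      have : Epi ((Φ F 0).map (sglMap S.g)) := (epi_map_g_iff F S).2 hepi
      exact (cancel_epi ((Φ F 0).map (sglMap S.g))).1 (by rw [w₁, comp_zero])
  exact ex1.isZero_X₂ hδ ((h₂ (j + 1) hi).eq_of_tgt _ _)

end Groth.Agent.H23.Leray
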