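import Mathlib

set_option autoImplicit false

/-! helper23: prime spectrum of a fibre product of rings (Milnor square) -/

open PrimeSpectrum

namespace Groth.Agent.H23.MilnorSpec

variable {B' B A' A : Type*} [CommRing B'] [CommRing B] [CommRing A'] [CommRing A]

/-- a fibre square of rings `B' = B ×_A A'` with `A' → A` surjective -/
structure Sq (βB : B' →+* B) (βA : B' →+* A') (φ : B →+* A) (π : A' →+* A) : Prop where
  comm : ∀ x, φ (βB x) = π (βA x)
  surj : Function.Surjective π
  fib : ∀ (b : B) (a' : A'), φ b = π a' → ∃! b' : B', βB b' = b ∧ βA b' = a'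

variable {βB : B' →+* B} {βA : B' →+* A'} {φ : B →+* A} {π : A' →+* A}

namespace Sq

variable (h : Sq βB βA φ π)
include h

lemma surjB : Function.Surjective βB := by
  intro b
  obtain ⟨a', ha'⟩ := h.surj (φ b)
  obtain ⟨b', ⟨hb', _⟩, _⟩ := h.fib b a' ha'.symm
  exact ⟨b', hb'⟩

lemma inj {x y : B'} (h1 : βB x = βB y) (h2 : βA x = βA y) : x = y := by
  obtain ⟨z, _, hz⟩ := h.fib (βB y) (βA y) (h.comm y)
  rw [hz x ⟨h1, h2⟩, hz y ⟨rfl, rfl⟩]

lemma exists_zero (i : A') (hi : π i = 0) : ∃ j : B', βB j = 0 ∧ βA j = i := by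
  obtain ⟨j, hj, _⟩ := h.fib 0 i (by rw [map_zero, hi])
  exact ⟨j, hj⟩

lemma pi_betaA_eq_zero {m : B'} (hm : βB m = 0) : π (βA m) = 0 := by
  rw [← h.comm, hm, map_zero]

lemma comap_comm (p : PrimeSpectrum A) : comap βB (comap φ p) = comap βA (comap π p) := by
  have hc : φ.comp βB = π.comp βA := RingHom.ext h.comm
  rw [← comap_comp_apply, ← comap_comp_apply, hc]

lemma pullback_exists (q : PrimeSpectrum B) (p' : PrimeSpectrum A')
    (hqp : comap βB q = comap βA p') :
    ∃ p : PrimeSpectrum A, comap φ p = q ∧ comap π p = p' := by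
  have hker : p' ∈ zeroLocus (RingHom.ker π : Set A') := by
    rw [mem_zeroLocus]
    intro i hi
    obtain ⟨j, hj1, hj2⟩ := h.exists_zero i hi
    have hj : j ∈ (comap βB q).asIdeal := by
      rw [comap_asIdeal, Ideal.mem_comap, hj1]; exact zero_mem _
    rw [hqp, comap_asIdeal, Ideal.mem_comap, hj2] at hj
    exact hj
  rw [← range_comap_of_surjective _ π h.surj] at hker
  obtain ⟨p, rfl⟩ := hker
  refine ⟨p, ?_, rfl⟩
  apply comap_injective_of_surjective βB h.surjB
  rw [hqp, h.comap_comm]

lemma joint_surj (q' : PrimeSpectrum B') :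
    (∃ q, comap βB q = q') ∨ (∃ p', comap βA p' = q') := by
  by_cases hJ : (RingHom.ker βB : Set B') ⊆ q'.asIdeal
  · left
    have : q' ∈ Set.range (comap βB) := by
      rw [range_comap_of_surjective _ βB h.surjB, mem_zeroLocus]; exact hJ
    exact this
  · right
    obtain ⟨j, hj, hjq⟩ := Set.not_subset.1 hJ
    have hj0 : βB j = 0 := hj
    let K : Ideal A' :=
      { carrier := {a' | ∀ m : B', βB m = 0 → ∀ e : B', βB e = 0 → βA e = βA m * a' →
          e ∈ q'.asIdeal}
        zero_mem' := by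
          intro m _ e he1 he2
          have : e = 0 := h.inj (by rw [he1, map_zero]) (by rw [he2, mul_zero, map_zero])
          rw [this]; exact zero_mem _
        add_mem' := by
          intro a₁ a₂ h₁ h₂ m hm e he1 he2
          obtain ⟨e₁, he₁1, he₁2⟩ := h.exists_zero (βA m * a₁)
            (by rw [map_mul, h.pi_betaA_eq_zero hm, zero_mul])
          obtain ⟨e₂, he₂1, he₂2⟩ := h.exists_zero (βA m * a₂)
            (by rw [map_mul, h.pi_betaA_eq_zero hm, zero_mul])
          have : e = e₁ + e₂ := h.inj (by rw [he1, map_add, he₁1, he₂1, add_zero])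
            (by rw [he2, map_add, he₁2, he₂2, mul_add])
          rw [this]
          exact add_mem (h₁ m hm e₁ he₁1 he₁2) (h₂ m hm e₂ he₂1 he₂2)
        smul_mem' := by
          intro c a ha m hm e he1 he2
          obtain ⟨m', hm'1, hm'2⟩ := h.exists_zero (βA m * c)
            (by rw [map_mul, h.pi_betaA_eq_zero hm, zero_mul])
          refine ha m' hm'1 e he1 ?_
          rw [he2, hm'2, smul_eq_mul, mul_assoc] }
    have hK : q'.asIdeal.map βA ≤ K := by
      rw [Ideal.map_le_iff_le_comap]
      intro q₀ hq₀ m hm e he1 he2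
      have : e = m * q₀ := h.inj (by rw [he1, map_mul, hm, zero_mul]) (by rw [he2, map_mul])
      rw [this]
      exact Ideal.mul_mem_left _ _ hq₀
    have hcm : (q'.asIdeal.map βA).comap βA = q'.asIdeal := by
      refine le_antisymm ?_ Ideal.le_comap_map
      intro b' hb'
      have h1 : βA b' ∈ K := hK hb'
      have h2 := h1 j hj0 (j * b') (by rw [map_mul, hj0, zero_mul]) (by rw [map_mul])
      exact (q'.isPrime.mem_or_mem h2).resolve_left hjq
    obtain ⟨p', hp', hp'q⟩ := (Ideal.comap_map_eq_self_iff_of_isPrime q'.asIdeal).1 hcm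
    exact ⟨⟨p', hp'⟩, PrimeSpectrum.ext hp'q⟩

lemma inj_compl (p₁ p₂ : PrimeSpectrum A') (h1 : p₁ ∉ Set.range (comap π))
    (heq : comap βA p₁ = comap βA p₂) : p₁ = p₂ := by
  rw [range_comap_of_surjective _ π h.surj, mem_zeroLocus] at h1
  obtain ⟨i₁, hi₁, hi₁p⟩ := Set.not_subset.1 h1
  obtain ⟨j₁, hj₁1, hj₁2⟩ := h.exists_zero i₁ hi₁
  have hiff : ∀ x : B', βA x ∈ p₁.asIdeal ↔ βA x ∈ p₂.asIdeal := by
    intro x
    constructor
    · intro hx
      have : x ∈ (comap βA p₁).asIdeal := hx
      rw [heq] at this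
      exact this
    · intro hx
      have : x ∈ (comap βA p₂).asIdeal := hx
      rw [← heq] at this
      exact this
  have hi₁p₂ : i₁ ∉ p₂.asIdeal := by
    intro hc
    apply hi₁p
    rw [← hj₁2] at hc ⊢
    exact (hiff j₁).2 hc
  apply PrimeSpectrum.ext
  ext a
  obtain ⟨e, he1, he2⟩ := h.exists_zero (i₁ * a) (by rw [map_mul, hi₁, zero_mul])
  constructor
  · intro ha
    have : βA e ∈ p₁.asIdeal := by rw [he2]; exact Ideal.mul_mem_left _ _ ha
    have := (hiff e).1 this
    rw [he2] at this
    exact (p₂.isPrime.mem_or_mem this).resolve_left hi₁p₂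
  · intro ha
    have : βA e ∈ p₂.asIdeal := by rw [he2]; exact Ideal.mul_mem_left _ _ ha
    have := (hiff e).2 this
    rw [he2] at this
    exact (p₁.isPrime.mem_or_mem this).resolve_left hi₁p

lemma isClosed_of_preimages (Z : Set (PrimeSpectrum B')) (hB : IsClosed (comap βB ⁻¹' Z))
    (hA : IsClosed (comap βA ⁻¹' Z)) : IsClosed Z := by
  obtain ⟨K₁, hK₁⟩ := (isClosed_iff_zeroLocus_ideal _).1 hB
  obtain ⟨K₂, hK₂⟩ := (isClosed_iff_zeroLocus_ideal _).1 hA
  have hmemB : ∀ q : PrimeSpectrum B, comap βB q ∈ Z ↔ (K₁ : Set B) ⊆ q.asIdeal := by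
    intro q
    rw [← mem_zeroLocus, ← hK₁]; rfl
  have hmemA : ∀ p' : PrimeSpectrum A', comap βA p' ∈ Z ↔ (K₂ : Set A') ⊆ p'.asIdeal := by
    intro p'
    rw [← mem_zeroLocus, ← hK₂]; rfl
  have caseA : ∀ q : PrimeSpectrum B, ((K₂.comap βA : Ideal B') : Set B') ⊆ (comap βB q).asIdeal →
      comap βB q ∈ Z := by
    intro q hq
    rw [hmemB]
    intro c hc
    have hrad : φ c ∈ (K₂.map π).radical := by
      rw [← vanishingIdeal_zeroLocus_eq_radical, mem_vanishingIdeal]
      intro p hp
      rw [mem_zeroLocus] at hp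
      have h1 : (K₂ : Set A') ⊆ (comap π p).asIdeal := by
        intro a ha
        exact hp (Ideal.mem_map_of_mem π ha)
      have h2 : comap βA (comap π p) ∈ Z := (hmemA _).2 h1
      rw [← h.comap_comm, hmemB] at h2
      exact h2 hc
    obtain ⟨n, hn⟩ := hrad
    rw [Ideal.mem_map_iff_of_surjective π h.surj] at hn
    obtain ⟨k, hk, hkn⟩ := hn
    obtain ⟨e, ⟨he1, he2⟩, _⟩ := h.fib (c ^ n) k (by rw [map_pow, hkn])
    have : e ∈ (comap βB q).asIdeal := hq (by
      show βA e ∈ K₂
      rw [he2]; exact hk)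
    have : βB e ∈ q.asIdeal := this
    rw [he1] at this
    exact q.isPrime.mem_of_pow_mem n this
  have hZ : Z = zeroLocus ((K₂.comap βA : Ideal B') : Set B') ∪ comap βB '' (zeroLocus K₁) := by
    ext q'
    constructor
    · intro hq'
      rcases h.joint_surj q' with ⟨q, rfl⟩ | ⟨p', rfl⟩
      · right
        exact ⟨q, by rw [mem_zeroLocus]; exact (hmemB q).1 hq', rfl⟩
      · left
        rw [mem_zeroLocus]
        intro x hx
        exact (hmemA p').1 hq' hx
    · rintro (hq' | ⟨q, hq, rfl⟩)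
      · rw [mem_zeroLocus] at hq'
        rcases h.joint_surj q' with ⟨q, rfl⟩ | ⟨p', rfl⟩
        · exact caseA q hq'
        · by_cases hker : (RingHom.ker π : Set A') ⊆ p'.asIdeal
          · have : p' ∈ Set.range (comap π) := by
              rw [range_comap_of_surjective _ π h.surj, mem_zeroLocus]; exact hker
            obtain ⟨p, rfl⟩ := this
            rw [← h.comap_comm] at hq' ⊢
            exact caseA _ hq'
          · obtain ⟨i₁, hi₁, hi₁p⟩ := Set.not_subset.1 hker
            rw [hmemA]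
            intro a ha
            obtain ⟨e, he1, he2⟩ := h.exists_zero (i₁ * a)
              (by rw [map_mul, hi₁, zero_mul])
            have : e ∈ (comap βA p').asIdeal := hq' (by
              show βA e ∈ K₂
              rw [he2]; exact Ideal.mul_mem_left _ _ ha)
            have : βA e ∈ p'.asIdeal := this
            rw [he2] at this
            exact (p'.isPrime.mem_or_mem this).resolve_left hi₁p
      · rw [mem_zeroLocus] at hq
        exact (hmemB q).2 hq
  rw [hZ]
  exact (isClosed_zeroLocus _).union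
    ((isClosedEmbedding_comap_of_surjective _ βB h.surjB).isClosedMap _ (isClosed_zeroLocus _))

end Sq

end Groth.Agent.H23.MilnorSpec
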