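import Mathlib

/-!
# Towers: comparing two triangulated functors which agree on a full subcategory (helper23)

Abstract form of the "uniqueness of Postnikov systems" argument.
-/

open CategoryTheory CategoryTheory.Limits CategoryTheory.Pretriangulated

namespace Groth.Agent.H23.Tower

variable {𝒜 : Type*} [Category 𝒜] {𝒯 : Type*} [Category 𝒯] [Preadditive 𝒯] [HasZeroObject 𝒯]
  [HasShift 𝒯 ℤ] [∀ n : ℤ, (shiftFunctor 𝒯 n).Additive] [Pretriangulated 𝒯]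
  {D : Type*} [Category D] [Preadditive D] [HasZeroObject D] [HasShift D ℤ]
  [∀ n : ℤ, (shiftFunctor D n).Additive] [Pretriangulated D]
  (i : 𝒜 ⥤ 𝒯)
  (F F' : 𝒯 ⥤ D) [F.CommShift ℤ] [F.IsTriangulated] [F'.CommShift ℤ] [F'.IsTriangulated]
  (α : i ⋙ F ≅ i ⋙ F')

/-- the inductive datum attached to an object `C` with a "top inclusion" `ι : i.obj X ⟶ C` -/
structure Good (C : 𝒯) where
  X : 𝒜
  ι : i.obj X ⟶ C
  θ : F.obj C ≅ F'.obj C
  compat : F.map ι ≫ θ.hom = α.hom.app X ≫ F'.map ι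
  epi : ∀ (Y : 𝒜) (Δ : F.obj C ⟶ F'.obj (i.obj Y)), F.map ι ≫ Δ = 0 → Δ = 0
  vanish : ∀ (Y : 𝒜) (p : ℤ), 0 < p → ∀ f : (F.obj C)⟦p⟧ ⟶ F'.obj (i.obj Y), f = 0

variable (hV : ∀ (X Y : 𝒜) (p : ℤ), 0 < p →
  ∀ f : (F.obj (i.obj X))⟦p⟧ ⟶ F'.obj (i.obj Y), f = 0)

include hV in
/-- base case -/
noncomputable def goodBase (X : 𝒜) : Good i F F' α (i.obj X) where
  X := X
  ι := 𝟙 _
  θ := α.app X
  compat := by simp
  epi Y Δ h := by simpa using h
  vanish Y p hp f := hV X Y p hp f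

/-- transport along an isomorphism -/
noncomputable def goodOfIso {C C' : 𝒯} (e : C ≅ C') (g : Good i F F' α C) :
    Good i F F' α C' where
  X := g.X
  ι := g.ι ≫ e.hom
  θ := (F.mapIso e).symm ≪≫ g.θ ≪≫ F'.mapIso e
  compat := by
    have h := g.compat
    simp only [CategoryTheory.Functor.map_comp, Iso.trans_hom, Iso.symm_hom,
      CategoryTheory.Functor.mapIso_inv, CategoryTheory.Functor.mapIso_hom, Category.assoc]
    rw [← F.map_comp_assoc e.hom e.inv, e.hom_inv_id, F.map_id, Category.id_comp,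
      reassoc_of% h]
  epi Y Δ h := by
    rw [F.map_comp, Category.assoc] at h
    have h' := g.epi Y _ h
    rwa [← cancel_epi (F.map e.hom), comp_zero]
  vanish Y p hp f := by
    have h' := g.vanish Y p hp ((F.map e.hom)⟦p⟧' ≫ f)
    rwa [← cancel_epi ((F.map e.hom)⟦p⟧'), comp_zero]

include hV in
/-- inductive step -/
lemma good_step [i.Full] {C C' : 𝒯} {Y : 𝒜} (ψ : C ⟶ i.obj Y) (ι' : i.obj Y ⟶ C')
    (ρ : C' ⟶ C⟦(1 : ℤ)⟧) (hT : Triangle.mk ψ ι' ρ ∈ distTriang 𝒯) (g : Good i F F' α C) :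
    Nonempty (Good i F F' α C') := by
  obtain ⟨d, hd⟩ := i.map_surjective (g.ι ≫ ψ)
  have hTF := F.map_distinguished _ hT
  have hTF' := F'.map_distinguished _ hT
  -- the square commutes
  have comm : F.map ψ ≫ α.hom.app Y = g.θ.hom ≫ F'.map ψ := by
    rw [← sub_eq_zero]
    apply g.epi Y
    rw [Preadditive.comp_sub, sub_eq_zero, ← F.map_comp_assoc, ← hd,
      reassoc_of% g.compat, ← F'.map_comp, ← hd]
    exact α.hom.naturality d
  obtain ⟨c, hc₁, hc₂⟩ : ∃ c : F.obj C' ⟶ F'.obj C',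
      F.map ι' ≫ c = α.hom.app Y ≫ F'.map ι' ∧
      (F.map ρ ≫ (F.commShiftIso (1 : ℤ)).hom.app C) ≫ g.θ.hom⟦(1 : ℤ)⟧' =
        c ≫ (F'.map ρ ≫ (F'.commShiftIso (1 : ℤ)).hom.app C) :=
    complete_distinguished_triangle_morphism
      (F.mapTriangle.obj (Triangle.mk ψ ι' ρ)) (F'.mapTriangle.obj (Triangle.mk ψ ι' ρ))
      hTF hTF' g.θ.hom (α.hom.app Y) comm
  let φ : F.mapTriangle.obj (Triangle.mk ψ ι' ρ) ⟶ F'.mapTriangle.obj (Triangle.mk ψ ι' ρ) :=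
    { hom₁ := g.θ.hom
      hom₂ := α.hom.app Y
      hom₃ := c
      comm₁ := comm
      comm₂ := hc₁
      comm₃ := hc₂ }
  have hc : IsIso c := isIso₃_of_isIso₁₂ φ hTF hTF'
    (show IsIso g.θ.hom from inferInstance) (show IsIso (α.hom.app Y) from inferInstance)
  refine ⟨{
    X := Y
    ι := ι'
    θ := asIso c
    compat := hc₁
    epi := ?_
    vanish := ?_ }⟩
  · intro Z Δ hΔ
    obtain ⟨g', hg'⟩ : ∃ g' : (F.obj C)⟦(1 : ℤ)⟧ ⟶ F'.obj (i.obj Z),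
        Δ = (F.map ρ ≫ (F.commShiftIso (1 : ℤ)).hom.app C) ≫ g' :=
      Triangle.yoneda_exact₃ _ hTF Δ hΔ
    have h0 : g' = 0 := g.vanish Z 1 one_pos g'
    rw [hg', h0, comp_zero]
  · intro Z p hp f
    have hTp := Triangle.shift_distinguished _ hTF p
    have h₂ : ((CategoryTheory.shiftFunctor (Triangle D) p).obj
        (F.mapTriangle.obj (Triangle.mk ψ ι' ρ))).mor₂ ≫ f = 0 := hV Y Z p hp _
    obtain ⟨g', hg'⟩ : ∃ g' : ((F.obj C)⟦p⟧)⟦(1 : ℤ)⟧ ⟶ F'.obj (i.obj Z),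
        f = ((CategoryTheory.shiftFunctor (Triangle D) p).obj
          (F.mapTriangle.obj (Triangle.mk ψ ι' ρ))).mor₃ ≫ g' :=
      Triangle.yoneda_exact₃ _ hTp f h₂
    let e : (F.obj C)⟦p + 1⟧ ≅ ((F.obj C)⟦p⟧)⟦(1 : ℤ)⟧ :=
      (shiftFunctorAdd' D p 1 (p + 1) rfl).app (F.obj C)
    have h0 : e.hom ≫ g' = 0 := g.vanish Z (p + 1) (by omega) _
    have h1 : g' = 0 := (Iso.cancel_iso_hom_left e g' 0).1 (by rw [h0, comp_zero])
    rw [hg', h1]
    exact comp_zero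

omit [F.IsTriangulated] [F'.IsTriangulated] in
/-- unshifting an isomorphism -/
lemma nonempty_iso_of_shift (K : 𝒯) (m : ℤ) (h : Nonempty (F.obj (K⟦m⟧) ≅ F'.obj (K⟦m⟧))) :
    Nonempty (F.obj K ≅ F'.obj K) := by
  obtain ⟨e⟩ := h
  exact ⟨(shiftFunctor D m).preimageIso
    (((F.commShiftIso m).app K).symm ≪≫ e ≪≫ (F'.commShiftIso m).app K)⟩

end Groth.Agent.H23.Tower
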