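import Mathlib
import Groth.Prelude.Def_W4stkfunctorsequivSib
import Groth.Agent.H23.Tower

/-!
# Siblings: `F K ≅ F' K` for functors out of `D^b(A)` agreeing on `A` (helper23)
-/

open CategoryTheory CategoryTheory.Limits CategoryTheory.Pretriangulated

universe w v u

namespace Groth.Agent.H23.Sibling

section Lift

variable {𝒞 : Type*} [Category 𝒞] [Preadditive 𝒞] [HasZeroObject 𝒞] [HasShift 𝒞 ℤ]
  [∀ n : ℤ, (shiftFunctor 𝒞 n).Additive] [Pretriangulated 𝒞]
  (P : ObjectProperty 𝒞) [P.IsTriangulated]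

/-- a distinguished triangle whose three objects are isomorphic to objects of a triangulated
subcategory gives a distinguished triangle in the subcategory -/
lemma lift_triangle (T : Triangle 𝒞) (hT : T ∈ distTriang 𝒞) (X₁ X₂ X₃ : P.FullSubcategory)
    (e₁ : T.obj₁ ≅ X₁.obj) (e₂ : T.obj₂ ≅ X₂.obj) (e₃ : T.obj₃ ≅ X₃.obj) :
    ∃ (f : X₁ ⟶ X₂) (g : X₂ ⟶ X₃) (h : X₃ ⟶ X₁⟦(1 : ℤ)⟧),
      Triangle.mk f g h ∈ distTriang P.FullSubcategory := by
  refine ⟨P.fullyFaithfulι.preimage (e₁.inv ≫ T.mor₁ ≫ e₂.hom),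
    P.fullyFaithfulι.preimage (e₂.inv ≫ T.mor₂ ≫ e₃.hom),
    P.fullyFaithfulι.preimage (e₃.inv ≫ T.mor₃ ≫ e₁.hom⟦(1 : ℤ)⟧' ≫
      (P.ι.commShiftIso (1 : ℤ)).inv.app X₁), ?_⟩
  change P.ι.mapTriangle.obj (Triangle.mk _ _ _) ∈ distTriang 𝒞
  refine isomorphic_distinguished _ hT _ (Triangle.isoMk _ _ e₁.symm e₂.symm e₃.symm ?_ ?_ ?_)
  · show (e₁.inv ≫ T.mor₁ ≫ e₂.hom) ≫ e₂.inv = e₁.inv ≫ T.mor₁
    simp
  · show (e₂.inv ≫ T.mor₂ ≫ e₃.hom) ≫ e₃.inv = e₂.inv ≫ T.mor₂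
    simp
  · show ((e₃.inv ≫ T.mor₃ ≫ e₁.hom⟦(1 : ℤ)⟧' ≫ (P.ι.commShiftIso (1 : ℤ)).inv.app X₁) ≫
      (P.ι.commShiftIso (1 : ℤ)).hom.app X₁) ≫ e₁.inv⟦(1 : ℤ)⟧' = e₃.inv ≫ T.mor₃
    simp only [Category.assoc, Iso.inv_hom_id_app_assoc]
    rw [← CategoryTheory.Functor.map_comp, e₁.hom_inv_id, CategoryTheory.Functor.map_id,
      Category.comp_id]

end Lift

section Top

variable {A : Type u} [Category.{v} A] [Abelian A] [HasDerivedCategory.{w} A]

open DerivedCategory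

/-- the stupid truncation triangle which splits off the top term of a complex -/
lemma top_triangle (K : CochainComplex A ℤ) (n : ℤ) [K.IsStrictlyGE 0] [K.IsStrictlyLE (n + 1)]
    (hn : 0 ≤ n) :
    ∃ (N : CochainComplex A ℤ) (_ : N.IsStrictlyGE 0) (_ : N.IsStrictlyLE n)
      (f : (HomologicalComplex.single A (ComplexShape.up ℤ) (n + 1)).obj (K.X (n + 1)) ⟶ K)
      (g : K ⟶ N)
      (δ : Q.obj N ⟶ (Q.obj ((HomologicalComplex.single A (ComplexShape.up ℤ) (n + 1)).obj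
        (K.X (n + 1))))⟦(1 : ℤ)⟧),
      Triangle.mk (Q.map f) (Q.map g) δ ∈ distTriang (DerivedCategory A) := by
  let f : (HomologicalComplex.single A (ComplexShape.up ℤ) (n + 1)).obj (K.X (n + 1)) ⟶ K :=
    HomologicalComplex.mkHomFromSingle (𝟙 _) (fun k hk =>
      (K.isZero_of_isStrictlyLE (n + 1) k (by simp at hk; omega)).eq_of_tgt _ _)
  have hf : ∀ i, Mono (f.f i) := fun i => by
    by_cases hi : i = n + 1
    · subst hi
      have : f.f (n + 1) = (HomologicalComplex.singleObjXSelf (ComplexShape.up ℤ) (n + 1)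
          (K.X (n + 1))).hom ≫ 𝟙 _ := HomologicalComplex.mkHomFromSingle_f _ _
      rw [this]
      infer_instance
    · exact (HomologicalComplex.isZero_single_obj_X (ComplexShape.up ℤ) _ _ _ hi).mono _
  haveI : Mono f := HomologicalComplex.mono_of_mono_f _ hf
  let S : ShortComplex (CochainComplex A ℤ) := ShortComplex.mk f (cokernel.π f)
    (cokernel.condition f)
  have hS : S.ShortExact := ShortComplex.ShortExact.mk' (ShortComplex.exact_cokernel f)
    (by dsimp [S]; infer_instance) (by dsimp [S]; infer_instance)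
  have hepi : ∀ i, Epi ((cokernel.π f).f i) := fun i => inferInstance
  have hN0 : CochainComplex.IsStrictlyGE (cokernel f) 0 := by
    rw [CochainComplex.isStrictlyGE_iff]
    intro i hi
    exact IsZero.of_epi ((cokernel.π f).f i) (K.isZero_of_isStrictlyGE 0 i hi)
  have hNn : CochainComplex.IsStrictlyLE (cokernel f) n := by
    rw [CochainComplex.isStrictlyLE_iff]
    intro i hi
    by_cases hi' : i = n + 1
    · subst hi'
      apply IsZero.of_epi_eq_zero ((cokernel.π f).f (n + 1))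
      have h0 : f.f (n + 1) ≫ (cokernel.π f).f (n + 1) = 0 := by
        rw [← HomologicalComplex.comp_f, cokernel.condition, HomologicalComplex.zero_f]
      have hiso : IsIso (f.f (n + 1)) := by
        have : f.f (n + 1) = (HomologicalComplex.singleObjXSelf (ComplexShape.up ℤ) (n + 1)
            (K.X (n + 1))).hom ≫ 𝟙 _ := HomologicalComplex.mkHomFromSingle_f _ _
        rw [this]
        infer_instance
      rw [← cancel_epi (f.f (n + 1)), h0, comp_zero]
    · exact IsZero.of_epi ((cokernel.π f).f i) (K.isZero_of_isStrictlyLE (n + 1) i (by omega))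
  exact ⟨cokernel f, hN0, hNn, f, cokernel.π f, triangleOfSESδ hS, triangleOfSES_distinguished hS⟩

end Top

section Main

variable {A : Type u} [Category.{v} A] [Abelian A] [HasDerivedCategory.{w} A]
  {D : Type*} [Category D] [Preadditive D] [HasZeroObject D] [HasShift D ℤ]
  [∀ n : ℤ, (shiftFunctor D n).Additive] [Pretriangulated D]
  (F F' : DerivedCategory.Bounded A ⥤ D) [F.CommShift ℤ] [F.IsTriangulated]
  [F'.CommShift ℤ] [F'.IsTriangulated]
  (α : DEquiv.singleB A ⋙ F ≅ DEquiv.singleB A ⋙ F')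

open DerivedCategory DerivedCategory.TStructure

instance : (DEquiv.singleB A).Full := by
  unfold DEquiv.singleB
  infer_instance

instance : (DEquiv.singleB A).Faithful := by
  unfold DEquiv.singleB
  infer_instance

variable (hV : ∀ (X Y : A) (p : ℤ), 0 < p →
  ∀ f : (F.obj ((DEquiv.singleB A).obj X))⟦p⟧ ⟶ F'.obj ((DEquiv.singleB A).obj Y), f = 0)

include hV in
lemma good_of_complex (n : ℕ) : ∀ (m : ℤ) (_ : m = (n : ℤ)) (K : CochainComplex A ℤ)
    [K.IsStrictlyGE 0] [K.IsStrictlyLE m]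
    (C : DerivedCategory.Bounded A) (_ : C.obj ≅ (Q.obj K)⟦m⟧),
    Nonempty (Tower.Good (DEquiv.singleB A) F F' α C) := by
  induction n with
  | zero =>
    intro m hm K _ _ C e
    obtain rfl : m = 0 := by simpa using hm
    obtain ⟨X, ⟨eK⟩⟩ := K.exists_iso_single 0
    let e' : C.obj ≅ ((DEquiv.singleB A).obj X).obj :=
      e ≪≫ (shiftFunctorZero (DerivedCategory A) ℤ).app _ ≪≫ Q.mapIso eK
    let eC : C ≅ (DEquiv.singleB A).obj X :=
      (t : Triangulated.TStructure (DerivedCategory A)).bounded.fullyFaithfulι.preimageIso e'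
    exact ⟨Tower.goodOfIso _ F F' α eC.symm (Tower.goodBase _ F F' α hV X)⟩
  | succ n ih =>
    intro m hm K _ _ C e
    obtain rfl : m = (n : ℤ) + 1 := by simpa using hm
    obtain ⟨N, hN0, hNn, f, g, δ, hT⟩ := top_triangle K (n : ℤ) (by positivity)
    have hbN : (t : Triangulated.TStructure (DerivedCategory A)).bounded ((Q.obj N)⟦(n : ℤ)⟧) :=
      (t : Triangulated.TStructure (DerivedCategory A)).bounded.le_shift (n : ℤ) _
        ⟨⟨0, inferInstance⟩, ⟨(n : ℤ), inferInstance⟩⟩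
    let CN : DerivedCategory.Bounded A := ⟨(Q.obj N)⟦(n : ℤ)⟧, hbN⟩
    obtain ⟨gN⟩ := ih (n : ℤ) rfl N CN (Iso.refl _)
    have hT₁ := Triangle.shift_distinguished _ (inv_rot_of_distTriang _ hT) ((n : ℤ) + 1)
    let e₁ : ((Q.obj N)⟦(-1 : ℤ)⟧)⟦(n : ℤ) + 1⟧ ≅ CN.obj :=
      (shiftFunctorAdd' (DerivedCategory A) (-1) ((n : ℤ) + 1) (n : ℤ) (by omega)).symm.app
        (Q.obj N)
    let e₂ : ((singleFunctor A ((n : ℤ) + 1)).obj (K.X ((n : ℤ) + 1)))⟦(n : ℤ) + 1⟧ ≅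
        ((DEquiv.singleB A).obj (K.X ((n : ℤ) + 1))).obj :=
      ((DerivedCategory.singleFunctors A).shiftIso ((n : ℤ) + 1) 0 ((n : ℤ) + 1) (by omega)).app
        (K.X ((n : ℤ) + 1))
    obtain ⟨ψ, ι', ρ, hT'⟩ := lift_triangle (t : Triangulated.TStructure (DerivedCategory A)).bounded _ hT₁
      CN ((DEquiv.singleB A).obj (K.X ((n : ℤ) + 1))) C e₁ e₂ e.symm
    exact Tower.good_step _ F F' α hV ψ ι' ρ hT' gN

include α in
omit [F.CommShift ℤ] [F.IsTriangulated] [F'.CommShift ℤ] [F'.IsTriangulated] in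
lemma hV_of_h2
    (h2 : ∀ (X Y : A) (q : ℤ), q < 0 →
      ∀ f : F.obj ((DEquiv.singleB A).obj X) ⟶
        (shiftFunctor D q).obj (F.obj ((DEquiv.singleB A).obj Y)), f = 0)
    (X Y : A) (p : ℤ) (hp : 0 < p)
    (f : (F.obj ((DEquiv.singleB A).obj X))⟦p⟧ ⟶ F'.obj ((DEquiv.singleB A).obj Y)) : f = 0 := by
  let g : (F.obj ((DEquiv.singleB A).obj X))⟦p⟧ ⟶ F.obj ((DEquiv.singleB A).obj Y) :=
    f ≫ α.inv.app Y
  let u : F.obj ((DEquiv.singleB A).obj X) ≅ ((F.obj ((DEquiv.singleB A).obj X))⟦p⟧)⟦-p⟧ :=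
    ((shiftFunctorCompIsoId D p (-p) (by omega)).app _).symm
  have h0 : u.hom ≫ g⟦-p⟧' = 0 := h2 X Y (-p) (by omega) _
  have h1 : g⟦-p⟧' = 0 := (Iso.cancel_iso_hom_left u _ 0).1 (by rw [h0, comp_zero])
  have h3 : g = 0 := (shiftFunctor D (-p)).map_injective (by rw [h1, Functor.map_zero])
  have h4 : f = g ≫ α.hom.app Y := by
    dsimp only [g]
    rw [Category.assoc, Iso.inv_hom_id_app]
    exact (Category.comp_id f).symm
  rw [h4, h3, zero_comp]

include α in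
theorem siblings
    (h2 : ∀ (X Y : A) (q : ℤ), q < 0 →
      ∀ f : F.obj ((DEquiv.singleB A).obj X) ⟶
        (shiftFunctor D q).obj (F.obj ((DEquiv.singleB A).obj Y)), f = 0)
    (K : DerivedCategory.Bounded A) : Nonempty (F.obj K ≅ F'.obj K) := by
  obtain ⟨⟨a, ha⟩, ⟨b, hb⟩⟩ := K.property
  let n : ℕ := (b - a).toNat
  haveI : K.obj.IsGE a := ha
  haveI : K.obj.IsLE (a + n) :=
    (t : Triangulated.TStructure (DerivedCategory A)).isLE_of_le K.obj b (a + n) (by omega)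
  obtain ⟨K₀, h₁, h₂, ⟨eK⟩⟩ := exists_iso_Q_obj_of_isGE_of_isLE K.obj a (a + n)
  haveI : (K₀⟦a⟧).IsStrictlyGE 0 := K₀.isStrictlyGE_shift a a 0 (by omega)
  haveI : (K₀⟦a⟧).IsStrictlyLE (n : ℤ) := K₀.isStrictlyLE_shift (a + n) a n rfl
  let e : (K⟦a + n⟧).obj ≅ (Q.obj (K₀⟦a⟧))⟦(n : ℤ)⟧ :=
    ((t : Triangulated.TStructure (DerivedCategory A)).bounded.ι.commShiftIso (a + n)).app K ≪≫
      (shiftFunctor (DerivedCategory A) (a + n)).mapIso eK ≪≫
      (shiftFunctorAdd' (DerivedCategory A) a n (a + n) rfl).app (Q.obj K₀) ≪≫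
      (shiftFunctor (DerivedCategory A) (n : ℤ)).mapIso ((Q.commShiftIso a).app K₀).symm
  obtain ⟨g⟩ := good_of_complex F F' α (hV_of_h2 F F' α h2) n n rfl (K₀⟦a⟧) (K⟦a + n⟧) e
  exact Tower.nonempty_iso_of_shift F F' K (a + n) ⟨g.θ⟩

end Main

end Groth.Agent.H23.Sibling
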