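import Mathlib
import Groth.Prelude.Def_W4stkfunctorsequivSib
import Groth.Agent.H23.Sibling
import Groth.Agent.H23.FF

/-!
# Siblings of fully faithful functors are fully faithful (helper23)
-/

open CategoryTheory CategoryTheory.Limits CategoryTheory.Pretriangulated

universe w v u

namespace Groth.Agent.H23.SiblingFF

open Groth.Agent.H23.Sibling

section Lift

variable {𝒞 : Type*} [Category 𝒞] [Preadditive 𝒞] [HasZeroObject 𝒞] [HasShift 𝒞 ℤ]
  [∀ n : ℤ, (shiftFunctor 𝒞 n).Additive] [Pretriangulated 𝒞]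
  (P : ObjectProperty 𝒞) [P.IsTriangulated]

lemma lift_triangle' (X₁ X₂ X₃ : P.FullSubcategory) (f : X₁ ⟶ X₂) (g : X₂ ⟶ X₃)
    (h : X₃.obj ⟶ X₁.obj⟦(1 : ℤ)⟧)
    (hT : Triangle.mk (P.ι.map f) (P.ι.map g) h ∈ distTriang 𝒞) :
    ∃ h' : X₃ ⟶ X₁⟦(1 : ℤ)⟧, Triangle.mk f g h' ∈ distTriang P.FullSubcategory := by
  refine ⟨P.fullyFaithfulι.preimage (h ≫ (P.ι.commShiftIso (1 : ℤ)).inv.app X₁), ?_⟩
  change P.ι.mapTriangle.obj (Triangle.mk _ _ _) ∈ distTriang 𝒞
  refine isomorphic_distinguished _ hT _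
    (Triangle.isoMk _ _ (Iso.refl _) (Iso.refl _) (Iso.refl _) ?_ ?_ ?_)
  · show P.ι.map f ≫ 𝟙 _ = 𝟙 _ ≫ P.ι.map f
    simp
  · show P.ι.map g ≫ 𝟙 _ = 𝟙 _ ≫ P.ι.map g
    simp
  · show ((h ≫ (P.ι.commShiftIso (1 : ℤ)).inv.app X₁) ≫
      (P.ι.commShiftIso (1 : ℤ)).hom.app X₁) ≫ (𝟙 _)⟦(1 : ℤ)⟧' = 𝟙 _ ≫ h
    simp

end Lift

section Bounded

variable {A : Type u} [Category.{v} A] [Abelian A] [HasDerivedCategory.{w} A]

open DerivedCategory DerivedCategory.TStructure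

/-- dévissage of `D^b(A)` by stupid truncations -/
theorem induction_bounded (𝒢 : DerivedCategory.Bounded A → Prop)
    (h_iso : ∀ {K K' : DerivedCategory.Bounded A} (_ : K ≅ K'), 𝒢 K → 𝒢 K')
    (h_shift : ∀ (K : DerivedCategory.Bounded A) (m : ℤ), 𝒢 K → 𝒢 (K⟦m⟧))
    (h_ext : ∀ (T : Triangle (DerivedCategory.Bounded A)),
      T ∈ distTriang (DerivedCategory.Bounded A) → 𝒢 T.obj₁ → 𝒢 T.obj₃ → 𝒢 T.obj₂)
    (h_single : ∀ X : A, 𝒢 ((DEquiv.singleB A).obj X)) :
    ∀ K : DerivedCategory.Bounded A, 𝒢 K := by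
  have key : ∀ (n : ℕ) (m : ℤ) (_ : m = (n : ℤ)) (K : CochainComplex A ℤ)
      [K.IsStrictlyGE 0] [K.IsStrictlyLE m]
      (C : DerivedCategory.Bounded A) (_ : C.obj ≅ Q.obj K), 𝒢 C := by
    intro n
    induction n with
    | zero =>
      intro m hm K _ _ C e
      obtain rfl : m = 0 := by simpa using hm
      obtain ⟨X, ⟨eK⟩⟩ := K.exists_iso_single 0
      let e' : C.obj ≅ ((DEquiv.singleB A).obj X).obj := e ≪≫ Q.mapIso eK
      let eC : C ≅ (DEquiv.singleB A).obj X :=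
        (t : Triangulated.TStructure (DerivedCategory A)).bounded.fullyFaithfulι.preimageIso e'
      exact h_iso eC.symm (h_single X)
    | succ n ih =>
      intro m hm K _ _ C e
      obtain rfl : m = (n : ℤ) + 1 := by simpa using hm
      obtain ⟨N, hN0, hNn, f, g, δ, hT⟩ := top_triangle K (n : ℤ) (by positivity)
      let CN : DerivedCategory.Bounded A :=
        ⟨Q.obj N, ⟨⟨0, inferInstance⟩, ⟨(n : ℤ), inferInstance⟩⟩⟩
      have hCN : 𝒢 CN := ih (n : ℤ) rfl N CN (Iso.refl _)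
      let X₁ : DerivedCategory.Bounded A :=
        ((DEquiv.singleB A).obj (K.X ((n : ℤ) + 1)))⟦-((n : ℤ) + 1)⟧
      have hX₁ : 𝒢 X₁ := h_shift _ _ (h_single _)
      let e₁ : (singleFunctor A ((n : ℤ) + 1)).obj (K.X ((n : ℤ) + 1)) ≅ X₁.obj :=
        (((DerivedCategory.singleFunctors A).shiftIso (-((n : ℤ) + 1)) ((n : ℤ) + 1) 0
          (by omega)).app (K.X ((n : ℤ) + 1))).symm ≪≫
        (((t : Triangulated.TStructure (DerivedCategory A)).bounded.ι.commShiftIso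
          (-((n : ℤ) + 1))).app ((DEquiv.singleB A).obj (K.X ((n : ℤ) + 1)))).symm
      obtain ⟨ψ, ι', ρ, hT'⟩ := lift_triangle
        (t : Triangulated.TStructure (DerivedCategory A)).bounded _ hT
        X₁ C CN e₁ e.symm (Iso.refl _)
      exact h_ext _ hT' hX₁ hCN
  intro K
  obtain ⟨⟨a, ha⟩, ⟨b, hb⟩⟩ := K.property
  let n : ℕ := (b - a).toNat
  haveI : K.obj.IsGE a := ha
  haveI : K.obj.IsLE (a + n) :=
    (t : Triangulated.TStructure (DerivedCategory A)).isLE_of_le K.obj b (a + n) (by omega)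
  obtain ⟨K₀, h₁, h₂, ⟨eK⟩⟩ := exists_iso_Q_obj_of_isGE_of_isLE K.obj a (a + n)
  haveI : (K₀⟦a⟧).IsStrictlyGE 0 := K₀.isStrictlyGE_shift a a 0 (by omega)
  haveI : (K₀⟦a⟧).IsStrictlyLE (n : ℤ) := K₀.isStrictlyLE_shift (a + n) a n rfl
  let e : (K⟦a⟧).obj ≅ Q.obj (K₀⟦a⟧) :=
    ((t : Triangulated.TStructure (DerivedCategory A)).bounded.ι.commShiftIso a).app K ≪≫
      (shiftFunctor (DerivedCategory A) a).mapIso eK ≪≫ ((Q.commShiftIso a).app K₀).symm
  have h1 : 𝒢 (K⟦a⟧) := key n n rfl (K₀⟦a⟧) (K⟦a⟧) e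
  exact h_iso ((shiftFunctorCompIsoId (DerivedCategory.Bounded A) a (-a) (by omega)).app K)
    (h_shift _ (-a) h1)

end Bounded

section Efface

variable {A : Type u} [Category.{v} A] [Abelian A] [HasDerivedCategory.{w} A]

open DerivedCategory DerivedCategory.TStructure

/-- a quasi-isomorphism from a complex strictly `≤ 0` to a single complex is epi in degree `0` -/
lemma epi_f_zero (X : A) (K' : CochainComplex A ℤ) [K'.IsStrictlyLE 0]
    (s : K' ⟶ (HomologicalComplex.single A (ComplexShape.up ℤ) 0).obj X) [QuasiIso s] :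
    Epi (s.f 0) := by
  let S := (HomologicalComplex.single A (ComplexShape.up ℤ) 0).obj X
  haveI : IsIso (K'.iCycles 0) := K'.isIso_iCycles 0 1 (by simp)
    ((K'.isZero_of_isStrictlyLE 0 1 (by omega)).eq_of_tgt _ _)
  haveI : IsIso (S.iCycles 0) := S.isIso_iCycles 0 1 (by simp) (by simp [S])
  haveI : IsIso (S.homologyπ 0) := S.isIso_homologyπ (-1) 0 (by simp) (by simp [S])
  have e1 : HomologicalComplex.cyclesMap s 0 =
      K'.homologyπ 0 ≫ HomologicalComplex.homologyMap s 0 ≫ inv (S.homologyπ 0) := by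
    rw [← Category.assoc, IsIso.eq_comp_inv, HomologicalComplex.homologyπ_naturality]
  haveI : Epi (HomologicalComplex.cyclesMap s 0) := by rw [e1]; infer_instance
  have e2 : s.f 0 = inv (K'.iCycles 0) ≫ HomologicalComplex.cyclesMap s 0 ≫ S.iCycles 0 := by
    rw [IsIso.eq_inv_comp, HomologicalComplex.cyclesMap_i]
  rw [e2]
  infer_instance

lemma efface_D (X : A) (L : CochainComplex A ℤ) (hL : IsZero (L.X 0))
    (ξ : (singleFunctor A 0).obj X ⟶ Q.obj L) :
    ∃ (X' : A) (p : X' ⟶ X), Epi p ∧ (singleFunctor A 0).map p ≫ ξ = 0 := by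
  obtain ⟨K', hK', s, hs, g, hfac⟩ := right_fac_of_isStrictlyLE
    (X := (HomologicalComplex.single A (ComplexShape.up ℤ) 0).obj X) (Y := L) ξ 0
  haveI : QuasiIso s := (isIso_Q_map_iff_quasiIso A s).1 hs
  let j : (HomologicalComplex.single A (ComplexShape.up ℤ) 0).obj (K'.X 0) ⟶ K' :=
    HomologicalComplex.mkHomFromSingle (𝟙 _) (fun k hk =>
      (K'.isZero_of_isStrictlyLE 0 k (by simp at hk; omega)).eq_of_tgt _ _)
  let p : K'.X 0 ⟶ X :=
    s.f 0 ≫ (HomologicalComplex.singleObjXSelf (ComplexShape.up ℤ) 0 X).hom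
  have hjs : j ≫ s = (HomologicalComplex.single A (ComplexShape.up ℤ) 0).map p := by
    apply HomologicalComplex.from_single_hom_ext
    rw [HomologicalComplex.comp_f, HomologicalComplex.mkHomFromSingle_f,
      HomologicalComplex.single_map_f_self]
    simp [p]
  have hjg : j ≫ g = 0 := by
    apply HomologicalComplex.from_single_hom_ext
    exact hL.eq_of_tgt _ _
  haveI : Epi (s.f 0) := epi_f_zero X K' s
  refine ⟨K'.X 0, p, epi_comp _ _, ?_⟩
  have h1 : (singleFunctor A 0).map p = Q.map (j ≫ s) := by rw [hjs]; rfl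
  have key : Q.map (j ≫ s) ≫ inv (Q.map s) ≫ Q.map g = 0 := by
    rw [Q.map_comp, Category.assoc, IsIso.hom_inv_id_assoc, ← Q.map_comp, hjg, Q.map_zero]
  rw [h1, hfac]
  exact key

lemma efface_B (X Y : A) (q : ℤ) (hq : 0 < q)
    (ξ : (DEquiv.singleB A).obj X ⟶ ((DEquiv.singleB A).obj Y)⟦q⟧) :
    ∃ (X' : A) (p : X' ⟶ X), Epi p ∧ (DEquiv.singleB A).map p ≫ ξ = 0 := by
  let ι := (t : Triangulated.TStructure (DerivedCategory A)).bounded.ι
  let L : CochainComplex A ℤ := ((HomologicalComplex.single A (ComplexShape.up ℤ) 0).obj Y)⟦q⟧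
  have hL : IsZero (L.X 0) := by
    show IsZero (((HomologicalComplex.single A (ComplexShape.up ℤ) 0).obj Y).X (0 + q))
    exact HomologicalComplex.isZero_single_obj_X _ _ _ _ (by omega)
  let e₁ : ι.obj (((DEquiv.singleB A).obj Y)⟦q⟧) ≅ ((singleFunctor A 0).obj Y)⟦q⟧ :=
    (ι.commShiftIso q).app ((DEquiv.singleB A).obj Y)
  let e₂ : ((singleFunctor A 0).obj Y)⟦q⟧ ≅ Q.obj L :=
    ((Q.commShiftIso q).app ((HomologicalComplex.single A (ComplexShape.up ℤ) 0).obj Y)).symm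
  let ξ' : (singleFunctor A 0).obj X ⟶ Q.obj L := ι.map ξ ≫ e₁.hom ≫ e₂.hom
  obtain ⟨X', p, hp, h⟩ := efface_D X L hL ξ'
  refine ⟨X', p, hp, ι.map_injective ?_⟩
  have h' : (singleFunctor A 0).map p ≫ ι.map ξ ≫ e₁.hom ≫ e₂.hom = 0 := h
  have h'' : (singleFunctor A 0).map p ≫ ι.map ξ = 0 := by
    have := congrArg (fun t => t ≫ e₂.inv ≫ e₁.inv) h'
    simpa using this
  rw [ι.map_comp, Functor.map_zero]
  exact h''

/-- negative Ext groups vanish -/
lemma neg_vanish (X Y : A) (q : ℤ) (hq : q < 0)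
    (ξ : (DEquiv.singleB A).obj X ⟶ ((DEquiv.singleB A).obj Y)⟦q⟧) : ξ = 0 := by
  let ι := (t : Triangulated.TStructure (DerivedCategory A)).bounded.ι
  let e₁ : ι.obj (((DEquiv.singleB A).obj Y)⟦q⟧) ≅ ((singleFunctor A 0).obj Y)⟦q⟧ :=
    (ι.commShiftIso q).app ((DEquiv.singleB A).obj Y)
  apply ι.map_injective
  rw [Functor.map_zero, ← cancel_mono e₁.hom, zero_comp]
  haveI : (t : Triangulated.TStructure (DerivedCategory A)).IsGE
      (((singleFunctor A 0).obj Y)⟦q⟧) (-q) :=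
    (t : Triangulated.TStructure (DerivedCategory A)).isGE_shift _ 0 q (-q) (by omega)
  exact (t : Triangulated.TStructure (DerivedCategory A)).zero_of_isLE_of_isGE
    (X := (singleFunctor A 0).obj X) (Y := ((singleFunctor A 0).obj Y)⟦q⟧) _ 0 (-q) (by omega)
    inferInstance inferInstance

/-- the triangle in `D^b(A)` of an epimorphism in `A` -/
lemma ses_triangle {X' X : A} (p : X' ⟶ X) [Epi p] :
    ∃ (X'' : A) (i : X'' ⟶ X')
      (δ : (DEquiv.singleB A).obj X ⟶ ((DEquiv.singleB A).obj X'')⟦(1 : ℤ)⟧),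
      Triangle.mk ((DEquiv.singleB A).map i) ((DEquiv.singleB A).map p) δ ∈
        distTriang (DerivedCategory.Bounded A) := by
  let S : ShortComplex A := ShortComplex.mk (kernel.ι p) p (kernel.condition p)
  have hS : S.ShortExact := ShortComplex.ShortExact.mk' (ShortComplex.exact_kernel p)
    (by dsimp [S]; infer_instance) (by dsimp [S]; infer_instance)
  obtain ⟨δ, hδ⟩ := lift_triangle' (t : Triangulated.TStructure (DerivedCategory A)).bounded
    ((DEquiv.singleB A).obj (kernel p)) ((DEquiv.singleB A).obj X') ((DEquiv.singleB A).obj X)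
    ((DEquiv.singleB A).map (kernel.ι p)) ((DEquiv.singleB A).map p) hS.singleδ
    hS.singleTriangle_distinguished
  exact ⟨kernel p, kernel.ι p, δ, hδ⟩

end Efface

section Main

variable {A : Type u} [Category.{v} A] [Abelian A] [HasDerivedCategory.{w} A]
  {D : Type*} [Category D] [Preadditive D] [HasZeroObject D] [HasShift D ℤ]
  [∀ n : ℤ, (shiftFunctor D n).Additive] [Pretriangulated D]
  (F F' : DerivedCategory.Bounded A ⥤ D) [F.CommShift ℤ] [F.IsTriangulated]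
  [F'.CommShift ℤ] [F'.IsTriangulated]
  (α : DEquiv.singleB A ⋙ F ≅ DEquiv.singleB A ⋙ F')
  (β : ∀ K : DerivedCategory.Bounded A, Nonempty (F.obj K ≅ F'.obj K))

omit [F.CommShift ℤ] [F.IsTriangulated] [F'.CommShift ℤ] [F'.IsTriangulated] in
/-- naturality of `α` -/
lemma map_eq (X' X : A) (p : X' ⟶ X) :
    F'.map ((DEquiv.singleB A).map p) =
      α.inv.app X' ≫ F.map ((DEquiv.singleB A).map p) ≫ α.hom.app X := by
  have h := α.hom.naturality p
  have h2 : α.inv.app X' ≫ (α.hom.app X' ≫ (DEquiv.singleB A ⋙ F').map p) =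
      (DEquiv.singleB A ⋙ F').map p := Iso.inv_hom_id_app_assoc α X' _
  rw [← h] at h2
  exact h2.symm

variable [F.Full] [F.Faithful]

include α β in
omit [F.CommShift ℤ] [F.IsTriangulated] [F'.CommShift ℤ] [F'.IsTriangulated] [F.Faithful] in
lemma transfer (X : A) (M : DerivedCategory.Bounded A)
    (ζ : F'.obj ((DEquiv.singleB A).obj X) ⟶ F'.obj M) :
    ∃ ξ : (DEquiv.singleB A).obj X ⟶ M, ∀ (X' : A) (p : X' ⟶ X),
      (DEquiv.singleB A).map p ≫ ξ = 0 → F'.map ((DEquiv.singleB A).map p) ≫ ζ = 0 := by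
  obtain ⟨b⟩ := β M
  refine ⟨F.preimage (α.hom.app X ≫ ζ ≫ b.inv), fun X' p hp => ?_⟩
  have h1 : F.map ((DEquiv.singleB A).map p) ≫ α.hom.app X ≫ ζ ≫ b.inv = 0 := by
    have := congrArg F.map hp
    rw [F.map_comp, F.map_preimage, F.map_zero] at this
    exact this
  have h2 : F.map ((DEquiv.singleB A).map p) ≫ α.hom.app X ≫ ζ = 0 := by
    have := congrArg (fun t => t ≫ b.hom) h1
    simpa using this
  rw [map_eq F F' α, Category.assoc, Category.assoc, h2, comp_zero]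

include α β in
lemma bij_neg (X Y : A) (q : ℤ) (hq : q < 0) :
    FF.BijOn F' ((DEquiv.singleB A).obj X) (((DEquiv.singleB A).obj Y)⟦q⟧) := by
  constructor
  · intro ξ₁ ξ₂ _
    rw [neg_vanish X Y q hq ξ₁, neg_vanish X Y q hq ξ₂]
  · intro ζ
    obtain ⟨ξ, hξ⟩ := transfer F F' α β X _ ζ
    refine ⟨0, ?_⟩
    have := hξ X (𝟙 X) (by rw [neg_vanish X Y q hq ξ, comp_zero])
    dsimp only
    rw [F'.map_zero]
    simpa using this.symm

include α in
omit [F.CommShift ℤ] [F.IsTriangulated] [F'.CommShift ℤ] [F'.IsTriangulated] in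
lemma bij_zero (X Y : A) :
    FF.BijOn F' ((DEquiv.singleB A).obj X) ((DEquiv.singleB A).obj Y) := by
  constructor
  · intro g₁ g₂ hg
    obtain ⟨f₁, rfl⟩ := (DEquiv.singleB A).map_surjective g₁
    obtain ⟨f₂, rfl⟩ := (DEquiv.singleB A).map_surjective g₂
    dsimp only at hg
    rw [map_eq F F' α, map_eq F F' α] at hg
    have h2 : F.map ((DEquiv.singleB A).map f₁) = F.map ((DEquiv.singleB A).map f₂) := by
      have := congrArg (fun t => α.hom.app X ≫ t ≫ α.inv.app Y) hg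
      simpa using this
    exact F.map_injective h2
  · intro ζ
    obtain ⟨f, hf⟩ := (DEquiv.singleB A).map_surjective
      (F.preimage (α.hom.app X ≫ ζ ≫ α.inv.app Y))
    refine ⟨(DEquiv.singleB A).map f, ?_⟩
    dsimp only
    rw [map_eq F F' α, hf, F.map_preimage]
    simp

omit [F'.IsTriangulated] in
lemma bij_shift_one (Y : A) (q : ℤ) (Z : A)
    (h : FF.BijOn F' ((DEquiv.singleB A).obj Z) (((DEquiv.singleB A).obj Y)⟦q⟧)) :
    FF.BijOn F' (((DEquiv.singleB A).obj Z)⟦(1 : ℤ)⟧) (((DEquiv.singleB A).obj Y)⟦q + 1⟧) :=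
  FF.bijOn_of_iso F' (Iso.refl _)
    ((shiftFunctorAdd' (DerivedCategory.Bounded A) q 1 (q + 1) rfl).symm.app _)
    (FF.bijOn_shift F' 1 h)

include α β in
lemma bij_step (Y : A) (q : ℤ) (hq : 0 ≤ q)
    (h : ∀ Z : A, FF.BijOn F' ((DEquiv.singleB A).obj Z) (((DEquiv.singleB A).obj Y)⟦q⟧))
    (X : A) :
    FF.BijOn F' ((DEquiv.singleB A).obj X) (((DEquiv.singleB A).obj Y)⟦q + 1⟧) := by
  have h' : ∀ Z : A, FF.BijOn F' (((DEquiv.singleB A).obj Z)⟦(1 : ℤ)⟧)
      (((DEquiv.singleB A).obj Y)⟦q + 1⟧) := fun Z => bij_shift_one F' Y q Z (h Z)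
  constructor
  · suffices H : ∀ ξ : (DEquiv.singleB A).obj X ⟶ ((DEquiv.singleB A).obj Y)⟦q + 1⟧,
        F'.map ξ = 0 → ξ = 0 by
      intro ξ₁ ξ₂ hξ
      dsimp only at hξ
      rw [← sub_eq_zero]
      apply H
      rw [F'.map_sub, hξ, sub_self]
    intro ξ hξ
    obtain ⟨X', p, hp, hpξ⟩ := efface_B X Y (q + 1) (by omega) ξ
    obtain ⟨X'', i, δ, hT⟩ := ses_triangle p
    obtain ⟨ξ', hξ'⟩ : ∃ ξ' : ((DEquiv.singleB A).obj X'')⟦(1 : ℤ)⟧ ⟶
        ((DEquiv.singleB A).obj Y)⟦q + 1⟧, ξ = δ ≫ ξ' :=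
      Triangle.yoneda_exact₃ _ hT ξ hpξ
    have hrr := rot_of_distTriang _ (rot_of_distTriang _ hT)
    have hGrr := F'.map_distinguished _ hrr
    have h2 : F'.map δ ≫ F'.map ξ' = 0 := by rw [← F'.map_comp, ← hξ', hξ]
    obtain ⟨i', hi'0, hex⟩ : ∃ i' : ((DEquiv.singleB A).obj X'')⟦(1 : ℤ)⟧ ⟶
        ((DEquiv.singleB A).obj X')⟦(1 : ℤ)⟧, δ ≫ i' = 0 ∧
        ∀ y : F'.obj (((DEquiv.singleB A).obj X'')⟦(1 : ℤ)⟧) ⟶
          F'.obj (((DEquiv.singleB A).obj Y)⟦q + 1⟧), F'.map δ ≫ y = 0 →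
          ∃ g : F'.obj (((DEquiv.singleB A).obj X')⟦(1 : ℤ)⟧) ⟶
            F'.obj (((DEquiv.singleB A).obj Y)⟦q + 1⟧), y = F'.map i' ≫ g :=
      ⟨(Triangle.mk ((DEquiv.singleB A).map i) ((DEquiv.singleB A).map p) δ).rotate.rotate.mor₂,
        comp_distTriang_mor_zero₁₂ _ hrr, fun y hy => Triangle.yoneda_exact₂ _ hGrr y hy⟩
    obtain ⟨g, hg⟩ := hex _ h2
    obtain ⟨η, hη⟩ := (h' X').2 g
    dsimp only at hη
    have h3 : ξ' = i' ≫ η := (h' X'').1 (by
      dsimp only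
      rw [hg, F'.map_comp, hη])
    rw [hξ', h3, reassoc_of% hi'0, zero_comp]
  · intro ζ
    obtain ⟨ξ, hξ⟩ := transfer F F' α β X _ ζ
    obtain ⟨X', p, hp, hpξ⟩ := efface_B X Y (q + 1) (by omega) ξ
    obtain ⟨X'', i, δ, hT⟩ := ses_triangle p
    have h1 := hξ X' p hpξ
    have hGr := F'.map_distinguished _ (rot_of_distTriang _ hT)
    obtain ⟨g, hg⟩ : ∃ g : F'.obj (((DEquiv.singleB A).obj X'')⟦(1 : ℤ)⟧) ⟶
        F'.obj (((DEquiv.singleB A).obj Y)⟦q + 1⟧), ζ = F'.map δ ≫ g :=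
      Triangle.yoneda_exact₂ _ hGr ζ h1
    obtain ⟨η, hη⟩ := (h' X'').2 g
    dsimp only at hη
    exact ⟨δ ≫ η, by dsimp only; rw [F'.map_comp, hη, hg]⟩

include α β in
lemma bij_all (Y : A) (q : ℤ) :
    ∀ X : A, FF.BijOn F' ((DEquiv.singleB A).obj X) (((DEquiv.singleB A).obj Y)⟦q⟧) := by
  rcases lt_or_ge q 0 with hq | hq
  · exact fun X => bij_neg F F' α β X Y q hq
  · obtain ⟨n, rfl⟩ := Int.eq_ofNat_of_zero_le hq
    clear hq
    induction n with
    | zero =>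
      intro X
      exact FF.bijOn_of_iso F' (Iso.refl _)
        ((shiftFunctorZero (DerivedCategory.Bounded A) ℤ).symm.app _) (bij_zero F F' α X Y)
    | succ n ih =>
      intro X
      exact bij_step F F' α β Y (n : ℤ) (by positivity) ih X

include α β in
theorem full_faithful : F'.Full ∧ F'.Faithful := by
  have step1 : ∀ X Y : A,
      FF.Good F' ((DEquiv.singleB A).obj X) ((DEquiv.singleB A).obj Y) := fun X Y a b =>
    FF.bijOn_of_iso F' (Iso.refl _)
      ((shiftFunctorAdd' (DerivedCategory.Bounded A) (b - a) a b (by omega)).symm.app _)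
      (FF.bijOn_shift F' a (bij_all F F' α β Y (b - a) X))
  have step2 : ∀ (X : A) (L : DerivedCategory.Bounded A),
      FF.Good F' ((DEquiv.singleB A).obj X) L := fun X =>
    induction_bounded (fun L => FF.Good F' ((DEquiv.singleB A).obj X) L)
      (fun e h => FF.good_of_iso F' (Iso.refl _) e h)
      (fun L m h => FF.good_shift_right F' m h)
      (fun T hT h₁ h₃ => FF.good_ext_right F' T hT _ h₁ h₃)
      (fun Y => step1 X Y)
  have step3 : ∀ (L K : DerivedCategory.Bounded A), FF.Good F' K L := fun L =>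
    induction_bounded (fun K => FF.Good F' K L)
      (fun e h => FF.good_of_iso F' e (Iso.refl _) h)
      (fun K m h => FF.good_shift_left F' m h)
      (fun T hT h₁ h₃ => FF.good_ext_left F' T hT _ h₁ h₃)
      (fun X => step2 X L)
  have bij : ∀ K L, FF.BijOn F' K L := fun K L => FF.bijOn_of_good F' (step3 L K)
  exact ⟨⟨fun {K L} => (bij K L).2⟩, ⟨fun {K L} => (bij K L).1⟩⟩

end Main

end Groth.Agent.H23.SiblingFF
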