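import Mathlib
import Groth.Prelude.Def_W4stkfunctorsequivSib
import Groth.Agent.H23.SiblingFF

/-!
# Interface lemmas on `D^b(A)` for the negative-objects argument (helper23)
-/

open CategoryTheory CategoryTheory.Limits CategoryTheory.Pretriangulated

universe w v u

namespace Groth.Agent.H23.Neg

open Groth.Agent.H23.Sibling Groth.Agent.H23.SiblingFF
open DerivedCategory DerivedCategory.TStructure

section

variable (A : Type u) [Category.{v} A] [Abelian A] [HasDerivedCategory.{w} A]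

/-- the standard t-structure -/
noncomputable abbrev tt : Triangulated.TStructure (DerivedCategory A) := t

/-- `N ↦ N[m]` as a functor to `D^b(A)` -/
noncomputable abbrev S (m : ℤ) : A ⥤ DerivedCategory.Bounded A :=
  DEquiv.singleB A ⋙ shiftFunctor (DerivedCategory.Bounded A) m

end

variable {A : Type u} [Category.{v} A] [Abelian A] [HasDerivedCategory.{w} A]

/-- `K ∈ D^{≤ n}` -/
def LE (K : DerivedCategory.Bounded A) (n : ℤ) : Prop := (tt A).IsLE K.obj n

/-- `K ∈ D^{≥ n}` -/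
def GE (K : DerivedCategory.Bounded A) (n : ℤ) : Prop := (tt A).IsGE K.obj n

lemma LE.of_iso {K K' : DerivedCategory.Bounded A} {n : ℤ} (h : LE K n) (e : K ≅ K') :
    LE K' n := by
  haveI : (tt A).IsLE K.obj n := h
  have e' : K.obj ≅ K'.obj := (tt A).bounded.ι.mapIso e
  exact (tt A).isLE_of_iso e' n

lemma GE.of_iso {K K' : DerivedCategory.Bounded A} {n : ℤ} (h : GE K n) (e : K ≅ K') :
    GE K' n := by
  haveI : (tt A).IsGE K.obj n := h
  have e' : K.obj ≅ K'.obj := (tt A).bounded.ι.mapIso e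
  exact (tt A).isGE_of_iso e' n

lemma LE.mono {K : DerivedCategory.Bounded A} {n n' : ℤ} (h : LE K n) (hn : n ≤ n') :
    LE K n' := by
  haveI : (tt A).IsLE K.obj n := h
  exact (tt A).isLE_of_le K.obj n n' hn

lemma GE.mono {K : DerivedCategory.Bounded A} {n n' : ℤ} (h : GE K n) (hn : n' ≤ n) :
    GE K n' := by
  haveI : (tt A).IsGE K.obj n := h
  exact (tt A).isGE_of_ge K.obj n' n hn

lemma LE.shift {K : DerivedCategory.Bounded A} {n : ℤ} (h : LE K n) (a n' : ℤ)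
    (hn' : a + n' = n) : LE (K⟦a⟧) n' := by
  haveI : (tt A).IsLE K.obj n := h
  haveI : (tt A).IsLE (K.obj⟦a⟧) n' := (tt A).isLE_shift K.obj n a n' hn'
  have e' : K.obj⟦a⟧ ≅ (K⟦a⟧).obj := (((tt A).bounded.ι.commShiftIso a).app K).symm
  exact (tt A).isLE_of_iso e' n'

lemma GE.shift {K : DerivedCategory.Bounded A} {n : ℤ} (h : GE K n) (a n' : ℤ)
    (hn' : a + n' = n) : GE (K⟦a⟧) n' := by
  haveI : (tt A).IsGE K.obj n := h
  haveI : (tt A).IsGE (K.obj⟦a⟧) n' := (tt A).isGE_shift K.obj n a n' hn'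
  have e' : K.obj⟦a⟧ ≅ (K⟦a⟧).obj := (((tt A).bounded.ι.commShiftIso a).app K).symm
  exact (tt A).isGE_of_iso e' n'

lemma LE₂ (T : Triangle (DerivedCategory.Bounded A))
    (hT : T ∈ distTriang (DerivedCategory.Bounded A)) (n : ℤ)
    (h₁ : LE T.obj₁ n) (h₃ : LE T.obj₃ n) : LE T.obj₂ n :=
  (tt A).isLE₂ ((tt A).bounded.ι.mapTriangle.obj T) hT n h₁ h₃

lemma GE₂ (T : Triangle (DerivedCategory.Bounded A))
    (hT : T ∈ distTriang (DerivedCategory.Bounded A)) (n : ℤ)
    (h₁ : GE T.obj₁ n) (h₃ : GE T.obj₃ n) : GE T.obj₂ n :=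
  (tt A).isGE₂ ((tt A).bounded.ι.mapTriangle.obj T) hT n h₁ h₃

lemma orth {K L : DerivedCategory.Bounded A} {n m : ℤ} (hK : LE K n) (hL : GE L m)
    (hnm : n < m) (f : K ⟶ L) : f = 0 := by
  apply (tt A).bounded.ι.map_injective
  rw [Functor.map_zero]
  exact (tt A).zero_of_isLE_of_isGE ((tt A).bounded.ι.map f) n m hnm hK hL

lemma LE_S (m : ℤ) (N : A) (n : ℤ) (h : m + n = 0) : LE ((S A m).obj N) n := by
  have h0 : LE ((DEquiv.singleB A).obj N) 0 :=
    (inferInstance : (tt A).IsLE ((singleFunctor A 0).obj N) 0)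
  exact h0.shift m n h

lemma GE_S (m : ℤ) (N : A) (n : ℤ) (h : m + n = 0) : GE ((S A m).obj N) n := by
  have h0 : GE ((DEquiv.singleB A).obj N) 0 :=
    (inferInstance : (tt A).IsGE ((singleFunctor A 0).obj N) 0)
  exact h0.shift m n h

lemma hom_S_zero (m : ℤ) {N N' : A} (h : ∀ f : N ⟶ N', f = 0)
    (g : (S A m).obj N ⟶ (S A m).obj N') : g = 0 := by
  obtain ⟨f, rfl⟩ := (S A m).map_surjective g
  rw [h f, Functor.map_zero]

/-- the isomorphism `N[m][1] ≅ N[m+1]` -/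
noncomputable def σ (m m' : ℤ) (h : m + 1 = m') (N : A) :
    ((S A m).obj N)⟦(1 : ℤ)⟧ ≅ (S A m').obj N :=
  (shiftFunctorAdd' (DerivedCategory.Bounded A) m 1 m' h).symm.app ((DEquiv.singleB A).obj N)

lemma exists_bounds (K : DerivedCategory.Bounded A) : ∃ a b : ℤ, GE K a ∧ LE K b := by
  obtain ⟨⟨a, ha⟩, ⟨b, hb⟩⟩ := K.property
  exact ⟨a, b, ha, hb⟩

/-- objects concentrated in one degree -/
lemma exists_iso_S {K : DerivedCategory.Bounded A} {b : ℤ} (h₁ : LE K b) (h₂ : GE K b) :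
    ∃ N : A, Nonempty (K ≅ (S A (-b)).obj N) := by
  haveI : (tt A).IsLE K.obj b := h₁
  haveI : (tt A).IsGE K.obj b := h₂
  obtain ⟨N, ⟨e⟩⟩ := exists_iso_singleFunctor_obj_of_isGE_of_isLE K.obj b
  let e₁ : (singleFunctor A b).obj N ≅ ((S A (-b)).obj N).obj :=
    (((DerivedCategory.singleFunctors A).shiftIso (-b) b 0 (by omega)).app N).symm ≪≫
      (((tt A).bounded.ι.commShiftIso (-b)).app ((DEquiv.singleB A).obj N)).symm
  exact ⟨N, ⟨(tt A).bounded.fullyFaithfulι.preimageIso (e ≪≫ e₁)⟩⟩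

/-- the stupid truncation triangle which splits off the top term of a complex (general bounds) -/
lemma top_triangle' (K : CochainComplex A ℤ) (a b : ℤ) [K.IsStrictlyGE a] [K.IsStrictlyLE b] :
    ∃ (N : CochainComplex A ℤ) (_ : N.IsStrictlyGE a) (_ : N.IsStrictlyLE (b - 1))
      (f : (HomologicalComplex.single A (ComplexShape.up ℤ) b).obj (K.X b) ⟶ K)
      (g : K ⟶ N)
      (δ : Q.obj N ⟶ (Q.obj ((HomologicalComplex.single A (ComplexShape.up ℤ) b).obj
        (K.X b)))⟦(1 : ℤ)⟧),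
      Triangle.mk (Q.map f) (Q.map g) δ ∈ distTriang (DerivedCategory A) := by
  let f : (HomologicalComplex.single A (ComplexShape.up ℤ) b).obj (K.X b) ⟶ K :=
    HomologicalComplex.mkHomFromSingle (𝟙 _) (fun k hk =>
      (K.isZero_of_isStrictlyLE b k (by simp at hk; omega)).eq_of_tgt _ _)
  have hfb : f.f b = (HomologicalComplex.singleObjXSelf (ComplexShape.up ℤ) b
      (K.X b)).hom ≫ 𝟙 _ := HomologicalComplex.mkHomFromSingle_f _ _
  have hf : ∀ i, Mono (f.f i) := fun i => by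
    by_cases hi : i = b
    · subst hi
      rw [hfb]
      infer_instance
    · exact (HomologicalComplex.isZero_single_obj_X (ComplexShape.up ℤ) _ _ _ hi).mono _
  haveI : Mono f := HomologicalComplex.mono_of_mono_f _ hf
  let S' : ShortComplex (CochainComplex A ℤ) := ShortComplex.mk f (cokernel.π f)
    (cokernel.condition f)
  have hS : S'.ShortExact := ShortComplex.ShortExact.mk' (ShortComplex.exact_cokernel f)
    (by dsimp [S']; infer_instance) (by dsimp [S']; infer_instance)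
  have hN0 : CochainComplex.IsStrictlyGE (cokernel f) a := by
    rw [CochainComplex.isStrictlyGE_iff]
    intro i hi
    exact IsZero.of_epi ((cokernel.π f).f i) (K.isZero_of_isStrictlyGE a i hi)
  have hNn : CochainComplex.IsStrictlyLE (cokernel f) (b - 1) := by
    rw [CochainComplex.isStrictlyLE_iff]
    intro i hi
    by_cases hi' : i = b
    · subst hi'
      apply IsZero.of_epi_eq_zero ((cokernel.π f).f i)
      have h0 : f.f i ≫ (cokernel.π f).f i = 0 := by
        rw [← HomologicalComplex.comp_f, cokernel.condition, HomologicalComplex.zero_f]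
      have hiso : IsIso (f.f i) := by
        rw [hfb]
        infer_instance
      rw [← cancel_epi (f.f i), h0, comp_zero]
    · exact IsZero.of_epi ((cokernel.π f).f i) (K.isZero_of_isStrictlyLE b i (by omega))
  exact ⟨cokernel f, hN0, hNn, f, cokernel.π f, triangleOfSESδ hS, triangleOfSES_distinguished hS⟩

/-- weak presentations: a map from `N₀[-b]` with cone in `D^{≤ b-1}` -/
lemma weakPres {K : DerivedCategory.Bounded A} {b : ℤ} (hK : LE K b) :
    ∃ (N₀ : A) (u₀ : (S A (-b)).obj N₀ ⟶ K) (Y₀ : DerivedCategory.Bounded A) (π : K ⟶ Y₀)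
      (d : Y₀ ⟶ ((S A (-b)).obj N₀)⟦(1 : ℤ)⟧),
      Triangle.mk u₀ π d ∈ distTriang (DerivedCategory.Bounded A) ∧ LE Y₀ (b - 1) := by
  obtain ⟨a, _, ha, _⟩ := exists_bounds K
  haveI : (tt A).IsLE K.obj b := hK
  haveI : (tt A).IsGE K.obj a := ha
  obtain ⟨K₀, h₁, h₂, ⟨eK⟩⟩ := exists_iso_Q_obj_of_isGE_of_isLE K.obj a b
  obtain ⟨N, hN0, hNn, f, g, δ, hT⟩ := top_triangle' K₀ a b
  let CN : DerivedCategory.Bounded A :=
    ⟨Q.obj N, ⟨⟨a, inferInstance⟩, ⟨b - 1, inferInstance⟩⟩⟩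
  let e₁ : (singleFunctor A b).obj (K₀.X b) ≅ ((S A (-b)).obj (K₀.X b)).obj :=
    (((DerivedCategory.singleFunctors A).shiftIso (-b) b 0 (by omega)).app (K₀.X b)).symm ≪≫
      (((tt A).bounded.ι.commShiftIso (-b)).app ((DEquiv.singleB A).obj (K₀.X b))).symm
  obtain ⟨ψ, ι', ρ, hT'⟩ := lift_triangle (tt A).bounded _ hT
    ((S A (-b)).obj (K₀.X b)) K CN e₁ eK.symm (Iso.refl _)
  exact ⟨K₀.X b, ψ, CN, ι', ρ, hT', (inferInstance : (tt A).IsLE (Q.obj N) (b - 1))⟩

/-- effaceability of maps from `N[-b]` to objects of `D^{≤ b-1}` -/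
lemma efface {N : A} {b : ℤ} {Z : DerivedCategory.Bounded A} (hZ : LE Z (b - 1))
    (g : (S A (-b)).obj N ⟶ Z) :
    ∃ (N₁ : A) (p : N₁ ⟶ N), Epi p ∧ (S A (-b)).map p ≫ g = 0 := by
  haveI : (tt A).IsLE Z.obj (b - 1) := hZ
  obtain ⟨Z₀, hZ₀, ⟨eZ⟩⟩ := exists_iso_Q_obj_of_isLE Z.obj (b - 1)
  let ι := (tt A).bounded.ι
  let L : CochainComplex A ℤ := Z₀⟦b⟧
  have hL : IsZero (L.X 0) := by
    show IsZero (Z₀.X (0 + b))
    exact Z₀.isZero_of_isStrictlyLE (b - 1) (0 + b) (by omega)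
  -- the map in `D(A)`, before unshifting
  let g' : ((singleFunctor A 0).obj N)⟦-b⟧ ⟶ Q.obj Z₀ :=
    (ι.commShiftIso (-b)).inv.app ((DEquiv.singleB A).obj N) ≫ ι.map g ≫ eZ.hom
  let i₁ : ∀ M : A, (singleFunctor A 0).obj M ≅ (((singleFunctor A 0).obj M)⟦-b⟧)⟦b⟧ :=
    fun M => ((shiftFunctorCompIsoId (DerivedCategory A) (-b) b (by omega)).app _).symm
  let ξ : (singleFunctor A 0).obj N ⟶ Q.obj L :=
    (i₁ N).hom ≫ g'⟦b⟧' ≫ (Q.commShiftIso b).inv.app Z₀
  obtain ⟨N₁, p, hp, h⟩ := efface_D N L hL ξ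
  refine ⟨N₁, p, hp, ι.map_injective ?_⟩
  rw [Functor.map_zero, ι.map_comp]
  -- naturality of the shift isomorphism of `ι`
  have hnat : ι.map ((S A (-b)).map p) =
      (ι.commShiftIso (-b)).hom.app ((DEquiv.singleB A).obj N₁) ≫
        ((singleFunctor A 0).map p)⟦-b⟧' ≫
        (ι.commShiftIso (-b)).inv.app ((DEquiv.singleB A).obj N) :=
    FF.map_shift ι (-b) ((DEquiv.singleB A).map p)
  -- the key vanishing, after unshifting
  have hw : ((singleFunctor A 0).map p)⟦-b⟧' ≫ g' = 0 := by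
    apply (shiftFunctor (DerivedCategory A) b).map_injective
    rw [Functor.map_zero, Functor.map_comp]
    have hn : (i₁ N₁).hom ≫ (((singleFunctor A 0).map p)⟦-b⟧')⟦b⟧' =
        (singleFunctor A 0).map p ≫ (i₁ N).hom :=
      ((shiftFunctorCompIsoId (DerivedCategory A) (-b) b (by omega)).inv.naturality
        ((singleFunctor A 0).map p)).symm
    have h' : (singleFunctor A 0).map p ≫ (i₁ N).hom ≫ g'⟦b⟧' ≫
        (Q.commShiftIso b).inv.app Z₀ = 0 := h
    rw [← reassoc_of% hn] at h'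
    have h'' := congrArg (fun t => (i₁ N₁).inv ≫ t ≫ (Q.commShiftIso b).hom.app Z₀) h'
    simpa using h''
  rw [hnat]
  have h3 : ((singleFunctor A 0).map p)⟦-b⟧' ≫
      (ι.commShiftIso (-b)).inv.app ((DEquiv.singleB A).obj N) ≫ ι.map g = 0 := by
    have := congrArg (fun t => t ≫ eZ.inv) hw
    simpa [g'] using this
  have h4 := (congrArg (fun t =>
    (ι.commShiftIso (-b)).hom.app ((DEquiv.singleB A).obj N₁) ≫ t) h3).trans comp_zero
  simp only [Category.assoc]
  exact h4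

/-- the cone of `N₁[m] ⟶ N[m]` for an epimorphism `N₁ ⟶ N` lies in `D^{≤ -m-1}` (up to a
sign on the map) -/
lemma coneEpi (m : ℤ) {N₁ N : A} (p : N₁ ⟶ N) [Epi p] :
    ∃ (ν : (S A m).obj N₁ ⟶ (S A m).obj N) (C : DerivedCategory.Bounded A)
      (v : (S A m).obj N ⟶ C) (w : C ⟶ ((S A m).obj N₁)⟦(1 : ℤ)⟧),
      Triangle.mk ν v w ∈ distTriang (DerivedCategory.Bounded A) ∧ LE C (-m - 1) ∧
      ∀ {Z : DerivedCategory.Bounded A} (g : (S A m).obj N ⟶ Z),
        (S A m).map p ≫ g = 0 → ν ≫ g = 0 := by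
  obtain ⟨X'', i, δ, hT⟩ := ses_triangle p
  have hT' := Triangle.shift_distinguished _ (rot_of_distTriang _ hT) m
  have hC : LE ((((DEquiv.singleB A).obj X'')⟦(1 : ℤ)⟧)⟦m⟧) (-m - 1) := by
    have h0 : LE ((DEquiv.singleB A).obj X'') 0 :=
      (inferInstance : (tt A).IsLE ((singleFunctor A 0).obj X'') 0)
    exact (h0.shift 1 (-1) (by omega)).shift m (-m - 1) (by omega)
  refine ⟨m.negOnePow • ((S A m).map p), _, _, _, hT', hC, fun g hg => ?_⟩
  rw [Units.smul_def, Preadditive.zsmul_comp, hg, smul_zero]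

end Groth.Agent.H23.Neg
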