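import Mathlib
import Groth.Prelude.Def_W4stkfunctorsequivSib
import Groth.Agent.H23.NegIface

/-!
# The isomorphisms `γ` on shifted objects of `A` and their compatibilities (helper23)
-/

open CategoryTheory CategoryTheory.Limits CategoryTheory.Pretriangulated

universe w v u

namespace Groth.Agent.H23.Neg

open Groth.Agent.H23.Sibling Groth.Agent.H23.SiblingFF
open DerivedCategory DerivedCategory.TStructure

lemma conj_nat {C : Type*} [Category C] {X X' Y Y' Z Z' W W' : C} (a : X ≅ Y) (a' : X' ≅ Y')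
    (b : Y ⟶ Z) (b' : Y' ⟶ Z') (c : W ≅ Z) (c' : W' ≅ Z') (φ : X ⟶ X') (ψ : Y ⟶ Y')
    (χ : Z ⟶ Z') (ω : W ⟶ W') (h1 : φ = a.hom ≫ ψ ≫ a'.inv) (h2 : ω = c.hom ≫ χ ≫ c'.inv)
    (h3 : ψ ≫ b' = b ≫ χ) :
    φ ≫ (a'.hom ≫ b' ≫ c'.inv) = (a.hom ≫ b ≫ c.inv) ≫ ω := by
  subst h1 h2
  simp only [Category.assoc, Iso.inv_hom_id_assoc]
  rw [reassoc_of% h3]

variable {A : Type u} [Category.{v} A] [Abelian A] [HasDerivedCategory.{w} A]
  {D : Type*} [Category D] [Preadditive D] [HasZeroObject D] [HasShift D ℤ]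
  [∀ n : ℤ, (shiftFunctor D n).Additive] [Pretriangulated D]
  (F F' : DerivedCategory.Bounded A ⥤ D) [F.CommShift ℤ] [F'.CommShift ℤ]
  (α : DEquiv.singleB A ⋙ F ≅ DEquiv.singleB A ⋙ F')

/-- the isomorphism `F (N[m]) ≅ F' (N[m])` -/
noncomputable def γ (m : ℤ) (N : A) :
    F.obj ((S A m).obj N) ≅ F'.obj ((S A m).obj N) :=
  (F.commShiftIso m).app ((DEquiv.singleB A).obj N) ≪≫
    (shiftFunctor D m).mapIso (α.app N) ≪≫
    ((F'.commShiftIso m).app ((DEquiv.singleB A).obj N)).symm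

lemma γ_hom (m : ℤ) (N : A) : (γ F F' α m N).hom =
    (F.commShiftIso m).hom.app ((DEquiv.singleB A).obj N) ≫ (α.hom.app N)⟦m⟧' ≫
      (F'.commShiftIso m).inv.app ((DEquiv.singleB A).obj N) := rfl

lemma γ_nat (m : ℤ) {N N' : A} (f : N ⟶ N') :
    F.map ((S A m).map f) ≫ (γ F F' α m N').hom =
      (γ F F' α m N).hom ≫ F'.map ((S A m).map f) := by
  have h1 := FF.map_shift F m ((DEquiv.singleB A).map f)
  have h2 := FF.map_shift F' m ((DEquiv.singleB A).map f)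
  have h3 : F.map ((DEquiv.singleB A).map f) ≫ α.hom.app N' =
      α.hom.app N ≫ F'.map ((DEquiv.singleB A).map f) := α.hom.naturality f
  have h4 : (F.map ((DEquiv.singleB A).map f))⟦m⟧' ≫ (α.hom.app N')⟦m⟧' =
      (α.hom.app N)⟦m⟧' ≫ (F'.map ((DEquiv.singleB A).map f))⟦m⟧' := by
    rw [← Functor.map_comp, ← Functor.map_comp, h3]
  exact conj_nat ((F.commShiftIso m).app ((DEquiv.singleB A).obj N))
    ((F.commShiftIso m).app ((DEquiv.singleB A).obj N'))
    ((α.hom.app N)⟦m⟧') ((α.hom.app N')⟦m⟧')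
    ((F'.commShiftIso m).app ((DEquiv.singleB A).obj N))
    ((F'.commShiftIso m).app ((DEquiv.singleB A).obj N')) _ _ _ _ h1 h2 h4

/-- compatibility of `γ` with the composition of shifts -/
lemma SC (a b c : ℤ) (h : a + b = c) (N : A) :
    (F.commShiftIso b).hom.app ((S A a).obj N) ≫ ((γ F F' α a N).hom)⟦b⟧' ≫
      (F'.commShiftIso b).inv.app ((S A a).obj N) =
    F.map ((shiftFunctorAdd' (DerivedCategory.Bounded A) a b c h).inv.app
        ((DEquiv.singleB A).obj N)) ≫ (γ F F' α c N).hom ≫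
      F'.map ((shiftFunctorAdd' (DerivedCategory.Bounded A) a b c h).hom.app
        ((DEquiv.singleB A).obj N)) := by
  rw [γ_hom, γ_hom, F.commShiftIso_add' h, F'.commShiftIso_add' h,
    Functor.CommShift.isoAdd'_hom_app, Functor.CommShift.isoAdd'_inv_app]
  simp

section D1

variable [F.Full]

omit [F'.CommShift ℤ] in
lemma h2_of_full (X Y : A) (q : ℤ) (hq : q < 0)
    (f : F.obj ((DEquiv.singleB A).obj X) ⟶
      (shiftFunctor D q).obj (F.obj ((DEquiv.singleB A).obj Y))) : f = 0 := by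
  obtain ⟨φ, hφ⟩ := F.map_surjective (X := (DEquiv.singleB A).obj X)
    (Y := ((DEquiv.singleB A).obj Y)⟦q⟧)
    (f ≫ (F.commShiftIso q).inv.app ((DEquiv.singleB A).obj Y))
  have h0 : φ = 0 := neg_vanish X Y q hq φ
  rw [h0, F.map_zero] at hφ
  have := congrArg (fun t => t ≫ (F.commShiftIso q).hom.app ((DEquiv.singleB A).obj Y)) hφ
  simpa using this.symm

include α in
omit [F'.CommShift ℤ] in
lemma hV (X Y : A) (p : ℤ) (hp : 0 < p)
    (f : (F.obj ((DEquiv.singleB A).obj X))⟦p⟧ ⟶ F'.obj ((DEquiv.singleB A).obj Y)) : f = 0 :=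
  hV_of_h2 F F' α (h2_of_full F) X Y p hp f

variable [F.IsTriangulated] [F'.IsTriangulated]

/-- compatibility of `γ` with the connecting map of a short exact sequence -/
lemma D1 {X'' N₁ N : A} (j : X'' ⟶ N₁) (p : N₁ ⟶ N)
    (δ : (DEquiv.singleB A).obj N ⟶ ((DEquiv.singleB A).obj X'')⟦(1 : ℤ)⟧)
    (hT : Triangle.mk ((DEquiv.singleB A).map j) ((DEquiv.singleB A).map p) δ ∈
      distTriang (DerivedCategory.Bounded A)) :
    F.map δ ≫ (γ F F' α 1 X'').hom = α.hom.app N ≫ F'.map δ := by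
  have hTF := F.map_distinguished _ hT
  have hTF' := F'.map_distinguished _ hT
  have comm : F.map ((DEquiv.singleB A).map j) ≫ α.hom.app N₁ =
      α.hom.app X'' ≫ F'.map ((DEquiv.singleB A).map j) := α.hom.naturality j
  obtain ⟨φ, hφ₁, hφ₂⟩ : ∃ φ : F.obj ((DEquiv.singleB A).obj N) ⟶
      F'.obj ((DEquiv.singleB A).obj N),
      F.map ((DEquiv.singleB A).map p) ≫ φ =
        α.hom.app N₁ ≫ F'.map ((DEquiv.singleB A).map p) ∧
      (F.map δ ≫ (F.commShiftIso (1 : ℤ)).hom.app ((DEquiv.singleB A).obj X'')) ≫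
        (α.hom.app X'')⟦(1 : ℤ)⟧' =
        φ ≫ (F'.map δ ≫ (F'.commShiftIso (1 : ℤ)).hom.app ((DEquiv.singleB A).obj X'')) :=
    complete_distinguished_triangle_morphism _ _ hTF hTF' (α.hom.app X'') (α.hom.app N₁) comm
  obtain ⟨αN, hαN⟩ : ∃ x : F.obj ((DEquiv.singleB A).obj N) ⟶
      F'.obj ((DEquiv.singleB A).obj N), x = α.hom.app N := ⟨_, rfl⟩
  have hnatp : F.map ((DEquiv.singleB A).map p) ≫ αN =
      α.hom.app N₁ ≫ F'.map ((DEquiv.singleB A).map p) := by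
    rw [hαN]
    exact α.hom.naturality p
  have hφ : φ = αN := by
    rw [← sub_eq_zero]
    have h0 : F.map ((DEquiv.singleB A).map p) ≫ (φ - αN) = 0 := by
      rw [Preadditive.comp_sub, hφ₁, hnatp, sub_self]
    obtain ⟨g, hg⟩ : ∃ g : (F.obj ((DEquiv.singleB A).obj X''))⟦(1 : ℤ)⟧ ⟶
        F'.obj ((DEquiv.singleB A).obj N), φ - αN =
          (F.map δ ≫ (F.commShiftIso (1 : ℤ)).hom.app ((DEquiv.singleB A).obj X'')) ≫ g :=
      Triangle.yoneda_exact₃ _ hTF _ h0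
    rw [hg, hV F F' α X'' N 1 one_pos g, comp_zero]
  rw [hφ, hαN] at hφ₂
  rw [γ_hom]
  have := congrArg (fun t => t ≫
    (F'.commShiftIso (1 : ℤ)).inv.app ((DEquiv.singleB A).obj X'')) hφ₂
  simpa using this

end D1

end Groth.Agent.H23.Neg
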