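import Mathlib
import Groth.Prelude.Def_W4stkfunctorsequivSib
import Groth.Agent.H23.NegGamma

/-!
# Negative top presentations (helper23)
-/

open CategoryTheory CategoryTheory.Limits CategoryTheory.Pretriangulated

universe w v u

namespace Groth.Agent.H23.Neg

open Groth.Agent.H23.Sibling Groth.Agent.H23.SiblingFF
open DerivedCategory DerivedCategory.TStructure

variable {A : Type u} [Category.{v} A] [Abelian A] [HasDerivedCategory.{w} A]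

/-- a negative top presentation of `K` at level `b` -/
structure Pres (K : DerivedCategory.Bounded A) (b : ℤ) where
  N : A
  u : (S A (-b)).obj N ⟶ K
  Y : DerivedCategory.Bounded A
  π : K ⟶ Y
  d : Y ⟶ ((S A (-b)).obj N)⟦(1 : ℤ)⟧
  dist : Triangle.mk u π d ∈ distTriang (DerivedCategory.Bounded A)
  neg : ∀ φ : K ⟶ (S A (-b)).obj N, φ = 0
  leY : LE Y (b - 1)

namespace Pres

variable {K : DerivedCategory.Bounded A} {b : ℤ}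

lemma leK (P : Pres K b) : LE K b :=
  LE₂ _ P.dist b (LE_S (-b) P.N b (by omega)) (P.leY.mono (by omega))

lemma geY (P : Pres K b) {a : ℤ} (hK : GE K a) (hab : a ≤ b - 1) : GE P.Y a :=
  GE₂ _ (rot_of_distTriang _ P.dist) a hK
    (((GE_S (-b) P.N b (by omega)).shift 1 (b - 1) (by omega)).mono hab)

end Pres

section Dominate

variable (hneg : ∀ X : A, ∃ (N : A) (p : N ⟶ X), Epi p ∧ ∀ f : X ⟶ N, f = 0)

include hneg in
lemma dominate {K : DerivedCategory.Bounded A} {b : ℤ} (N₀ : A)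
    (u₀ : (S A (-b)).obj N₀ ⟶ K) (Y₀ : DerivedCategory.Bounded A) (π₀ : K ⟶ Y₀)
    (d₀ : Y₀ ⟶ ((S A (-b)).obj N₀)⟦(1 : ℤ)⟧)
    (dist₀ : Triangle.mk u₀ π₀ d₀ ∈ distTriang (DerivedCategory.Bounded A))
    (leY₀ : LE Y₀ (b - 1)) (M₀ : A) {Z : DerivedCategory.Bounded A} (hZ : LE Z (b - 1))
    (g : (S A (-b)).obj N₀ ⟶ Z) :
    ∃ (P : Pres K b) (ν : (S A (-b)).obj P.N ⟶ (S A (-b)).obj N₀), P.u = ν ≫ u₀ ∧ ν ≫ g = 0 ∧
      (∀ f : M₀ ⟶ P.N, f = 0) ∧ (∀ f : N₀ ⟶ P.N, f = 0) := by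
  obtain ⟨N₁, p₁, hp₁, hp₁g⟩ := efface hZ g
  obtain ⟨N₂, q, hq, hqneg⟩ := hneg (N₁ ⊞ (N₀ ⊞ M₀))
  let p : N₂ ⟶ N₀ := q ≫ biprod.fst ≫ p₁
  haveI : Epi p := epi_comp _ _
  obtain ⟨ν, C, v, w, dist₁, hC, hν⟩ := coneEpi (-b) p
  obtain ⟨Y₂, π₂, d₂, dist₂⟩ := distinguished_cocone_triangle (ν ≫ u₀)
  have oct := Triangulated.someOctahedron (rfl : ν ≫ u₀ = ν ≫ u₀) dist₁ dist₀ dist₂
  have hY₂ : LE Y₂ (b - 1) := LE₂ _ oct.mem (b - 1) (hC.mono (by omega)) leY₀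
  have hN₀ : ∀ f : N₀ ⟶ N₂, f = 0 := fun f => by
    have h1 : (biprod.inl ≫ biprod.inr : N₀ ⟶ N₁ ⊞ (N₀ ⊞ M₀)) ≫
        (biprod.snd ≫ biprod.fst) = 𝟙 N₀ := by simp
    have h2 := hqneg ((biprod.snd ≫ biprod.fst) ≫ f)
    calc f = ((biprod.inl ≫ biprod.inr : N₀ ⟶ N₁ ⊞ (N₀ ⊞ M₀)) ≫
          (biprod.snd ≫ biprod.fst)) ≫ f := by rw [h1, Category.id_comp]
      _ = 0 := by rw [Category.assoc, h2, comp_zero]
  have hM₀ : ∀ f : M₀ ⟶ N₂, f = 0 := fun f => by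
    have h1 : (biprod.inr ≫ biprod.inr : M₀ ⟶ N₁ ⊞ (N₀ ⊞ M₀)) ≫
        (biprod.snd ≫ biprod.snd) = 𝟙 M₀ := by simp
    have h2 := hqneg ((biprod.snd ≫ biprod.snd) ≫ f)
    calc f = ((biprod.inr ≫ biprod.inr : M₀ ⟶ N₁ ⊞ (N₀ ⊞ M₀)) ≫
          (biprod.snd ≫ biprod.snd)) ≫ f := by rw [h1, Category.id_comp]
      _ = 0 := by rw [Category.assoc, h2, comp_zero]
  have hnegK : ∀ φ : K ⟶ (S A (-b)).obj N₂, φ = 0 := fun φ => by
    have h1 : u₀ ≫ φ = 0 := hom_S_zero (-b) hN₀ _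
    obtain ⟨φ₁, hφ₁⟩ := Triangle.yoneda_exact₂ _ dist₀ φ h1
    have h2 : φ₁ = 0 := orth leY₀ (GE_S (-b) N₂ b (by omega)) (by omega) φ₁
    rw [hφ₁, h2]
    exact comp_zero
  refine ⟨⟨N₂, ν ≫ u₀, Y₂, π₂, d₂, dist₂, hnegK, hY₂⟩, ν, rfl, hν g ?_, hM₀, hN₀⟩
  have h3 : (S A (-b)).map p = (S A (-b)).map (q ≫ biprod.fst) ≫ (S A (-b)).map p₁ := by
    rw [← Functor.map_comp, Category.assoc]
  rw [h3, Category.assoc, hp₁g, comp_zero]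

include hneg in
lemma exists_pres {K : DerivedCategory.Bounded A} {b : ℤ} (hK : LE K b) (M₀ : A) :
    ∃ P : Pres K b, ∀ f : M₀ ⟶ P.N, f = 0 := by
  obtain ⟨N₀, u₀, Y₀, π₀, d₀, dist₀, leY₀⟩ := weakPres hK
  obtain ⟨P, _, _, _, h, _⟩ := dominate hneg N₀ u₀ Y₀ π₀ d₀ dist₀ leY₀ M₀ leY₀ 0
  exact ⟨P, h⟩

include hneg in
/-- domination of a negative presentation -/
lemma Pres.dominate' {K : DerivedCategory.Bounded A} {b : ℤ} (P : Pres K b) (M₀ : A)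
    {Z : DerivedCategory.Bounded A} (hZ : LE Z (b - 1)) (g : (S A (-b)).obj P.N ⟶ Z) :
    ∃ (P₁ : Pres K b) (ν : (S A (-b)).obj P₁.N ⟶ (S A (-b)).obj P.N),
      P₁.u = ν ≫ P.u ∧ ν ≫ g = 0 ∧ (∀ f : M₀ ⟶ P₁.N, f = 0) := by
  obtain ⟨P₁, ν, h1, h2, h3, _⟩ :=
    dominate hneg P.N P.u P.Y P.π P.d P.dist P.leY M₀ hZ g
  exact ⟨P₁, ν, h1, h2, h3⟩

end Dominate

/-- objects of `A` witnessing vanishing of maps into `N[-b]` -/
lemma negWitness {K : DerivedCategory.Bounded A} {b : ℤ} (hK : LE K b) :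
    ∃ M₀ : A, ∀ N₂ : A, (∀ f : M₀ ⟶ N₂, f = 0) → ∀ φ : K ⟶ (S A (-b)).obj N₂, φ = 0 := by
  obtain ⟨N₀, u₀, Y₀, π₀, d₀, dist₀, leY₀⟩ := weakPres hK
  refine ⟨N₀, fun N₂ hN₂ φ => ?_⟩
  have h1 : u₀ ≫ φ = 0 := hom_S_zero (-b) hN₂ _
  obtain ⟨φ₁, hφ₁⟩ := Triangle.yoneda_exact₂ _ dist₀ φ h1
  have h2 : φ₁ = 0 := orth leY₀ (GE_S (-b) N₂ b (by omega)) (by omega) φ₁
  rw [hφ₁, h2]
  exact comp_zero

section Functors

variable {D : Type*} [Category D] [Preadditive D] [HasZeroObject D] [HasShift D ℤ]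
  [∀ n : ℤ, (shiftFunctor D n).Additive] [Pretriangulated D]
  (F F' : DerivedCategory.Bounded A ⥤ D) [F.CommShift ℤ] [F'.CommShift ℤ]
  (α : DEquiv.singleB A ⋙ F ≅ DEquiv.singleB A ⋙ F')

/-- the canonical map on `N[m][1]` -/
noncomputable def γ₁ (m : ℤ) (N : A) :
    F.obj (((S A m).obj N)⟦(1 : ℤ)⟧) ⟶ F'.obj (((S A m).obj N)⟦(1 : ℤ)⟧) :=
  (F.commShiftIso (1 : ℤ)).hom.app ((S A m).obj N) ≫ ((γ F F' α m N).hom)⟦(1 : ℤ)⟧' ≫
    (F'.commShiftIso (1 : ℤ)).inv.app ((S A m).obj N)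

variable [F.Full]

include α in
lemma hom_zero_of_neg {K : DerivedCategory.Bounded A} {m : ℤ} {N : A}
    (h : ∀ φ : K ⟶ (S A m).obj N, φ = 0) (e : F.obj K ⟶ F'.obj ((S A m).obj N)) : e = 0 := by
  obtain ⟨φ, hφ⟩ := F.map_surjective (e ≫ (γ F F' α m N).inv)
  rw [h φ, F.map_zero] at hφ
  have := congrArg (fun t => t ≫ (γ F F' α m N).hom) hφ
  simpa using this.symm

variable [F.IsTriangulated] [F'.IsTriangulated]

include α in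
/-- uniqueness of the completion -/
lemma Pres.unique {K : DerivedCategory.Bounded A} {b : ℤ} (P : Pres K b)
    (c c' : F.obj K ⟶ F'.obj K) (h : c ≫ F'.map P.π = c' ≫ F'.map P.π) : c = c' := by
  rw [← sub_eq_zero]
  have h0 : (c - c') ≫ F'.map P.π = 0 := by rw [Preadditive.sub_comp, h, sub_self]
  obtain ⟨e₁, he₁⟩ : ∃ e₁ : F.obj K ⟶ F'.obj ((S A (-b)).obj P.N),
      c - c' = e₁ ≫ F'.map P.u :=
    Triangle.coyoneda_exact₂ _ (F'.map_distinguished _ P.dist) _ h0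
  rw [he₁, hom_zero_of_neg F F' α P.neg e₁, zero_comp]

/-- existence of the completion -/
lemma Pres.complete {K : DerivedCategory.Bounded A} {b : ℤ} (P : Pres K b)
    (cY : F.obj P.Y ⟶ F'.obj P.Y)
    (comm : F.map P.d ≫ γ₁ F F' α (-b) P.N = cY ≫ F'.map P.d) :
    ∃ c : F.obj K ⟶ F'.obj K, F.map P.u ≫ c = (γ F F' α (-b) P.N).hom ≫ F'.map P.u ∧
      F.map P.π ≫ cY = c ≫ F'.map P.π ∧ (IsIso cY → IsIso c) := by
  have hTF := F.map_distinguished _ P.dist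
  have hTF' := F'.map_distinguished _ P.dist
  have comm' : (F.map P.d ≫ (F.commShiftIso (1 : ℤ)).hom.app ((S A (-b)).obj P.N)) ≫
      ((γ F F' α (-b) P.N).hom)⟦(1 : ℤ)⟧' =
      cY ≫ (F'.map P.d ≫ (F'.commShiftIso (1 : ℤ)).hom.app ((S A (-b)).obj P.N)) := by
    have := congrArg (fun t => t ≫
      (F'.commShiftIso (1 : ℤ)).hom.app ((S A (-b)).obj P.N)) comm
    simpa [γ₁] using this
  obtain ⟨c, hc₁, hc₂⟩ : ∃ c : F.obj K ⟶ F'.obj K,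
      F.map P.u ≫ c = (γ F F' α (-b) P.N).hom ≫ F'.map P.u ∧
      F.map P.π ≫ cY = c ≫ F'.map P.π :=
    complete_distinguished_triangle_morphism₂ _ _ hTF hTF' (γ F F' α (-b) P.N).hom cY comm'
  refine ⟨c, hc₁, hc₂, fun hcY => ?_⟩
  let φ : F.mapTriangle.obj (Triangle.mk P.u P.π P.d) ⟶
      F'.mapTriangle.obj (Triangle.mk P.u P.π P.d) :=
    { hom₁ := (γ F F' α (-b) P.N).hom
      hom₂ := c
      hom₃ := cY
      comm₁ := hc₁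
      comm₂ := hc₂
      comm₃ := comm' }
  exact isIso₂_of_isIso₁₃ φ hTF hTF'
    (show IsIso (γ F F' α (-b) P.N).hom from inferInstance) hcY

end Functors

end Groth.Agent.H23.Neg
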