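import Mathlib
import Groth.Prelude.Def_W4stkfunctorsequivSib
import Groth.Agent.H23.NegPres

/-!
# Canonical comparison maps, by induction on the amplitude (helper23)
-/

open CategoryTheory CategoryTheory.Limits CategoryTheory.Pretriangulated

universe w v u

namespace Groth.Agent.H23.Neg

open Groth.Agent.H23.Sibling Groth.Agent.H23.SiblingFF
open DerivedCategory DerivedCategory.TStructure

variable {A : Type u} [Category.{v} A] [Abelian A] [HasDerivedCategory.{w} A]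

/-- objects with cohomology in `[b - n, b]` -/
def Sz (n : ℕ) (b : ℤ) (K : DerivedCategory.Bounded A) : Prop := LE K b ∧ GE K (b - n)

variable {D : Type*} [Category D] [Preadditive D] [HasZeroObject D] [HasShift D ℤ]
  [∀ n : ℤ, (shiftFunctor D n).Additive] [Pretriangulated D]
  (F F' : DerivedCategory.Bounded A ⥤ D) [F.CommShift ℤ] [F'.CommShift ℤ]
  (α : DEquiv.singleB A ⋙ F ≅ DEquiv.singleB A ⋙ F')

/-- canonical maps `F K ⟶ F' K` -/
def Can : ℕ → ℤ → (K : DerivedCategory.Bounded A) → (F.obj K ⟶ F'.obj K) → Prop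
  | 0, b, K, c => ∃ (M : A) (e : K ≅ (S A (-b)).obj M),
      c = F.map e.hom ≫ (γ F F' α (-b) M).hom ≫ F'.map e.inv
  | n + 1, b, K, c => ∃ (P : Pres K b) (cY : F.obj P.Y ⟶ F'.obj P.Y),
      Sz n (b - 1) P.Y ∧ Can n (b - 1) P.Y cY ∧ F.map P.π ≫ cY = c ≫ F'.map P.π

lemma can_sz : ∀ (n : ℕ) (b : ℤ) (K : DerivedCategory.Bounded A) (c : F.obj K ⟶ F'.obj K),
    Can F F' α n b K c → Sz n b K
  | 0, b, K, c, ⟨M, e, _⟩ =>
    ⟨(LE_S (-b) M b (by omega)).of_iso e.symm,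
      ((GE_S (-b) M b (by omega)).of_iso e.symm).mono (by simp)⟩
  | n + 1, b, K, c, ⟨P, cY, hY, _, _⟩ =>
    ⟨P.leK, GE₂ _ P.dist _ ((GE_S (-b) P.N b (by omega)).mono (by push_cast; omega))
      (hY.2.mono (by push_cast; omega))⟩

section

variable (hneg : ∀ X : A, ∃ (N : A) (p : N ⟶ X), Epi p ∧ ∀ f : X ⟶ N, f = 0)
  [F.Full] [F.IsTriangulated] [F'.IsTriangulated]

include hneg in
lemma can_zero_succ (b : ℤ) (K : DerivedCategory.Bounded A) (c : F.obj K ⟶ F'.obj K)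
    (hc : Can F F' α 0 b K c) : Can F F' α 1 b K c := by
  obtain ⟨M, e, rfl⟩ := hc
  obtain ⟨N₁, p, hp, negM⟩ := hneg M
  obtain ⟨X'', j, δ, hT⟩ := ses_triangle p
  have hT' := Triangle.shift_distinguished _ (rot_of_distTriang _ hT) (-b)
  -- the maps of the shifted rotated triangle, with clean types
  obtain ⟨u₀, π₀, d₀, hdist, hπ₀⟩ : ∃ (u₀ : (S A (-b)).obj N₁ ⟶ (S A (-b)).obj M)
      (π₀ : (S A (-b)).obj M ⟶ (((DEquiv.singleB A).obj X'')⟦(1 : ℤ)⟧)⟦-b⟧)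
      (d₀ : (((DEquiv.singleB A).obj X'')⟦(1 : ℤ)⟧)⟦-b⟧ ⟶ ((S A (-b)).obj N₁)⟦(1 : ℤ)⟧),
      Triangle.mk u₀ π₀ d₀ ∈ distTriang (DerivedCategory.Bounded A) ∧
      π₀ = (-b).negOnePow • δ⟦-b⟧' := ⟨_, _, _, hT', rfl⟩
  let Y : DerivedCategory.Bounded A := (((DEquiv.singleB A).obj X'')⟦(1 : ℤ)⟧)⟦-b⟧
  have hdist' : Triangle.mk (u₀ ≫ e.inv) (e.hom ≫ π₀) d₀ ∈
      distTriang (DerivedCategory.Bounded A) :=
    isomorphic_distinguished _ hdist _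
      (Triangle.isoMk _ _ (Iso.refl _) e (Iso.refl _)
        (by show (u₀ ≫ e.inv) ≫ e.hom = 𝟙 _ ≫ u₀; simp)
        (by show (e.hom ≫ π₀) ≫ 𝟙 _ = e.hom ≫ π₀; simp)
        (by show d₀ ≫ (𝟙 _)⟦(1 : ℤ)⟧' = 𝟙 _ ≫ d₀; simp))
  have h0 : LE ((DEquiv.singleB A).obj X'') 0 :=
    (inferInstance : (tt A).IsLE ((singleFunctor A 0).obj X'') 0)
  have h0' : GE ((DEquiv.singleB A).obj X'') 0 :=
    (inferInstance : (tt A).IsGE ((singleFunctor A 0).obj X'') 0)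
  have hYle : LE Y (b - 1) := (h0.shift 1 (-1) (by omega)).shift (-b) (b - 1) (by omega)
  have hYge : GE Y (b - 1) := (h0'.shift 1 (-1) (by omega)).shift (-b) (b - 1) (by omega)
  let P : Pres K b :=
    { N := N₁
      u := u₀ ≫ e.inv
      Y := Y
      π := e.hom ≫ π₀
      d := d₀
      dist := hdist'
      neg := fun φ => by
        have h1 : e.inv ≫ φ = 0 := hom_S_zero (-b) negM _
        have := congrArg (fun t => e.hom ≫ t) h1
        simpa using this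
      leY := hYle }
  let τ : Y ≅ (S A (-(b - 1))).obj X'' :=
    (shiftFunctorAdd' (DerivedCategory.Bounded A) 1 (-b) (-(b - 1)) (by omega)).symm.app
      ((DEquiv.singleB A).obj X'')
  refine ⟨P, F.map τ.hom ≫ (γ F F' α (-(b - 1)) X'').hom ≫ F'.map τ.inv,
    ⟨hYle, hYge.mono (by simp)⟩, ⟨X'', τ, rfl⟩, ?_⟩
  -- the compatibility
  have hSC := SC F F' α 1 (-b) (-(b - 1)) (by omega) X''
  have hD1 := D1 F F' α j p δ hT
  have h4 : (F.map δ)⟦-b⟧' ≫ ((γ F F' α 1 X'').hom)⟦-b⟧' =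
      (α.hom.app M)⟦-b⟧' ≫ (F'.map δ)⟦-b⟧' := by
    rw [← Functor.map_comp, ← Functor.map_comp, hD1]
  have core : F.map (δ⟦-b⟧') ≫ (F.map τ.hom ≫ (γ F F' α (-(b - 1)) X'').hom ≫ F'.map τ.inv) =
      (γ F F' α (-b) M).hom ≫ F'.map (δ⟦-b⟧') := by
    have := conj_nat ((F.commShiftIso (-b)).app ((DEquiv.singleB A).obj M))
      ((F.commShiftIso (-b)).app (((DEquiv.singleB A).obj X'')⟦(1 : ℤ)⟧))
      ((α.hom.app M)⟦-b⟧') (((γ F F' α 1 X'').hom)⟦-b⟧')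
      ((F'.commShiftIso (-b)).app ((DEquiv.singleB A).obj M))
      ((F'.commShiftIso (-b)).app (((DEquiv.singleB A).obj X'')⟦(1 : ℤ)⟧))
      (F.map (δ⟦-b⟧')) ((F.map δ)⟦-b⟧') ((F'.map δ)⟦-b⟧') (F'.map (δ⟦-b⟧'))
      (FF.map_shift F (-b) δ) (FF.map_shift F' (-b) δ) h4
    have hτ : F.map τ.hom ≫ (γ F F' α (-(b - 1)) X'').hom ≫ F'.map τ.inv =
        (F.commShiftIso (-b)).hom.app (((DEquiv.singleB A).obj X'')⟦(1 : ℤ)⟧) ≫
          ((γ F F' α 1 X'').hom)⟦-b⟧' ≫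
          (F'.commShiftIso (-b)).inv.app (((DEquiv.singleB A).obj X'')⟦(1 : ℤ)⟧) := hSC.symm
    rw [hτ]
    exact this
  show F.map (e.hom ≫ π₀) ≫ (F.map τ.hom ≫ (γ F F' α (-(b - 1)) X'').hom ≫ F'.map τ.inv) =
    (F.map e.hom ≫ (γ F F' α (-b) M).hom ≫ F'.map e.inv) ≫ F'.map (e.hom ≫ π₀)
  rw [hπ₀, F.map_comp, F'.map_comp, Units.smul_def, F.map_zsmul, F'.map_zsmul]
  simp only [Category.assoc, Preadditive.zsmul_comp, Preadditive.comp_zsmul]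
  rw [core, ← F'.map_comp_assoc e.inv e.hom, e.inv_hom_id, F'.map_id, Category.id_comp]

include hneg in
lemma can_succ : ∀ (n : ℕ) (b : ℤ) (K : DerivedCategory.Bounded A) (c : F.obj K ⟶ F'.obj K),
    Can F F' α n b K c → Can F F' α (n + 1) b K c
  | 0, b, K, c, hc => can_zero_succ F F' α hneg b K c hc
  | n + 1, b, K, c, ⟨P, cY, hY, hcY, h⟩ =>
    ⟨P, cY, ⟨hY.1, hY.2.mono (by push_cast; omega)⟩, can_succ n (b - 1) P.Y cY hcY, h⟩

end

end Groth.Agent.H23.Neg
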