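import Mathlib
import Groth.Prelude.Def_W4stkfunctorsequivSib
import Groth.Agent.H23.NegCan

/-!
# The main induction: a sibling of a fully faithful functor is isomorphic to it, when there are
enough negative objects (helper23)
-/

open CategoryTheory CategoryTheory.Limits CategoryTheory.Pretriangulated

universe w v u

namespace Groth.Agent.H23.Neg

open Groth.Agent.H23.Sibling Groth.Agent.H23.SiblingFF
open DerivedCategory DerivedCategory.TStructure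
open ZeroObject

variable {A : Type u} [Category.{v} A] [Abelian A] [HasDerivedCategory.{w} A]

variable {D : Type*} [Category D] [Preadditive D] [HasZeroObject D] [HasShift D ℤ]
  [∀ n : ℤ, (shiftFunctor D n).Additive] [Pretriangulated D]
  (F F' : DerivedCategory.Bounded A ⥤ D) [F.CommShift ℤ] [F'.CommShift ℤ]
  (α : DEquiv.singleB A ⋙ F ≅ DEquiv.singleB A ⋙ F')

/-- the inductive package at amplitude `n` -/
structure Pkg (n : ℕ) : Prop where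
  ex : ∀ (b : ℤ) (K : DerivedCategory.Bounded A), Sz n b K → ∃ c, Can F F' α n b K c
  nat : ∀ (b : ℤ) (K L : DerivedCategory.Bounded A) (cK : F.obj K ⟶ F'.obj K)
    (cL : F.obj L ⟶ F'.obj L), Can F F' α n b K cK → Can F F' α n b L cL →
    ∀ f : K ⟶ L, F.map f ≫ cL = cK ≫ F'.map f
  iso : ∀ (b : ℤ) (K : DerivedCategory.Bounded A) (c : F.obj K ⟶ F'.obj K),
    Can F F' α n b K c → IsIso c

lemma pkg_zero : Pkg F F' α 0 where
  ex b K hK := by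
    obtain ⟨N, ⟨e⟩⟩ := exists_iso_S hK.1 (hK.2.mono (by simp))
    exact ⟨F.map e.hom ≫ (γ F F' α (-b) N).hom ≫ F'.map e.inv, N, e, rfl⟩
  nat b K L cK cL hK hL f := by
    obtain ⟨M, e, rfl⟩ := hK
    obtain ⟨M', e', rfl⟩ := hL
    obtain ⟨φ, hφ⟩ := (S A (-b)).map_surjective (e.inv ≫ f ≫ e'.hom)
    have hf : f = e.hom ≫ (S A (-b)).map φ ≫ e'.inv := by rw [hφ]; simp
    have hnat := γ_nat F F' α (-b) φ
    rw [hf]
    simp only [Functor.map_comp, Category.assoc]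
    rw [← F.map_comp_assoc e'.inv e'.hom, e'.inv_hom_id, F.map_id, Category.id_comp,
      ← F'.map_comp_assoc e.inv e.hom, e.inv_hom_id, F'.map_id, Category.id_comp,
      ← Category.assoc (F.map ((S A (-b)).map φ)) (γ F F' α (-b) M').hom, hnat, Category.assoc]
  iso b K c hc := by
    obtain ⟨M, e, rfl⟩ := hc
    infer_instance

lemma can_raise (n : ℕ) (b : ℤ) (K : DerivedCategory.Bounded A) (c : F.obj K ⟶ F'.obj K)
    (hc : Can F F' α n b K c) : Can F F' α (n + 1) (b + 1) K c := by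
  have hsz := can_sz F F' α n b K c hc
  have hZ : IsZero ((S A (-(b + 1))).obj (0 : A)) :=
    (S A (-(b + 1))).map_isZero (isZero_zero A)
  have hdist : Triangle.mk (0 : (S A (-(b + 1))).obj (0 : A) ⟶ K) (𝟙 K)
      (0 : K ⟶ ((S A (-(b + 1))).obj (0 : A))⟦(1 : ℤ)⟧) ∈
      distTriang (DerivedCategory.Bounded A) :=
    isomorphic_distinguished _ (contractible_distinguished₁ K) _
      (Triangle.isoMk _ _ hZ.isoZero (Iso.refl _) (Iso.refl _)
        (hZ.eq_of_src _ _) rfl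
        (IsZero.eq_of_tgt ((shiftFunctor (DerivedCategory.Bounded A) (1 : ℤ)).map_isZero
          (isZero_zero _)) _ _))
  have hb : b + 1 - 1 = b := by omega
  let P : Pres K (b + 1) :=
    { N := 0
      u := 0
      Y := K
      π := 𝟙 K
      d := 0
      dist := hdist
      neg := fun φ => hZ.eq_of_tgt _ _
      leY := hsz.1.mono (by omega) }
  refine ⟨P, c, ?_, ?_, ?_⟩
  · show Sz n (b + 1 - 1) K
    rw [hb]; exact hsz
  · show Can F F' α n (b + 1 - 1) K c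
    rw [hb]; exact hc
  · show F.map (𝟙 K) ≫ c = c ≫ F'.map (𝟙 K)
    rw [F.map_id, F'.map_id, Category.id_comp, Category.comp_id]

lemma can_raise_iter (n : ℕ) (b : ℤ) (K : DerivedCategory.Bounded A) (c : F.obj K ⟶ F'.obj K)
    (hc : Can F F' α n b K c) : ∀ k : ℕ, Can F F' α (n + k) (b + k) K c
  | 0 => by
    have e : b + ((0 : ℕ) : ℤ) = b := by simp
    rw [e]; exact hc
  | k + 1 => by
    have h := can_raise F F' α (n + k) (b + k) K c (can_raise_iter n b K c hc k)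
    have e : b + ((k + 1 : ℕ) : ℤ) = b + k + 1 := by push_cast; ring
    rw [e]
    exact h

lemma canS1 (b : ℤ) (N : A) :
    Can F F' α 0 (b - 1) (((S A (-b)).obj N)⟦(1 : ℤ)⟧) (γ₁ F F' α (-b) N) :=
  ⟨N, σ (-b) (-(b - 1)) (by omega) N, SC F F' α (-b) 1 (-(b - 1)) (by omega) N⟩

section

variable (hneg : ∀ X : A, ∃ (N : A) (p : N ⟶ X), Epi p ∧ ∀ f : X ⟶ N, f = 0)
  [F.Full] [F.IsTriangulated] [F'.IsTriangulated]

include hneg in
lemma can_succ_iter (n : ℕ) (b : ℤ) (K : DerivedCategory.Bounded A) (c : F.obj K ⟶ F'.obj K)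
    (hc : Can F F' α n b K c) : ∀ j : ℕ, Can F F' α (n + j) b K c
  | 0 => hc
  | j + 1 => can_succ F F' α hneg (n + j) b K c (can_succ_iter n b K c hc j)

include hneg in
lemma can_lift (n : ℕ) (b : ℤ) (K : DerivedCategory.Bounded A) (c : F.obj K ⟶ F'.obj K)
    (hc : Can F F' α n b K c) (n'' : ℕ) (b'' : ℤ)
    (hb : b ≤ b'') (hn : (n : ℤ) + (b'' - b) ≤ n'') : Can F F' α n'' b'' K c := by
  obtain ⟨k, hk⟩ : ∃ k : ℕ, b'' = b + k := ⟨(b'' - b).toNat, by omega⟩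
  obtain ⟨j, hj⟩ : ∃ j : ℕ, n'' = n + k + j := ⟨n'' - (n + k), by omega⟩
  subst hk hj
  exact can_succ_iter F F' α hneg (n + k) (b + k) K c (can_raise_iter F F' α n b K c hc k) j

include hneg in
lemma canS1' (n : ℕ) (b : ℤ) (N : A) :
    Can F F' α n (b - 1) (((S A (-b)).obj N)⟦(1 : ℤ)⟧) (γ₁ F F' α (-b) N) := by
  have := can_succ_iter F F' α hneg 0 (b - 1) _ _ (canS1 F F' α b N) n
  rwa [zero_add] at this

include hneg in
lemma comm_of_pkg {n : ℕ} (hP : Pkg F F' α n) {K : DerivedCategory.Bounded A} {b : ℤ}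
    (P : Pres K b) (cY : F.obj P.Y ⟶ F'.obj P.Y) (hcY : Can F F' α n (b - 1) P.Y cY) :
    F.map P.d ≫ γ₁ F F' α (-b) P.N = cY ≫ F'.map P.d :=
  hP.nat (b - 1) P.Y _ cY _ hcY (canS1' F F' α hneg n b P.N) P.d

include hneg in
lemma dom_indep {n : ℕ} (hP : Pkg F F' α n) {K : DerivedCategory.Bounded A} {b : ℤ}
    (P : Pres K b) (cY : F.obj P.Y ⟶ F'.obj P.Y) (c : F.obj K ⟶ F'.obj K)
    (hcY : Can F F' α n (b - 1) P.Y cY) (hc : F.map P.π ≫ cY = c ≫ F'.map P.π)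
    (P₁ : Pres K b) (ν : (S A (-b)).obj P₁.N ⟶ (S A (-b)).obj P.N) (hν : P₁.u = ν ≫ P.u)
    (cY₁ : F.obj P₁.Y ⟶ F'.obj P₁.Y) (hcY₁ : Can F F' α n (b - 1) P₁.Y cY₁) :
    F.map P₁.π ≫ cY₁ = c ≫ F'.map P₁.π := by
  have h0 : P₁.u ≫ P.π = 0 := by
    have : P.u ≫ P.π = 0 := comp_distTriang_mor_zero₁₂ _ P.dist
    rw [hν, Category.assoc, this, comp_zero]
  obtain ⟨μ, hμ⟩ : ∃ μ : P₁.Y ⟶ P.Y, P.π = P₁.π ≫ μ :=
    Triangle.yoneda_exact₂ _ P₁.dist P.π h0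
  obtain ⟨c'', -, hc'', -⟩ :=
    P₁.complete F F' α cY₁ (comm_of_pkg F F' α hneg hP P₁ cY₁ hcY₁)
  have hμnat : F.map μ ≫ cY = cY₁ ≫ F'.map μ :=
    hP.nat (b - 1) P₁.Y P.Y cY₁ cY hcY₁ hcY μ
  have h3 : c'' ≫ F'.map P.π = c ≫ F'.map P.π := by
    calc c'' ≫ F'.map P.π = c'' ≫ F'.map P₁.π ≫ F'.map μ := by rw [hμ, F'.map_comp]
      _ = (F.map P₁.π ≫ cY₁) ≫ F'.map μ := by rw [hc'', Category.assoc]
      _ = F.map P₁.π ≫ F.map μ ≫ cY := by rw [Category.assoc, hμnat]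
      _ = F.map P.π ≫ cY := by rw [hμ, F.map_comp, Category.assoc]
      _ = c ≫ F'.map P.π := hc
  have := P.unique F F' α c'' c h3
  rw [← this]; exact hc''

include hneg in
lemma claimA {n : ℕ} (hP : Pkg F F' α n) {K : DerivedCategory.Bounded A} {b : ℤ}
    (hK : GE K (b - 1 - n)) (P : Pres K b) (cY : F.obj P.Y ⟶ F'.obj P.Y)
    (c : F.obj K ⟶ F'.obj K)
    (hcY : Can F F' α n (b - 1) P.Y cY) (hc : F.map P.π ≫ cY = c ≫ F'.map P.π)
    {Z : DerivedCategory.Bounded A} (cZ : F.obj Z ⟶ F'.obj Z)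
    (hcZ : Can F F' α n (b - 1) Z cZ) (h : K ⟶ Z) : F.map h ≫ cZ = c ≫ F'.map h := by
  have hZ : LE Z (b - 1) := (can_sz F F' α n (b - 1) Z cZ hcZ).1
  obtain ⟨P₁, ν, hν, hνg, -⟩ := P.dominate' hneg P.N hZ (P.u ≫ h)
  have h0 : P₁.u ≫ h = 0 := by rw [hν, Category.assoc]; exact hνg
  obtain ⟨hbar, hhbar⟩ : ∃ hbar : P₁.Y ⟶ Z, h = P₁.π ≫ hbar :=
    Triangle.yoneda_exact₂ _ P₁.dist h h0
  have hsz : Sz n (b - 1) P₁.Y := ⟨P₁.leY, P₁.geY hK (by omega)⟩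
  obtain ⟨cY₁, hcY₁⟩ := hP.ex (b - 1) P₁.Y hsz
  have h1 := dom_indep F F' α hneg hP P cY c hcY hc P₁ ν hν cY₁ hcY₁
  have h2 : F.map hbar ≫ cZ = cY₁ ≫ F'.map hbar :=
    hP.nat (b - 1) P₁.Y Z cY₁ cZ hcY₁ hcZ hbar
  calc F.map h ≫ cZ = F.map P₁.π ≫ F.map hbar ≫ cZ := by
        rw [hhbar, F.map_comp, Category.assoc]
    _ = (F.map P₁.π ≫ cY₁) ≫ F'.map hbar := by rw [h2, Category.assoc]
    _ = c ≫ F'.map P₁.π ≫ F'.map hbar := by rw [h1, Category.assoc]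
    _ = c ≫ F'.map h := by rw [hhbar, F'.map_comp]

include hneg in
lemma nat_succ {n : ℕ} (hP : Pkg F F' α n) (b : ℤ) (K L : DerivedCategory.Bounded A)
    (cK : F.obj K ⟶ F'.obj K) (cL : F.obj L ⟶ F'.obj L)
    (hK : Can F F' α (n + 1) b K cK) (hL : Can F F' α (n + 1) b L cL) (f : K ⟶ L) :
    F.map f ≫ cL = cK ≫ F'.map f := by
  have hszK := can_sz F F' α (n + 1) b K cK hK
  have hszL := can_sz F F' α (n + 1) b L cL hL
  obtain ⟨PK, cYK, hYK, hcYK, hcK⟩ := hK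
  obtain ⟨PL, cYL, hYL, hcYL, hcL⟩ := hL
  obtain ⟨M₀, hM₀⟩ := negWitness hszK.1
  obtain ⟨P₂, ν, hν, -, hneg₂⟩ :=
    PL.dominate' hneg M₀ PL.leY (0 : (S A (-b)).obj PL.N ⟶ PL.Y)
  have hgeL : GE L (b - 1 - n) := hszL.2.mono (by push_cast; omega)
  have hgeK : GE K (b - 1 - n) := hszK.2.mono (by push_cast; omega)
  have hsz₂ : Sz n (b - 1) P₂.Y := ⟨P₂.leY, P₂.geY hgeL (by omega)⟩
  obtain ⟨cY₂, hcY₂⟩ := hP.ex (b - 1) P₂.Y hsz₂
  have h1 : F.map P₂.π ≫ cY₂ = cL ≫ F'.map P₂.π :=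
    dom_indep F F' α hneg hP PL cYL cL hcYL hcL P₂ ν hν cY₂ hcY₂
  have h2 : F.map (f ≫ P₂.π) ≫ cY₂ = cK ≫ F'.map (f ≫ P₂.π) :=
    claimA F F' α hneg hP hgeK PK cYK cK hcYK hcK cY₂ hcY₂ (f ≫ P₂.π)
  rw [← sub_eq_zero]
  have h3 : (F.map f ≫ cL - cK ≫ F'.map f) ≫ F'.map P₂.π = 0 := by
    rw [Preadditive.sub_comp, Category.assoc, Category.assoc, ← h1, ← F'.map_comp, ← h2,
      F.map_comp, Category.assoc, sub_self]
  obtain ⟨e₁, he₁⟩ : ∃ e₁ : F.obj K ⟶ F'.obj ((S A (-b)).obj P₂.N),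
      F.map f ≫ cL - cK ≫ F'.map f = e₁ ≫ F'.map P₂.u :=
    Triangle.coyoneda_exact₂ _ (F'.map_distinguished _ P₂.dist) _ h3
  rw [he₁, hom_zero_of_neg F F' α (hM₀ P₂.N hneg₂) e₁, zero_comp]

include hneg in
lemma ex_succ {n : ℕ} (hP : Pkg F F' α n) (b : ℤ) (K : DerivedCategory.Bounded A)
    (hK : Sz (n + 1) b K) : ∃ c, Can F F' α (n + 1) b K c := by
  obtain ⟨P, -⟩ := exists_pres hneg hK.1 (0 : A)
  have hge : GE K (b - 1 - n) := hK.2.mono (by push_cast; omega)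
  have hsz : Sz n (b - 1) P.Y := ⟨P.leY, P.geY hge (by omega)⟩
  obtain ⟨cY, hcY⟩ := hP.ex (b - 1) P.Y hsz
  obtain ⟨c, -, hc, -⟩ := P.complete F F' α cY (comm_of_pkg F F' α hneg hP P cY hcY)
  exact ⟨c, P, cY, hsz, hcY, hc⟩

include hneg in
lemma iso_succ {n : ℕ} (hP : Pkg F F' α n) (b : ℤ) (K : DerivedCategory.Bounded A)
    (c : F.obj K ⟶ F'.obj K) (hc : Can F F' α (n + 1) b K c) : IsIso c := by
  obtain ⟨P, cY, hY, hcY, hc⟩ := hc
  obtain ⟨c', -, hc', hiso⟩ :=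
    P.complete F F' α cY (comm_of_pkg F F' α hneg hP P cY hcY)
  have : c' = c := P.unique F F' α c' c (by rw [← hc', hc])
  rw [← this]
  exact hiso (hP.iso (b - 1) P.Y cY hcY)

include hneg in
lemma pkg_all : ∀ n : ℕ, Pkg F F' α n
  | 0 => pkg_zero F F' α
  | n + 1 =>
    { ex := ex_succ F F' α hneg (pkg_all n)
      nat := nat_succ F F' α hneg (pkg_all n)
      iso := iso_succ F F' α hneg (pkg_all n) }

include hneg in
lemma exists_can (K : DerivedCategory.Bounded A) :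
    ∃ (c : F.obj K ⟶ F'.obj K) (n : ℕ) (b : ℤ), Can F F' α n b K c := by
  obtain ⟨a, b, ha, hb⟩ := exists_bounds K
  have hsz : Sz (b - a).toNat b K :=
    ⟨hb, ha.mono (by have := Int.self_le_toNat (b - a); omega)⟩
  obtain ⟨c, hc⟩ := (pkg_all F F' α hneg _).ex b K hsz
  exact ⟨c, _, _, hc⟩

include hneg in
lemma can_nat {K L : DerivedCategory.Bounded A} {cK : F.obj K ⟶ F'.obj K}
    {cL : F.obj L ⟶ F'.obj L} {n n' : ℕ} {b b' : ℤ}
    (hK : Can F F' α n b K cK) (hL : Can F F' α n' b' L cL) (f : K ⟶ L) :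
    F.map f ≫ cL = cK ≫ F'.map f := by
  obtain ⟨b'', hb1, hb2⟩ : ∃ b'' : ℤ, b ≤ b'' ∧ b' ≤ b'' :=
    ⟨max b b', le_max_left _ _, le_max_right _ _⟩
  obtain ⟨n'', hn1, hn2⟩ : ∃ n'' : ℕ, (n : ℤ) + (b'' - b) ≤ n'' ∧ (n' : ℤ) + (b'' - b') ≤ n'' :=
    ⟨(max ((n : ℤ) + (b'' - b)) ((n' : ℤ) + (b'' - b'))).toNat,
      le_trans (le_max_left _ _) (Int.self_le_toNat _),
      le_trans (le_max_right _ _) (Int.self_le_toNat _)⟩
  exact (pkg_all F F' α hneg n'').nat b'' K L cK cL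
    (can_lift F F' α hneg n b K cK hK n'' b'' hb1 hn1)
    (can_lift F F' α hneg n' b' L cL hL n'' b'' hb2 hn2) f

include hneg α in
theorem main : Nonempty (F ≅ F') := by
  choose c n b hc using exists_can F F' α hneg
  haveI : ∀ K, IsIso (c K) := fun K => (pkg_all F F' α hneg (n K)).iso (b K) K (c K) (hc K)
  exact ⟨NatIso.ofComponents (fun K => asIso (c K))
    (fun {K L} f => can_nat F F' α hneg (hc K) (hc L) f)⟩

end

end Groth.Agent.H23.Neg
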