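import Mathlib

/-! Freeness via nilpotent Nakayama and a jointly injective family of base changes. -/

set_option autoImplicit false

namespace Groth.Agent.H23.NilFree

open TensorProduct

universe u

section nak

variable {A : Type*} [CommRing A] {J : Ideal A} {X : Type*} [AddCommGroup X] [Module A X]

lemma eq_bot_of_le_smul (hJ : IsNilpotent J) (K : Submodule A X) (h : K ≤ J • K) : K = ⊥ := by
  obtain ⟨n, hn⟩ := hJ
  have key : ∀ k : ℕ, K ≤ J ^ k • K := by
    intro k
    induction k with
    | zero => rw [pow_zero, Ideal.one_eq_top, Submodule.top_smul]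
    | succ k ih =>
      calc K ≤ J • K := h
        _ ≤ J • (J ^ k • K) := Submodule.smul_mono le_rfl ih
        _ = J ^ (k + 1) • K := by rw [← Submodule.mul_smul, ← pow_succ']
  have h2 := key n
  rw [hn, Ideal.zero_eq_bot, Submodule.bot_smul] at h2
  exact le_bot_iff.1 h2

lemma eq_top_of_sup_smul_eq_top (hJ : IsNilpotent J) (N : Submodule A X)
    (h : N ⊔ J • (⊤ : Submodule A X) = ⊤) : N = ⊤ := by
  obtain ⟨n, hn⟩ := hJ
  have key : ∀ k : ℕ, (⊤ : Submodule A X) ≤ N ⊔ J ^ k • (⊤ : Submodule A X) := by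
    intro k
    induction k with
    | zero => simp
    | succ k ih =>
      calc (⊤ : Submodule A X) = N ⊔ J • (⊤ : Submodule A X) := h.symm
        _ ≤ N ⊔ J • (N ⊔ J ^ k • (⊤ : Submodule A X)) :=
            sup_le_sup_left (Submodule.smul_mono le_rfl ih) _
        _ = N ⊔ (J • N ⊔ J • J ^ k • (⊤ : Submodule A X)) := by rw [Submodule.smul_sup]
        _ ≤ N ⊔ J ^ (k + 1) • (⊤ : Submodule A X) := by
            rw [← Submodule.mul_smul, ← pow_succ']
            exact sup_le le_sup_left
              (sup_le (Submodule.smul_le_right.trans le_sup_left) le_sup_right)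
  have h2 := key n
  rw [hn, Ideal.zero_eq_bot, Submodule.bot_smul, sup_bot_eq] at h2
  exact top_le_iff.1 h2

end nak

section main

variable {A : Type u} [CommRing A] (J : Ideal A)

/-- `ψ (x ⊗ 1) = 1 ⊗ φ x`. -/
lemma psi_mapRange (B : Type u) [CommRing B] [Algebra A B] (M : Type u) [AddCommGroup M]
    [Module A M] {Λ : Type*} (m : Λ → M) (x : Λ →₀ A) :
    Finsupp.linearCombination B (fun l => (1 : B) ⊗ₜ[A] m l)
        (x.mapRange (algebraMap A B) (map_zero _)) =
      (1 : B) ⊗ₜ[A] Finsupp.linearCombination A m x := by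
  induction x using Finsupp.induction_linear with
  | zero => simp
  | add x y hx hy =>
    rw [Finsupp.mapRange_add (by intro a b; exact map_add _ a b), map_add, map_add, hx, hy,
      TensorProduct.tmul_add]
  | single l a =>
    rw [Finsupp.mapRange_single, Finsupp.linearCombination_single,
      Finsupp.linearCombination_single, algebraMap_smul, TensorProduct.tmul_smul]

lemma coeff_eq_zero_of_baseChange (hJ : IsNilpotent J)
    (B : Type u) [CommRing B] [Algebra A B] (M : Type u) [AddCommGroup M] [Module A M]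
    [Module.Free B (B ⊗[A] M)]
    {Λ : Type*} (bbar : Module.Basis Λ (A ⧸ J) ((A ⧸ J) ⊗[A] M)) (m : Λ → M)
    (hm : ∀ l, (1 : A ⧸ J) ⊗ₜ[A] m l = bbar l)
    (hsurj : Function.Surjective (Finsupp.linearCombination A m))
    (y : Λ →₀ B) (hy : Finsupp.linearCombination B (fun l => (1 : B) ⊗ₜ[A] m l) y = 0) :
    y = 0 := by
  classical
  obtain ⟨ψ, hψ⟩ : ∃ ψ : (Λ →₀ B) →ₗ[B] B ⊗[A] M,
      ψ = Finsupp.linearCombination B (fun l => (1 : B) ⊗ₜ[A] m l) := ⟨_, rfl⟩
  rw [← hψ] at hy
  -- surjectivity of ψ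
  have hψsurj : Function.Surjective ψ := by
    intro z
    induction z using TensorProduct.induction_on with
    | zero => exact ⟨0, map_zero _⟩
    | tmul b w =>
      obtain ⟨x, rfl⟩ := hsurj w
      refine ⟨b • x.mapRange (algebraMap A B) (map_zero _), ?_⟩
      rw [map_smul, hψ, psi_mapRange, TensorProduct.smul_tmul', smul_eq_mul, mul_one]
    | add z w hz hw =>
      obtain ⟨a, rfl⟩ := hz
      obtain ⟨b, rfl⟩ := hw
      exact ⟨a + b, map_add _ _ _⟩
  obtain ⟨s, hs⟩ := Module.projective_lifting_property ψ LinearMap.id hψsurj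
  -- coordinates
  have hcoord : ∀ l : Λ, ∀ z : Λ →₀ B, ψ z = 0 → z l ∈ J • (⊤ : Submodule A B) := by
    intro l z hz
    let c : M →ₗ[A] A ⧸ J :=
      ((bbar.coord l).restrictScalars A).comp (TensorProduct.mk A (A ⧸ J) M 1)
    have hc : ∀ l', c (m l') = if l' = l then 1 else 0 := by
      intro l'
      change bbar.coord l ((1 : A ⧸ J) ⊗ₜ[A] m l') = _
      rw [hm, Module.Basis.coord_apply, Module.Basis.repr_self, Finsupp.single_apply]
    have hd : ∀ z : Λ →₀ B, (c.baseChange B) (ψ z) = z l ⊗ₜ[A] (1 : A ⧸ J) := by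
      intro z
      induction z using Finsupp.induction_linear with
      | zero => simp
      | add x y hx hy => rw [map_add, map_add, hx, hy, Finsupp.add_apply, TensorProduct.add_tmul]
      | single l' b =>
        rw [hψ, Finsupp.linearCombination_single, map_smul, LinearMap.baseChange_tmul, hc,
          TensorProduct.smul_tmul', smul_eq_mul, mul_one, Finsupp.single_apply]
        split_ifs with h
        · rfl
        · rw [TensorProduct.tmul_zero, TensorProduct.zero_tmul]
    have h1 := hd z
    rw [hz, map_zero] at h1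
    have h2 := congrArg (tensorQuotEquivQuotSMul B J) h1
    rw [map_zero, ← map_one (Ideal.Quotient.mk J), tensorQuotEquivQuotSMul_tmul_mk, one_smul] at h2
    exact (Submodule.Quotient.mk_eq_zero _).1 h2.symm
  -- the kernel is `J`-divisible
  obtain ⟨K, hK⟩ : ∃ K : Submodule A (Λ →₀ B), K = (LinearMap.ker ψ).restrictScalars A := ⟨_, rfl⟩
  have hKmem : ∀ z, z ∈ K ↔ ψ z = 0 := by
    intro z
    rw [hK, Submodule.restrictScalars_mem, LinearMap.mem_ker]
  have hKle : K ≤ J • K := by
    intro z hz
    have hz0 : ψ z = 0 := (hKmem z).1 hz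
    have hzJ : z ∈ J • (⊤ : Submodule A (Λ →₀ B)) := by
      rw [← Finsupp.sum_single z]
      refine Submodule.sum_mem _ (fun l _ => ?_)
      have h3 : z l ∈ J • (⊤ : Submodule A B) := hcoord l z hz0
      have h4 : (Finsupp.lsingle l : B →ₗ[A] (Λ →₀ B)) (z l) ∈
          Submodule.map (Finsupp.lsingle l : B →ₗ[A] (Λ →₀ B)) (J • (⊤ : Submodule A B)) :=
        Submodule.mem_map_of_mem h3
      rw [Submodule.map_smul''] at h4
      exact Submodule.smul_mono le_rfl le_top h4
    let π : (Λ →₀ B) →ₗ[A] (Λ →₀ B) := (LinearMap.id - s.comp ψ).restrictScalars A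
    have hπz : π z = z := by
      change z - s (ψ z) = z
      rw [hz0, map_zero, sub_zero]
    have hπK : Submodule.map π ⊤ ≤ K := by
      rintro _ ⟨w, -, rfl⟩
      rw [hKmem]
      change ψ (w - s (ψ w)) = 0
      have : ψ (s (ψ w)) = ψ w := LinearMap.congr_fun hs (ψ w)
      rw [map_sub, this, sub_self]
    have h5 : π z ∈ Submodule.map π (J • (⊤ : Submodule A (Λ →₀ B))) :=
      Submodule.mem_map_of_mem hzJ
    rw [Submodule.map_smul'', hπz] at h5
    exact Submodule.smul_mono le_rfl hπK h5
  have hKbot := eq_bot_of_le_smul hJ K hKle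
  have : y ∈ K := (hKmem y).2 hy
  rw [hKbot] at this
  exact (Submodule.mem_bot _).1 this

theorem free_of_nilpotent (hJ : IsNilpotent J)
    {ι : Type u} (B : ι → Type u) [∀ i, CommRing (B i)] [∀ i, Algebra A (B i)]
    (hB : ∀ a : A, (∀ i, algebraMap A (B i) a = 0) → a = 0)
    (M : Type u) [AddCommGroup M] [Module A M]
    (hfree : ∀ i, Module.Free (B i) (B i ⊗[A] M)) (hfreeJ : Module.Free (A ⧸ J) ((A ⧸ J) ⊗[A] M)) :
    Module.Free A M := by
  classical
  obtain ⟨bbar⟩ : Nonempty (Module.Basis (Module.Free.ChooseBasisIndex (A ⧸ J) ((A ⧸ J) ⊗[A] M))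
      (A ⧸ J) ((A ⧸ J) ⊗[A] M)) := ⟨Module.Free.chooseBasis _ _⟩
  have hmk_surj : ∀ z : (A ⧸ J) ⊗[A] M, ∃ w : M, (1 : A ⧸ J) ⊗ₜ[A] w = z := by
    intro z
    induction z using TensorProduct.induction_on with
    | zero => exact ⟨0, TensorProduct.tmul_zero _ _⟩
    | tmul abar w =>
      obtain ⟨a, rfl⟩ := Ideal.Quotient.mk_surjective abar
      refine ⟨a • w, ?_⟩
      rw [TensorProduct.tmul_smul, TensorProduct.smul_tmul', Algebra.smul_def, mul_one]
      rfl
    | add z w hz hw =>
      obtain ⟨a, rfl⟩ := hz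
      obtain ⟨b, rfl⟩ := hw
      exact ⟨a + b, TensorProduct.tmul_add _ _ _⟩
  choose m hm using fun l => hmk_surj (bbar l)
  have hsurj : Function.Surjective (Finsupp.linearCombination A m) := by
    rw [← LinearMap.range_eq_top]
    apply eq_top_of_sup_smul_eq_top hJ
    rw [eq_top_iff]
    intro x _
    obtain ⟨g, hg0, hg⟩ : ∃ g : A ⧸ J → A, g 0 = 0 ∧ ∀ c, Ideal.Quotient.mk J (g c) = c := by
      refine ⟨fun c => if c = 0 then 0 else Function.surjInv Ideal.Quotient.mk_surjective c,
        by simp, fun c => ?_⟩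
      by_cases hc : c = 0
      · simp [hc]
      · simp only [if_neg hc]
        exact Function.surjInv_eq _ c
    obtain ⟨c, hc⟩ : ∃ c : _ →₀ A, c = (bbar.repr ((1 : A ⧸ J) ⊗ₜ[A] x)).mapRange g hg0 :=
      ⟨_, rfl⟩
    have h1 : (1 : A ⧸ J) ⊗ₜ[A] (Finsupp.linearCombination A m c) = (1 : A ⧸ J) ⊗ₜ[A] x := by
      have e1 : (1 : A ⧸ J) ⊗ₜ[A] (Finsupp.linearCombination A m c) =
          Finsupp.linearCombination A (fun l => bbar l) c := by
        have := Finsupp.apply_linearCombination A (TensorProduct.mk A (A ⧸ J) M 1) m c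
        rw [TensorProduct.mk_apply] at this
        rw [this]
        have hfun : (⇑(TensorProduct.mk A (A ⧸ J) M 1) ∘ m) = fun l => bbar l := by
          funext l
          exact hm l
        rw [hfun]
      rw [e1, hc, Finsupp.linearCombination_apply, Finsupp.sum_mapRange_index (by simp)]
      conv_rhs => rw [← bbar.linearCombination_repr ((1 : A ⧸ J) ⊗ₜ[A] x),
        Finsupp.linearCombination_apply]
      refine Finsupp.sum_congr (fun l _ => ?_)
      rw [← algebraMap_smul (A ⧸ J) (g _) (bbar l), Ideal.Quotient.algebraMap_eq, hg]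
    have h2 : x - Finsupp.linearCombination A m c ∈ J • (⊤ : Submodule A M) := by
      have h3 : (1 : A ⧸ J) ⊗ₜ[A] (x - Finsupp.linearCombination A m c) = 0 := by
        rw [TensorProduct.tmul_sub, h1, sub_self]
      have h4 := congrArg (quotTensorEquivQuotSMul M J) h3
      rw [quotTensorEquivQuotSMul_mk_one_tmul, map_zero, Submodule.Quotient.mk_eq_zero] at h4
      exact h4
    have h5 : x = Finsupp.linearCombination A m c + (x - Finsupp.linearCombination A m c) := by
      abel
    rw [h5]
    exact Submodule.add_mem_sup (LinearMap.mem_range_self _ _) h2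
  have hinj : Function.Injective (Finsupp.linearCombination A m) := by
    rw [← LinearMap.ker_eq_bot, LinearMap.ker_eq_bot']
    intro x hx
    ext l
    rw [Finsupp.zero_apply]
    apply hB
    intro i
    have h1 := psi_mapRange (B i) M m x
    rw [hx, TensorProduct.tmul_zero] at h1
    have h2 := coeff_eq_zero_of_baseChange J hJ (B i) M bbar m hm hsurj _ h1
    have h3 := DFunLike.congr_fun h2 l
    rwa [Finsupp.mapRange_apply, Finsupp.zero_apply] at h3
  exact Module.Free.of_basis (Module.Basis.ofRepr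
    (LinearEquiv.ofBijective (Finsupp.linearCombination A m) ⟨hinj, hsurj⟩).symm)

end main

end Groth.Agent.H23.NilFree
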