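import Groth.Agent.H23.PCohCone

/-!
# Pseudo-coherence over an abelian category: the approximation lemma (helper23)
-/

open CategoryTheory CategoryTheory.Limits CochainComplex.HomComplex

universe w v u

namespace Groth.Agent.H23.PCohLib

variable {C : Type u} [Category.{v} C] [Abelian C]

open CochainComplex
open scoped ZeroObject

lemma isZero_homology_of_isZero_X (K : CochainComplex C ℤ) (i : ℤ) (h : IsZero (K.X i)) :
    IsZero (K.homology i) := by
  rw [← HomologicalComplex.exactAt_iff_isZero_homology]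
  exact ShortComplex.exact_of_isZero_X₂ _ h

lemma isIso_of_isZero {X Y : C} (f : X ⟶ Y) (hX : IsZero X) (hY : IsZero Y) : IsIso f :=
  ⟨⟨0, hX.eq_of_src _ _, hY.eq_of_src _ _⟩⟩

lemma epi_of_isZero {X Y : C} (f : X ⟶ Y) (hY : IsZero Y) : Epi f :=
  ⟨fun _ _ _ => hY.eq_of_src _ _⟩

lemma prop_cone (P : ObjectProperty C) [P.IsClosedUnderIsomorphisms]
    (hsum : ∀ X Y : C, P X → P Y → P (X ⨯ Y)) {K L : CochainComplex C ℤ} (φ : K ⟶ L) (i : ℤ)
    (hK : P (K.X (i + 1))) (hL : P (L.X i)) : P ((mappingCone φ).X i) :=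
  P.prop_of_iso ((HomologicalComplex.homotopyCofiber.XIsoBiprod φ i (i + 1) rfl) ≪≫
    biprod.isoProd _ _).symm (hsum _ _ hK hL)

/-- The approximation lemma: a complex quasi-isomorphic to a strictly `n`-pseudo-coherent complex
receives an `n`-quasi-isomorphism from a bounded complex with terms in `C₀`, concentrated in
degrees `[n, b]`. -/
theorem approx (P : ObjectProperty C) [P.IsClosedUnderIsomorphisms] [P.ContainsZero]
    (hsum : ∀ X Y : C, P X → P Y → P (X ⨯ Y))
    (hqs : PCoh.IsQuasiStableUnderKernels P) (hql : PCoh.IsQuasiLiftable P)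
    (n : ℤ) (E F : CochainComplex C ℤ) (u : E ⟶ F) [QuasiIso u] (hF : PCoh.IsStrictPC P n F) :
    ∃ (R : CochainComplex C ℤ) (b : ℤ) (t : R ⟶ E), (∀ i, i < n ∨ b < i → IsZero (R.X i)) ∧
      (∀ i, P (R.X i)) ∧ (∀ i, n < i → IsIso (HomologicalComplex.homologyMap t i)) ∧
      Epi (HomologicalComplex.homologyMap t n) := by
  obtain ⟨⟨b, hb⟩, hP⟩ := hF
  have hEz : ∀ i, b < i → IsZero (E.homology i) := fun i hi =>
    IsZero.of_iso (isZero_homology_of_isZero_X F i (hb i hi))
      (asIso (HomologicalComplex.homologyMap u i))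
  have base : ∀ k, b + 1 ≤ k → ∃ (R : CochainComplex C ℤ) (t : R ⟶ E),
      (∀ i, i < k ∨ b < i → IsZero (R.X i)) ∧
      (∀ i, P (R.X i)) ∧ (∀ i, k < i → IsIso (HomologicalComplex.homologyMap t i)) ∧
      Epi (HomologicalComplex.homologyMap t k) := by
    intro k hk
    have hz : ∀ i, IsZero ((0 : CochainComplex C ℤ).X i) := fun i =>
      Functor.map_isZero (HomologicalComplex.eval C (ComplexShape.up ℤ) i) (isZero_zero _)
    refine ⟨0, 0, fun i _ => hz i, fun i => P.prop_of_isZero (hz i), fun i hi => ?_, ?_⟩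
    · exact isIso_of_isZero _ (isZero_homology_of_isZero_X _ i (hz i)) (hEz i (by omega))
    · exact epi_of_isZero _ (hEz k (by omega))
  have step : ∀ k, n ≤ k → (∃ (R : CochainComplex C ℤ) (t : R ⟶ E),
      (∀ i, i < k + 1 ∨ b < i → IsZero (R.X i)) ∧
      (∀ i, P (R.X i)) ∧ (∀ i, k + 1 < i → IsIso (HomologicalComplex.homologyMap t i)) ∧
      Epi (HomologicalComplex.homologyMap t (k + 1))) →
      ∃ (R : CochainComplex C ℤ) (t : R ⟶ E),
      (∀ i, i < k ∨ b < i → IsZero (R.X i)) ∧
      (∀ i, P (R.X i)) ∧ (∀ i, k < i → IsIso (HomologicalComplex.homologyMap t i)) ∧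
      Epi (HomologicalComplex.homologyMap t k) := by
    intro k hk ⟨R₁, t₁, hz₁, hP₁, hiso₁, hepi₁⟩
    by_cases hkb : b + 1 ≤ k
    · exact base k hkb
    have hkb' : k ≤ b := by omega
    -- finite type of H^k of the cone
    have hcone : PCoh.IsOfFiniteType P ((mappingCone t₁).homology k) := by
      have hcomm : t₁ ≫ u = 𝟙 R₁ ≫ (t₁ ≫ u) := by rw [Category.id_comp]
      haveI := quasiIso_cone_map t₁ (t₁ ≫ u) (𝟙 R₁) u hcomm
      refine finiteType_of_iso P (asIso (HomologicalComplex.homologyMap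
        (mappingCone.map t₁ (t₁ ≫ u) (𝟙 R₁) u hcomm) k)).symm ?_
      apply finiteType_homology P hqs (mappingCone (t₁ ≫ u)) k b
      · intro i hi
        rw [mappingCone.isZero_X_iff]
        exact ⟨hz₁ _ (Or.inr (by omega)), hb i hi⟩
      · intro i hi
        exact prop_cone P hsum _ i (hP₁ _) (hP i (by omega))
      · intro i hi
        apply cone_exactAt
        · rw [HomologicalComplex.homologyMap_comp]
          by_cases h : i = k + 1
          · subst h
            haveI := hepi₁
            exact epi_comp _ _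
          · haveI := hiso₁ i (by omega)
            exact epi_comp _ _
        · rw [HomologicalComplex.homologyMap_comp]
          haveI := hiso₁ (i + 1) (by omega)
          exact mono_comp _ _
    obtain ⟨R₂, v, t₂, hvt, hmono, hviso, hPcok, hiso₂, hepi₂⟩ :=
      one_step P hql k R₁ E t₁ hiso₁ hepi₁ hcone
    have hPk : P (R₂.X k) := by
      have h0 : v.f k = 0 := (hz₁ k (Or.inl (by omega))).eq_of_src _ _
      exact P.prop_of_iso (cokernelIsoOfEq h0 ≪≫ cokernelZeroIsoTarget) hPcok
    refine ⟨R₂, t₂, ?_, ?_, hiso₂, hepi₂⟩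
    · intro i hi
      have hik : i ≠ k := by omega
      haveI := hviso i hik
      exact IsZero.of_iso (hz₁ i (by omega)) (asIso (v.f i)).symm
    · intro i
      by_cases hik : i = k
      · subst hik
        exact hPk
      · haveI := hviso i hik
        exact P.prop_of_iso (asIso (v.f i)) (hP₁ i)
  have main : ∀ m : ℕ, ∀ k, n ≤ k → b + 1 ≤ k + m → ∃ (R : CochainComplex C ℤ) (t : R ⟶ E),
      (∀ i, i < k ∨ b < i → IsZero (R.X i)) ∧
      (∀ i, P (R.X i)) ∧ (∀ i, k < i → IsIso (HomologicalComplex.homologyMap t i)) ∧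
      Epi (HomologicalComplex.homologyMap t k) := by
    intro m
    induction m with
    | zero =>
      intro k _ hkb
      exact base k (by simpa using hkb)
    | succ m ih =>
      intro k hk hkb
      exact step k hk (ih (k + 1) (by omega) (by push_cast at hkb; omega))
  obtain ⟨R, t, h1, h2, h3, h4⟩ := main (b + 1 - n).toNat n le_rfl (by omega)
  exact ⟨R, b, t, h1, h2, h3, h4⟩

end Groth.Agent.H23.PCohLib
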