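import Groth.Agent.H23.PCohFun

/-!
# Finite type, precoherent and coherent objects relative to `C₀` (helper23)
-/

open CategoryTheory CategoryTheory.Limits

universe w v u

namespace Groth.Agent.H23.PCohLib

variable {C : Type u} [Category.{v} C] [Abelian C]

variable (P : ObjectProperty C)

/-- `X` is precoherent: every morphism from an object of `C₀` has kernel of finite type. -/
def PreCoh (X : C) : Prop :=
  ∀ (E : C) (u : E ⟶ X), P E → PCoh.IsOfFiniteType P (kernel u)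

lemma ft_of_epi {X Y : C} (f : X ⟶ Y) [Epi f] (h : PCoh.IsOfFiniteType P X) :
    PCoh.IsOfFiniteType P Y := by
  obtain ⟨G, π, hG, hπ⟩ := h
  haveI := hπ
  exact ⟨G, π ≫ f, hG, epi_comp _ _⟩

/-- kernel in an exact sequence `0 → F → G → H` -/
lemma ft_kernel (S : ShortComplex C) (hS : S.Exact) (hf : Mono S.f)
    (hG : PCoh.IsOfFiniteType P S.X₂) (hH : PreCoh P S.X₃) : PCoh.IsOfFiniteType P S.X₁ := by
  obtain ⟨P₀, π, hP₀, hπ⟩ := hG
  haveI := hπ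
  haveI := hf
  obtain ⟨k, hk⟩ : ∃ k : kernel (π ≫ S.g) ⟶ S.X₁, k ≫ S.f = kernel.ι (π ≫ S.g) ≫ π :=
    ⟨hS.lift (kernel.ι (π ≫ S.g) ≫ π) (by rw [Category.assoc, kernel.condition]), hS.lift_f _ _⟩
  haveI : Epi k := by
    rw [epi_iff_surjective_up_to_refinements]
    intro A y
    obtain ⟨A', π', hπ', x, hx⟩ := surjective_up_to_refinements_of_epi π (y ≫ S.f)
    have hx0 : x ≫ π ≫ S.g = 0 := by
      rw [← Category.assoc, ← hx, Category.assoc, Category.assoc, S.zero, comp_zero, comp_zero]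
    refine ⟨A', π', hπ', kernel.lift (π ≫ S.g) x hx0, ?_⟩
    rw [← cancel_mono S.f, Category.assoc, Category.assoc, hk, kernel.lift_ι_assoc, hx]
  exact ft_of_epi P k (hH P₀ (π ≫ S.g) hP₀)

lemma PreCoh.of_mono {K X : C} (ι : K ⟶ X) [Mono ι] (h : PreCoh P X) : PreCoh P K :=
  fun E u hE => finiteType_of_iso P (kernelCompMono u ι) (h E (u ≫ ι) hE)

/-- kernels along an epimorphism -/
lemma ft_kernel_of_epi_comp {E' E X : C} (p : E' ⟶ E) [Epi p] (u : E ⟶ X)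
    (h : PCoh.IsOfFiniteType P (kernel (p ≫ u))) : PCoh.IsOfFiniteType P (kernel u) := by
  obtain ⟨q, hq⟩ : ∃ q : kernel (p ≫ u) ⟶ kernel u, q ≫ kernel.ι u = kernel.ι (p ≫ u) ≫ p :=
    ⟨kernel.lift u (kernel.ι (p ≫ u) ≫ p) (by rw [Category.assoc, kernel.condition]),
      kernel.lift_ι _ _ _⟩
  haveI : Epi q := by
    rw [epi_iff_surjective_up_to_refinements]
    intro A y
    obtain ⟨A', π', hπ', x, hx⟩ := surjective_up_to_refinements_of_epi p (y ≫ kernel.ι u)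
    have hx0 : x ≫ p ≫ u = 0 := by
      rw [← Category.assoc, ← hx, Category.assoc, Category.assoc, kernel.condition, comp_zero,
        comp_zero]
    refine ⟨A', π', hπ', kernel.lift (p ≫ u) x hx0, ?_⟩
    rw [← cancel_mono (kernel.ι u), Category.assoc, Category.assoc, hq, kernel.lift_ι_assoc, hx]
  exact ft_of_epi P q h

variable [P.IsClosedUnderIsomorphisms]
  (hsum : ∀ X Y : C, P X → P Y → P (X ⨯ Y)) (hql : PCoh.IsQuasiLiftable P)

include hsum in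
lemma prop_biprod {X Y : C} (hX : P X) (hY : P Y) : P (X ⊞ Y) :=
  P.prop_of_iso (biprod.isoProd X Y).symm (hsum X Y hX hY)

include hsum hql in
/-- cokernel in an exact sequence `F → G → H → 0` -/
lemma preCoh_cokernel (S : ShortComplex C) (hS : S.Exact) (hg : Epi S.g)
    (hF : PCoh.IsOfFiniteType P S.X₁) (hG : PreCoh P S.X₂) : PreCoh P S.X₃ := by
  intro E u hE
  haveI := hg
  obtain ⟨E', w, hE', hw⟩ := hql _ _ (pullback.snd S.g u) inferInstance hE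
  haveI := hw
  obtain ⟨p, hp⟩ : ∃ p : E' ⟶ E, p = w ≫ pullback.snd S.g u := ⟨_, rfl⟩
  haveI : Epi p := by rw [hp]; exact hw
  obtain ⟨ũ, hũ⟩ : ∃ ũ : E' ⟶ S.X₂, ũ = w ≫ pullback.fst S.g u := ⟨_, rfl⟩
  have hcomm : ũ ≫ S.g = p ≫ u := by
    rw [hũ, hp, Category.assoc, Category.assoc, pullback.condition]
  apply ft_kernel_of_epi_comp P p u
  refine finiteType_of_iso P (kernelIsoOfEq hcomm) ?_
  obtain ⟨P_F, π_F, hP_F, hπ_F⟩ := hF
  haveI := hπ_F
  obtain ⟨w', hw'⟩ : ∃ w' : E' ⊞ P_F ⟶ S.X₂,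
      w' = biprod.fst ≫ ũ - biprod.snd ≫ π_F ≫ S.f := ⟨_, rfl⟩
  have hK := hG (E' ⊞ P_F) w' (prop_biprod P hsum hE' hP_F)
  have h0 : (kernel.ι w' ≫ biprod.fst) ≫ ũ ≫ S.g = 0 := by
    have h1 : kernel.ι w' ≫ (biprod.fst ≫ ũ - biprod.snd ≫ π_F ≫ S.f) = 0 := by
      rw [← hw']
      exact kernel.condition w'
    rw [Preadditive.comp_sub, sub_eq_zero] at h1
    rw [Category.assoc, reassoc_of% h1, S.zero, comp_zero, comp_zero, comp_zero]
  obtain ⟨q, hq⟩ : ∃ q : kernel w' ⟶ kernel (ũ ≫ S.g),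
      q ≫ kernel.ι (ũ ≫ S.g) = kernel.ι w' ≫ biprod.fst :=
    ⟨kernel.lift _ _ h0, kernel.lift_ι _ _ _⟩
  haveI : Epi q := by
    rw [epi_iff_surjective_up_to_refinements]
    intro A y
    have hy0 : (y ≫ kernel.ι (ũ ≫ S.g) ≫ ũ) ≫ S.g = 0 := by
      rw [Category.assoc, Category.assoc, kernel.condition, comp_zero]
    obtain ⟨A₁, π₁, hπ₁, x₁, hx₁⟩ := hS.exact_up_to_refinements _ hy0
    obtain ⟨A₂, π₂, hπ₂, z, hz⟩ := surjective_up_to_refinements_of_epi π_F x₁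
    haveI := hπ₁
    haveI := hπ₂
    have hk0 : biprod.lift (π₂ ≫ π₁ ≫ y ≫ kernel.ι (ũ ≫ S.g)) z ≫ w' = 0 := by
      have e1 : z ≫ π_F ≫ S.f = π₂ ≫ π₁ ≫ y ≫ kernel.ι (ũ ≫ S.g) ≫ ũ := by
        rw [← Category.assoc z, ← hz, Category.assoc, ← hx₁]
      rw [hw', Preadditive.comp_sub, biprod.lift_fst_assoc, biprod.lift_snd_assoc, sub_eq_zero, e1]
      simp only [Category.assoc]
    refine ⟨A₂, π₂ ≫ π₁, epi_comp _ _, kernel.lift w' _ hk0, ?_⟩
    rw [← cancel_mono (kernel.ι (ũ ≫ S.g))]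
    simp only [Category.assoc]
    rw [hq, kernel.lift_ι_assoc, biprod.lift_fst]
  exact ft_of_epi P q hK

/-- extensions of precoherent objects are precoherent -/
lemma preCoh_ext (S : ShortComplex C) (hS : S.ShortExact) (h₁ : PreCoh P S.X₁)
    (h₃ : PreCoh P S.X₃) : PreCoh P S.X₂ := by
  intro E u hE
  haveI := hS.mono_f
  obtain ⟨P₁, ρ, hP₁, hρ⟩ := h₃ E (u ≫ S.g) hE
  haveI := hρ
  obtain ⟨w, hw⟩ : ∃ w : kernel (u ≫ S.g) ⟶ S.X₁, w ≫ S.f = kernel.ι (u ≫ S.g) ≫ u :=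
    ⟨hS.exact.lift (kernel.ι (u ≫ S.g) ≫ u) (by rw [Category.assoc, kernel.condition]),
      hS.exact.lift_f _ _⟩
  have hK := h₁ P₁ (ρ ≫ w) hP₁
  have h0 : (kernel.ι (ρ ≫ w) ≫ ρ ≫ kernel.ι (u ≫ S.g)) ≫ u = 0 := by
    rw [Category.assoc, Category.assoc, ← hw, ← Category.assoc ρ, kernel.condition_assoc,
      zero_comp]
  obtain ⟨q, hq⟩ : ∃ q : kernel (ρ ≫ w) ⟶ kernel u,
      q ≫ kernel.ι u = kernel.ι (ρ ≫ w) ≫ ρ ≫ kernel.ι (u ≫ S.g) :=
    ⟨kernel.lift _ _ h0, kernel.lift_ι _ _ _⟩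
  haveI : Epi q := by
    rw [epi_iff_surjective_up_to_refinements]
    intro A y
    have hy0 : (y ≫ kernel.ι u) ≫ u ≫ S.g = 0 := by
      rw [Category.assoc, kernel.condition_assoc, zero_comp, comp_zero]
    obtain ⟨A', π', hπ', x, hx⟩ := surjective_up_to_refinements_of_epi ρ
      (kernel.lift (u ≫ S.g) (y ≫ kernel.ι u) hy0)
    have hx0 : x ≫ ρ ≫ w = 0 := by
      rw [← cancel_mono S.f, Category.assoc, Category.assoc, hw, ← Category.assoc x, ← hx,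
        Category.assoc, kernel.lift_ι_assoc, Category.assoc, kernel.condition, comp_zero,
        zero_comp, comp_zero]
    refine ⟨A', π', hπ', kernel.lift (ρ ≫ w) x hx0, ?_⟩
    rw [← cancel_mono (kernel.ι u), Category.assoc, Category.assoc, hq, kernel.lift_ι_assoc,
      ← Category.assoc x, ← hx, Category.assoc, kernel.lift_ι]
  exact ft_of_epi P q hK

include hsum hql in
/-- extensions of objects of finite type are of finite type -/
lemma ft_ext (S : ShortComplex C) (hS : S.ShortExact) (h₁ : PCoh.IsOfFiniteType P S.X₁)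
    (h₃ : PCoh.IsOfFiniteType P S.X₃) : PCoh.IsOfFiniteType P S.X₂ := by
  obtain ⟨P₁, π₁, hP₁, hπ₁⟩ := h₁
  obtain ⟨P₃, π₃, hP₃, hπ₃⟩ := h₃
  haveI := hπ₁
  haveI := hπ₃
  haveI := hS.epi_g
  obtain ⟨P', w, hP', hw⟩ := hql _ _ (pullback.snd S.g π₃) inferInstance hP₃
  haveI := hw
  obtain ⟨l, hl⟩ : ∃ l : P' ⟶ S.X₂, l = w ≫ pullback.fst S.g π₃ := ⟨_, rfl⟩
  have hlg : l ≫ S.g = (w ≫ pullback.snd S.g π₃) ≫ π₃ := by
    rw [hl, Category.assoc, Category.assoc, pullback.condition]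
  haveI : Epi (l ≫ S.g) := by rw [hlg]; exact epi_comp _ _
  refine ⟨P₁ ⊞ P', biprod.desc (π₁ ≫ S.f) l, prop_biprod P hsum hP₁ hP', ?_⟩
  rw [epi_iff_surjective_up_to_refinements]
  intro A y
  obtain ⟨A₁, π', hπ', x, hx⟩ := surjective_up_to_refinements_of_epi (l ≫ S.g) (y ≫ S.g)
  have h0 : (π' ≫ y - x ≫ l) ≫ S.g = 0 := by
    rw [Preadditive.sub_comp, Category.assoc, Category.assoc, hx, sub_self]
  obtain ⟨A₂, π'', hπ'', z, hz⟩ := hS.exact.exact_up_to_refinements _ h0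
  obtain ⟨A₃, π''', hπ''', z', hz'⟩ := surjective_up_to_refinements_of_epi π₁ z
  haveI := hπ'
  haveI := hπ''
  haveI := hπ'''
  refine ⟨A₃, π''' ≫ π'' ≫ π', epi_comp _ _, biprod.lift z' (π''' ≫ π'' ≫ x), ?_⟩
  have e1 : z' ≫ π₁ ≫ S.f = π''' ≫ π'' ≫ (π' ≫ y - x ≫ l) := by
    rw [← Category.assoc z', ← hz', Category.assoc, ← hz]
  rw [biprod.lift_desc, e1]
  simp only [Preadditive.comp_sub, Category.assoc]
  abel

end Groth.Agent.H23.PCohLib
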