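import Groth.Agent.H23.PCohCoh

/-!
# The coherent case (helper23)
-/

open CategoryTheory CategoryTheory.Limits DerivedCategory Pretriangulated

universe w v u

namespace Groth.Agent.H23.PCohLib

variable {C : Type u} [Category.{v} C] [Abelian C]

variable (P : ObjectProperty C) [P.IsClosedUnderIsomorphisms] [P.ContainsZero]
  (hcoh : ∀ (X E : C) (u : E ⟶ X), P X → P E → PCoh.IsOfFiniteType P (Limits.kernel u))

include hcoh in
lemma quasiStable_of_coh : PCoh.IsQuasiStableUnderKernels P := by
  intro K hex hb hK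
  haveI := isIso_toCycles_zero K (hex 0) (hex 1)
  have e1 : K.X 0 ≅ K.cycles 1 := asIso (K.toCycles 0 1)
  have e2 : K.cycles 1 ≅ Limits.kernel (K.d 1 2) :=
    IsLimit.conePointUniqueUpToIso (K.cyclesIsKernel 1 2 (by simp)) (limit.isLimit _)
  exact finiteType_of_iso P (e1 ≪≫ e2).symm
    (hcoh (K.X 2) (K.X 1) (K.d 1 2) (hK 2 (by omega)) (hK 1 le_rfl))

include hcoh in
lemma preCoh_of_P {X : C} (hX : P X) : PreCoh P X := fun E u hE => hcoh X E u hX hE

include hcoh in
lemma ft_cycles_of_coh (E : CochainComplex C ℤ) (i : ℤ) (h1 : P (E.X i)) (h2 : P (E.X (i + 1))) :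
    PCoh.IsOfFiniteType P (E.cycles i) := by
  have e2 : E.cycles i ≅ Limits.kernel (E.d i (i + 1)) :=
    IsLimit.conePointUniqueUpToIso (E.cyclesIsKernel i (i + 1) (by simp))
      (limit.isLimit _)
  exact finiteType_of_iso P e2.symm (hcoh _ _ _ h2 h1)

variable (hsum : ∀ X Y : C, P X → P Y → P (X ⨯ Y)) (hql : PCoh.IsQuasiLiftable P)

include hcoh hsum hql in
lemma preCoh_homology_of_coh (E : CochainComplex C ℤ) (i : ℤ) (h0 : P (E.X (i - 1)))
    (h1 : P (E.X i)) : PreCoh P (E.homology i) := by
  have hS : (ShortComplex.mk (E.toCycles (i - 1) i) (E.homologyπ i) (by simp)).Exact :=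
    ShortComplex.exact_of_g_is_cokernel _ (E.homologyIsCokernel (i - 1) i (by simp))
  exact preCoh_cokernel P hsum hql _ hS (by dsimp; infer_instance)
    ⟨E.X (i - 1), 𝟙 _, h0, inferInstance⟩
    (PreCoh.of_mono P (E.iCycles i) (preCoh_of_P P hcoh h1))

variable [HasDerivedCategory.{w} C]

include hsum hql in
lemma FP.of_ft {X : C} (h : PCoh.IsOfFiniteType P X) : FP P 0 X := by
  have : NPC P 0 ((singleFunctor C 0).obj X) :=
    npc_of_finiteType P hsum hql 0 _
      (fun i hi => isZero_of_isLE ((singleFunctor C 0).obj X) 0 i hi)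
      (finiteType_of_iso P ((singleFunctorCompHomologyFunctorIso C 0).app X).symm h)
  exact NPC.mono P (by omega) this

include hcoh hsum hql in
lemma fp_of_coh : ∀ (j : ℕ) (X : C), PCoh.IsOfFiniteType P X → PreCoh P X → FP P j X := by
  have hqs := quasiStable_of_coh P hcoh
  intro j
  induction j with
  | zero =>
    intro X hX _
    exact FP.of_ft P hsum hql hX
  | succ j ih =>
    intro X hX hX'
    obtain ⟨P₀, π, hP₀, hπ⟩ := hX
    haveI := hπ
    have hK1 : PCoh.IsOfFiniteType P (Limits.kernel π) := hX' P₀ π hP₀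
    have hK2 : PreCoh P (Limits.kernel π) := PreCoh.of_mono P (kernel.ι π) (preCoh_of_P P hcoh hP₀)
    have hK := ih (Limits.kernel π) hK1 hK2
    have hS : (ShortComplex.mk (kernel.ι π) π (kernel.condition π)).ShortExact :=
      ShortComplex.ShortExact.mk' (ShortComplex.exact_of_f_is_kernel _ (kernelIsKernel π))
        (by dsimp; infer_instance) (by dsimp; infer_instance)
    have := npc_cone P hsum hqs hql (-((j : ℤ) + 1)) hS.singleTriangle
      hS.singleTriangle_distinguished (NPC.mono P (by omega) hK) (FP.of_P P _ hP₀)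
    exact NPC.mono P (by push_cast; omega) this

include hcoh hsum hql in
/-- The coherent case. -/
theorem npc_iff_coh (n : ℤ) (F : DerivedCategory C) (b : ℤ)
    (hb : ∀ i : ℤ, b < i → IsZero ((homologyFunctor C i).obj F)) :
    NPC P n F ↔ (PCoh.IsOfFiniteType P ((homologyFunctor C n).obj F) ∧
      ∀ i : ℤ, n < i → (PCoh.IsOfFiniteType P ((homologyFunctor C i).obj F) ∧
        PreCoh P ((homologyFunctor C i).obj F))) := by
  have hqs := quasiStable_of_coh P hcoh
  constructor
  · rintro ⟨E, ⟨-, hP⟩, ⟨e⟩⟩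
    have iso : ∀ i, E.homology i ≅ (homologyFunctor C i).obj F := fun i =>
      ((homologyFunctorFactors C i).app E).symm ≪≫ (homologyFunctor C i).mapIso e
    have hft : ∀ i, n ≤ i → PCoh.IsOfFiniteType P ((homologyFunctor C i).obj F) := fun i hi =>
      finiteType_of_iso P (iso i) (ft_of_epi P (E.homologyπ i)
        (ft_cycles_of_coh P hcoh E i (hP i hi) (hP (i + 1) (by omega))))
    refine ⟨hft n le_rfl, fun i hi => ⟨hft i hi.le, ?_⟩⟩
    exact PreCoh.of_mono P (iso i).inv
      (preCoh_homology_of_coh P hcoh hsum hql E i (hP (i - 1) (by omega)) (hP i hi.le))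
  · rintro ⟨h1, h2⟩
    refine npc_of_homology P hsum hqs hql n (b + 1 - n).toNat F b hb (by omega) ?_
    intro i hi
    by_cases hin : i = n
    · subst hin
      exact NPC.mono P (by omega) (FP.of_ft P hsum hql h1)
    · have := fp_of_coh P hcoh hsum hql (i - n).toNat _ (h2 i (by omega)).1 (h2 i (by omega)).2
      exact NPC.mono P (by omega) this

end Groth.Agent.H23.PCohLib
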