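import Groth.Agent.H23.PCohApprox

/-!
# Pseudo-coherence over an abelian category: derived category level (helper23)
-/

open CategoryTheory CategoryTheory.Limits DerivedCategory Pretriangulated

universe w v u

namespace Groth.Agent.H23.PCohLib

variable {C : Type u} [Category.{v} C] [Abelian C] [HasDerivedCategory.{w} C]

/-- `F` is `n`-pseudo-coherent. -/
def NPC (P : ObjectProperty C) (n : ℤ) (F : DerivedCategory C) : Prop :=
  ∃ E : CochainComplex C ℤ, PCoh.IsStrictPC P n E ∧ Nonempty (Q.obj E ≅ F)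

section Transfer

lemma epi_map_of_natIso' {A B : Type*} [Category A] [Category B] {F G : A ⥤ B} (e : F ≅ G)
    {X Y : A} (f : X ⟶ Y) (h : Epi (G.map f)) : Epi (F.map f) := by
  haveI := h
  have h1 : F.map f = e.hom.app X ≫ G.map f ≫ e.inv.app Y := by simp
  rw [h1]
  infer_instance

variable {K L : CochainComplex C ℤ} (t : K ⟶ L) (i : ℤ)

lemma isIso_homologyFunctor_Q_map (h : IsIso (HomologicalComplex.homologyMap t i)) :
    IsIso ((homologyFunctor C i).map (Q.map t)) :=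
  (NatIso.isIso_map_iff (homologyFunctorFactors C i) t).2 h

lemma epi_homologyFunctor_Q_map (h : Epi (HomologicalComplex.homologyMap t i)) :
    Epi ((homologyFunctor C i).map (Q.map t)) :=
  epi_map_of_natIso' (homologyFunctorFactors C i) t h

end Transfer

lemma isZero_homology_cone (T : Triangle (DerivedCategory C)) (hT : T ∈ distTriang _) (i : ℤ)
    (hepi : Epi ((homologyFunctor C i).map T.mor₁))
    (hmono : Mono ((homologyFunctor C (i + 1)).map T.mor₁)) :
    IsZero ((homologyFunctor C i).obj T.obj₃) :=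
  (HomologySequence.exact₃ T hT i (i + 1) rfl).isZero_of_both_zeros
    ((HomologySequence.epi_homologyMap_mor₁_iff T hT i).1 hepi)
    ((HomologySequence.mono_homologyMap_mor₁_iff T hT i (i + 1) rfl).1 hmono)

variable (P : ObjectProperty C)

lemma NPC.of_iso {n : ℤ} {F F' : DerivedCategory C} (e : F ≅ F') (h : NPC P n F) :
    NPC P n F' := by
  obtain ⟨E, hE, ⟨e'⟩⟩ := h
  exact ⟨E, hE, ⟨e' ≪≫ e⟩⟩

lemma NPC.mono {n n' : ℤ} (hn : n ≤ n') {F : DerivedCategory C} (h : NPC P n F) :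
    NPC P n' F := by
  obtain ⟨E, ⟨hb, hP⟩, he⟩ := h
  exact ⟨E, ⟨hb, fun i hi => hP i (by omega)⟩, he⟩

lemma NPC.shift {n : ℤ} {F : DerivedCategory C} (h : NPC P n F) (m n' : ℤ) (hn' : n' + m = n) :
    NPC P n' (F⟦m⟧) := by
  obtain ⟨E, ⟨⟨b, hb⟩, hP⟩, ⟨e⟩⟩ := h
  refine ⟨E⟦m⟧, ⟨⟨b - m, fun i hi => ?_⟩, fun i hi => ?_⟩,
    ⟨(Q.commShiftIso m).app E ≪≫ (shiftFunctor (DerivedCategory C) m).mapIso e⟩⟩
  · rw [CochainComplex.shiftFunctor_obj_X']
    exact hb _ (by omega)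
  · rw [CochainComplex.shiftFunctor_obj_X']
    exact hP _ (by omega)

lemma NPC.of_isLE [P.IsClosedUnderIsomorphisms] [P.ContainsZero] (n : ℤ) (F : DerivedCategory C)
    (hF : F.IsLE (n - 1)) : NPC P n F := by
  obtain ⟨K, hK, ⟨e⟩⟩ := exists_iso_Q_obj_of_isLE F (n - 1)
  exact ⟨K, ⟨⟨n - 1, fun i hi => K.isZero_of_isStrictlyLE (n - 1) i hi⟩,
    fun i hi => P.prop_of_isZero (K.isZero_of_isStrictlyLE (n - 1) i (by omega))⟩, ⟨e.symm⟩⟩

variable [P.IsClosedUnderIsomorphisms] [P.ContainsZero]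
  (hsum : ∀ X Y : C, P X → P Y → P (X ⨯ Y))

include hsum in
/-- The criterion: the target of an `n`-isomorphism from a strictly `n`-pseudo-coherent complex is
`n`-pseudo-coherent. -/
theorem npc_of_niso (n : ℤ) (E : CochainComplex C ℤ) (hE : PCoh.IsStrictPC P n E)
    (Y : DerivedCategory C) (α : Q.obj E ⟶ Y)
    (hiso : ∀ i, n < i → IsIso ((homologyFunctor C i).map α))
    (hepi : Epi ((homologyFunctor C n).map α)) : NPC P n Y := by
  obtain ⟨Z, g, h, hT⟩ := distinguished_cocone_triangle α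
  have hZ : Z.IsLE (n - 1) := by
    rw [isLE_iff]
    intro i hi
    have h1 : Epi ((homologyFunctor C i).map α) := by
      by_cases hin : i = n
      · subst hin
        exact hepi
      · haveI := hiso i (by omega)
        infer_instance
    have h2 : Mono ((homologyFunctor C (i + 1)).map α) := by
      haveI := hiso (i + 1) (by omega)
      infer_instance
    exact isZero_homology_cone _ hT i h1 h2
  haveI : (Z⟦(-1 : ℤ)⟧).IsLE n := TStructure.t.isLE_shift Z (n - 1) (-1) n (by omega)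
  obtain ⟨Z₁, hZ₁, ⟨e⟩⟩ := exists_iso_Q_obj_of_isLE (Z⟦(-1 : ℤ)⟧) n
  have hT' := inv_rot_of_distTriang _ hT
  obtain ⟨f, hf⟩ : ∃ f : Z⟦(-1 : ℤ)⟧ ⟶ Q.obj E, f = (Triangle.mk α g h).invRotate.mor₁ :=
    ⟨_, rfl⟩
  obtain ⟨Z₂, hZ₂, s, hs, γ, hγ⟩ := right_fac_of_isStrictlyLE (e.inv ≫ f) n
  have hT'' := mappingCone_triangle_distinguished γ
  haveI := hs
  let e₁ : Q.obj Z₂ ≅ Z⟦(-1 : ℤ)⟧ := asIso (Q.map s) ≪≫ e.symm
  have comm : (Q.mapTriangle.obj (CochainComplex.mappingCone.triangle γ)).mor₁ ≫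
      (Iso.refl (Q.obj E)).hom = e₁.hom ≫ (Triangle.mk α g h).invRotate.mor₁ := by
    show Q.map γ ≫ 𝟙 _ = (Q.map s ≫ e.inv) ≫ _
    rw [Category.comp_id, Category.assoc, ← hf, hγ, IsIso.hom_inv_id_assoc]
  let eT := isoTriangleOfIso₁₂ _ _ hT'' hT' e₁ (Iso.refl _) comm
  have e₃ : Q.obj (CochainComplex.mappingCone γ) ≅ Y := Triangle.π₃.mapIso eT
  obtain ⟨⟨b, hb⟩, hP⟩ := hE
  refine ⟨CochainComplex.mappingCone γ, ⟨⟨max b n, fun i hi => ?_⟩, fun i hi => ?_⟩, ⟨e₃⟩⟩
  · rw [CochainComplex.mappingCone.isZero_X_iff]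
    exact ⟨Z₂.isZero_of_isStrictlyLE n _ (by have := le_max_right b n; omega),
      hb i (by have := le_max_left b n; omega)⟩
  · exact prop_cone P hsum γ i
      (P.prop_of_isZero (Z₂.isZero_of_isStrictlyLE n _ (by omega))) (hP i hi)

variable (hqs : PCoh.IsQuasiStableUnderKernels P) (hql : PCoh.IsQuasiLiftable P)

include hsum hqs hql in
/-- The converse: an `n`-pseudo-coherent object receives an `n`-isomorphism from a bounded complex
with terms in `C₀`. -/
theorem exists_niso_of_npc (n : ℤ) (F : DerivedCategory C) (hF : NPC P n F) :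
    ∃ (R : CochainComplex C ℤ) (b : ℤ) (α : Q.obj R ⟶ F),
      (∀ i, i < n ∨ b < i → IsZero (R.X i)) ∧ (∀ i, P (R.X i)) ∧
      (∀ i, n < i → IsIso ((homologyFunctor C i).map α)) ∧
      Epi ((homologyFunctor C n).map α) := by
  obtain ⟨E₀, hE₀, ⟨e⟩⟩ := hF
  obtain ⟨R, b, t, hz, hP, hiso, hepi⟩ := approx P hsum hqs hql n E₀ E₀ (𝟙 _) hE₀
  refine ⟨R, b, Q.map t ≫ e.hom, hz, hP, fun i hi => ?_, ?_⟩
  · rw [Functor.map_comp]
    haveI := isIso_homologyFunctor_Q_map t i (hiso i hi)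
    infer_instance
  · rw [Functor.map_comp]
    haveI := epi_homologyFunctor_Q_map t n hepi
    infer_instance

include hsum hqs hql in
/-- Cone of a morphism from an `(n+1)`-pseudo-coherent to an `n`-pseudo-coherent object. -/
theorem npc_cone (n : ℤ) (T : Triangle (DerivedCategory C)) (hT : T ∈ distTriang _)
    (h₁ : NPC P (n + 1) T.obj₁) (h₂ : NPC P n T.obj₂) : NPC P n T.obj₃ := by
  obtain ⟨E₀, hE₀, ⟨e₁⟩⟩ := h₁
  obtain ⟨F₀, ⟨⟨b₂, hb₂⟩, hP₂⟩, ⟨e₂⟩⟩ := h₂
  obtain ⟨b₁, hb₁⟩ := hE₀.1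
  haveI : E₀.IsStrictlyLE b₁ := by
    rw [CochainComplex.isStrictlyLE_iff]
    exact hb₁
  obtain ⟨E₀', hE₀', s, hs, g, hg⟩ :=
    right_fac_of_isStrictlyLE (e₁.hom ≫ T.mor₁ ≫ e₂.inv) b₁
  haveI := hs
  haveI : QuasiIso s := (isIso_Q_map_iff_quasiIso C s).1 hs
  obtain ⟨R, b, t, hz, hP, hiso, hepi⟩ := approx P hsum hqs hql (n + 1) E₀' E₀ s hE₀
  have hcomm : (t ≫ g) ≫ 𝟙 F₀ = t ≫ g := Category.comp_id _
  have hC : PCoh.IsStrictPC P n (CochainComplex.mappingCone (t ≫ g)) := by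
    refine ⟨⟨max b b₂, fun i hi => ?_⟩, fun i hi => prop_cone P hsum _ i (hP (i + 1)) (hP₂ i hi)⟩
    rw [CochainComplex.mappingCone.isZero_X_iff]
    exact ⟨hz _ (Or.inr (by have := le_max_left b b₂; omega)),
      hb₂ i (by have := le_max_right b b₂; omega)⟩
  have hT'' := mappingCone_triangle_distinguished g
  let e₁' : Q.obj E₀' ≅ T.obj₁ := asIso (Q.map s) ≪≫ e₁
  have comm : (Q.mapTriangle.obj (CochainComplex.mappingCone.triangle g)).mor₁ ≫ e₂.hom =
      e₁'.hom ≫ T.mor₁ := by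
    show Q.map g ≫ e₂.hom = (Q.map s ≫ e₁.hom) ≫ T.mor₁
    have : Q.map g = Q.map s ≫ e₁.hom ≫ T.mor₁ ≫ e₂.inv := by
      rw [hg, IsIso.hom_inv_id_assoc]
    rw [this]
    simp
  let eT := isoTriangleOfIso₁₂ _ _ hT'' hT e₁' e₂ comm
  have e₃ : Q.obj (CochainComplex.mappingCone g) ≅ T.obj₃ := Triangle.π₃.mapIso eT
  refine npc_of_niso P hsum n _ hC T.obj₃
    (Q.map (CochainComplex.mappingCone.map (t ≫ g) g t (𝟙 F₀) hcomm) ≫ e₃.hom)
    (fun i hi => ?_) ?_
  · rw [Functor.map_comp]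
    have hepi_i : Epi (HomologicalComplex.homologyMap t i) := by
      by_cases h : i = n + 1
      · subst h
        exact hepi
      · haveI := hiso i (by omega)
        infer_instance
    haveI := hiso (i + 1) (by omega)
    haveI := cone_map_mono (t ≫ g) g t hcomm i hepi_i inferInstance
    haveI := cone_map_epi (t ≫ g) g t hcomm i inferInstance
    haveI : IsIso (HomologicalComplex.homologyMap
        (CochainComplex.mappingCone.map (t ≫ g) g t (𝟙 F₀) hcomm) i) := isIso_of_mono_of_epi _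
    haveI := isIso_homologyFunctor_Q_map
      (CochainComplex.mappingCone.map (t ≫ g) g t (𝟙 F₀) hcomm) i inferInstance
    infer_instance
  · rw [Functor.map_comp]
    haveI := cone_map_epi (t ≫ g) g t hcomm n hepi
    haveI := epi_homologyFunctor_Q_map
      (CochainComplex.mappingCone.map (t ≫ g) g t (𝟙 F₀) hcomm) n inferInstance
    infer_instance

include hsum hqs hql in
theorem npc_mid (n : ℤ) (T : Triangle (DerivedCategory C)) (hT : T ∈ distTriang _)
    (h₁ : NPC P n T.obj₁) (h₃ : NPC P n T.obj₃) : NPC P n T.obj₂ :=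
  npc_cone P hsum hqs hql n T.invRotate (inv_rot_of_distTriang _ hT)
    (NPC.shift P h₃ (-1) (n + 1) (by omega)) h₁

include hsum hqs hql in
theorem npc_fiber (n : ℤ) (T : Triangle (DerivedCategory C)) (hT : T ∈ distTriang _)
    (h₂ : NPC P (n + 1) T.obj₂) (h₃ : NPC P n T.obj₃) : NPC P (n + 1) T.obj₁ := by
  have h := npc_cone P hsum hqs hql n T.rotate (rot_of_distTriang _ hT) h₂ h₃
  exact NPC.of_iso P ((shiftFunctorCompIsoId (DerivedCategory C) (1 : ℤ) (-1) (by simp)).app T.obj₁)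
    (NPC.shift P h (-1) (n + 1) (by omega))

end Groth.Agent.H23.PCohLib
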