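import Groth.Agent.H23.PCohDer
import Groth.Agent.H23.DComp

/-!
# Pseudo-coherence over an abelian category: derived category level, II (helper23)
-/

open CategoryTheory CategoryTheory.Limits DerivedCategory Pretriangulated

universe w v u

namespace Groth.Agent.H23.PCohLib

variable {C : Type u} [Category.{v} C] [Abelian C] [HasDerivedCategory.{w} C]

variable (P : ObjectProperty C)

lemma NPC.exists_isLE {n : ℤ} {F : DerivedCategory C} (h : NPC P n F) : ∃ b : ℤ, F.IsLE b := by
  obtain ⟨E, ⟨⟨b, hb⟩, _⟩, ⟨e⟩⟩ := h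
  refine ⟨b, (isLE_iff F b).2 fun i hi => ?_⟩
  exact IsZero.of_iso (isZero_homology_of_isZero_X E i (hb i hi))
    ((homologyFunctor C i).mapIso e.symm ≪≫ (homologyFunctorFactors C i).app E)

lemma isZero_of_retract' {X Y : DerivedCategory C} (i' : X ⟶ Y) (r : Y ⟶ X) (h : i' ≫ r = 𝟙 X)
    (j : ℤ) (hY : IsZero ((homologyFunctor C j).obj Y)) :
    IsZero ((homologyFunctor C j).obj X) := by
  rw [IsZero.iff_id_eq_zero, ← CategoryTheory.Functor.map_id, ← h, Functor.map_comp,
    hY.eq_of_tgt ((homologyFunctor C j).map i') 0, zero_comp]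

lemma strictPC_single [P.IsClosedUnderIsomorphisms] [P.ContainsZero] (n k : ℤ) (G : C)
    (hG : P G) : PCoh.IsStrictPC P n (sgl k G) := by
  refine ⟨⟨k, fun i hi => HomologicalComplex.isZero_single_obj_X _ _ _ i (by omega)⟩,
    fun i _ => ?_⟩
  by_cases hik : i = k
  · subst hik
    exact P.prop_of_iso (HomologicalComplex.singleObjXSelf (ComplexShape.up ℤ) i G).symm hG
  · exact P.prop_of_isZero (HomologicalComplex.isZero_single_obj_X _ _ _ i hik)

variable [P.IsClosedUnderIsomorphisms] [P.ContainsZero]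
  (hsum : ∀ X Y : C, P X → P Y → P (X ⨯ Y))
  (hqs : PCoh.IsQuasiStableUnderKernels P) (hql : PCoh.IsQuasiLiftable P)

include hqs in
lemma finiteType_of_npc (n : ℤ) (F : DerivedCategory C)
    (hac : ∀ i : ℤ, n < i → IsZero ((homologyFunctor C i).obj F)) (h : NPC P n F) :
    PCoh.IsOfFiniteType P ((homologyFunctor C n).obj F) := by
  obtain ⟨E, ⟨⟨b, hb⟩, hP⟩, ⟨e⟩⟩ := h
  have iso : ∀ i, E.homology i ≅ (homologyFunctor C i).obj F := fun i =>
    ((homologyFunctorFactors C i).app E).symm ≪≫ (homologyFunctor C i).mapIso e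
  refine finiteType_of_iso P (iso n) ?_
  exact finiteType_homology P hqs E n b hb hP
    (fun i hi => (HomologicalComplex.exactAt_iff_isZero_homology _ _).2
      (IsZero.of_iso (hac i hi) (iso i)))

include hsum hql in
lemma npc_of_finiteType (n : ℤ) (F : DerivedCategory C)
    (hac : ∀ i : ℤ, n < i → IsZero ((homologyFunctor C i).obj F))
    (h : PCoh.IsOfFiniteType P ((homologyFunctor C n).obj F)) : NPC P n F := by
  obtain ⟨P₀, π₀, hP₀, hπ₀⟩ := h
  haveI : F.IsLE n := (isLE_iff F n).2 hac
  obtain ⟨K, hK, ⟨e⟩⟩ := exists_iso_Q_obj_of_isLE F n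
  have iso : ∀ i, (homologyFunctor C i).obj F ≅ K.homology i := fun i =>
    (homologyFunctor C i).mapIso e ≪≫ (homologyFunctorFactors C i).app K
  haveI := hπ₀
  haveI : Epi (π₀ ≫ (iso n).hom) := epi_comp _ _
  obtain ⟨P', v, hP', hv⟩ := hql _ _ (pullback.fst (π₀ ≫ (iso n).hom) (K.homologyπ n))
    inferInstance hP₀
  haveI := hv
  obtain ⟨z₀, hz₀def⟩ : ∃ z₀ : P' ⟶ K.cycles n,
      z₀ = v ≫ pullback.snd (π₀ ≫ (iso n).hom) (K.homologyπ n) := ⟨_, rfl⟩
  have hz₀ : Epi (z₀ ≫ K.homologyπ n) := by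
    rw [hz₀def, Category.assoc, ← pullback.condition, ← Category.assoc]
    exact epi_comp _ _
  let φ : sgl n P' ⟶ K := HomologicalComplex.mkHomFromSingle (z₀ ≫ K.iCycles n)
    (fun k _ => by simp)
  have hφn : Epi (HomologicalComplex.homologyMap φ n) := by
    rw [HomologicalComplex.epi_homologyMap_iff_up_to_refinements φ (n - 1) n (n + 1)
      (by simp) (by simp)]
    intro A y₂ hy₂
    obtain ⟨A', π, hπ, g, x₁, hx₁⟩ := hit K n z₀ hz₀ y₂ hy₂
    refine ⟨A', π, hπ, g ≫ (HomologicalComplex.singleObjXSelf (ComplexShape.up ℤ) n P').inv,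
      by simp, x₁, ?_⟩
    rw [hx₁, Category.assoc, HomologicalComplex.mkHomFromSingle_f, Iso.inv_hom_id_assoc]
  have hφi : ∀ i, n < i → IsIso (HomologicalComplex.homologyMap φ i) := fun i hi =>
    isIso_of_isZero _ (HomologicalComplex.isZero_single_obj_homology _ _ _ _ (by omega))
      (IsZero.of_iso (hac i hi) (iso i).symm)
  refine npc_of_niso P hsum n (sgl n P') (strictPC_single P n n P' hP') F (Q.map φ ≫ e.inv)
    (fun i hi => ?_) ?_
  · rw [Functor.map_comp]
    haveI := isIso_homologyFunctor_Q_map φ i (hφi i hi)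
    infer_instance
  · rw [Functor.map_comp]
    haveI := epi_homologyFunctor_Q_map φ n hφn
    infer_instance

include hsum hqs hql in
/-- Direct summands. -/
lemma npc_of_biprod (n : ℤ) (F' F'' : DerivedCategory C) (h : NPC P n (F' ⊞ F'')) :
    NPC P n F' ∧ NPC P n F'' := by
  obtain ⟨b, hb⟩ := NPC.exists_isLE P h
  haveI := hb
  have hb' : F'.IsLE b := (isLE_iff F' b).2 fun i hi =>
    isZero_of_retract' (biprod.inl : F' ⟶ F' ⊞ F'') biprod.fst (by simp) i
      (isZero_of_isLE (F' ⊞ F'') b i hi)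
  have hb'' : F''.IsLE b := (isLE_iff F'' b).2 fun i hi =>
    isZero_of_retract' (biprod.inr : F'' ⟶ F' ⊞ F'') biprod.snd (by simp) i
      (isZero_of_isLE (F' ⊞ F'') b i hi)
  have main : ∀ m : ℕ, ∀ k, n ≤ k → b + 1 ≤ k + m → NPC P k F' ∧ NPC P k F'' := by
    intro m
    induction m with
    | zero =>
      intro k _ hkb
      have hk : b ≤ k - 1 := by simp at hkb; omega
      exact ⟨NPC.of_isLE P k F' (TStructure.t.isLE_of_le _ b (k - 1) hk),
        NPC.of_isLE P k F'' (TStructure.t.isLE_of_le _ b (k - 1) hk)⟩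
    | succ m ih =>
      intro k hk hkb
      obtain ⟨h', h''⟩ := ih (k + 1) (by omega) (by push_cast at hkb; omega)
      have hS : NPC P k (F' ⊞ F'') := NPC.mono P hk h
      constructor
      · exact npc_cone P hsum hqs hql k _ (binaryBiproductTriangle_distinguished F'' F') h''
          (NPC.of_iso P (biprod.braiding F' F'') hS)
      · exact npc_cone P hsum hqs hql k _ (binaryBiproductTriangle_distinguished F' F'') h' hS
  exact main (b + 1 - n).toNat n le_rfl (by omega)

include hsum hqs hql in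
lemma npc_biprod (n : ℤ) (F' F'' : DerivedCategory C) (h' : NPC P n F') (h'' : NPC P n F'') :
    NPC P n (F' ⊞ F'') :=
  npc_mid P hsum hqs hql n _ (binaryBiproductTriangle_distinguished F' F'') h' h''

lemma isLE_of_isZero (X : DerivedCategory C) (hX : IsZero X) (k : ℤ) : X.IsLE k :=
  (isLE_iff X k).2 fun i _ => Functor.map_isZero _ hX

include hsum hqs hql in
/-- pseudo-coherence from the cohomology objects. -/
lemma npc_of_homology (n : ℤ) : ∀ (m : ℕ) (F : DerivedCategory C) (b : ℤ),
    (∀ i : ℤ, b < i → IsZero ((homologyFunctor C i).obj F)) → b < n + m →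
    (∀ i : ℤ, n ≤ i → NPC P (n - i)
      ((singleFunctor C 0).obj ((homologyFunctor C i).obj F))) → NPC P n F := by
  intro m
  induction m with
  | zero =>
    intro F b hb hbn _
    have : F.IsLE (n - 1) := (isLE_iff F (n - 1)).2 fun i hi => hb i (by simp at hbn; omega)
    exact NPC.of_isLE P n F this
  | succ m ih =>
    intro F b hb hbn hfp
    by_cases hbm : b < n + m
    · exact ih F b hb hbm hfp
    have hbn' : n ≤ b := by omega
    haveI : F.IsLE b := (isLE_iff F b).2 hb
    obtain ⟨X', S, f, g, h, hT, hX', ⟨eS⟩, hf⟩ := DComp.trunc_step F b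
    have hS : NPC P n S := by
      refine NPC.of_iso P (((singleFunctors C).shiftIso (-b) b 0 (by omega)).app _ ≪≫ eS.symm) ?_
      exact NPC.shift P (hfp b hbn') (-b) n (by omega)
    have hX'n : NPC P n X' := by
      apply ih X' (b - 1) (fun i hi => isZero_of_isLE X' (b - 1) i hi) (by push_cast at hbn; omega)
      intro i hi
      by_cases hib : i < b
      · haveI := hf i hib
        exact NPC.of_iso P ((singleFunctor C 0).mapIso
          (asIso ((homologyFunctor C i).map f)).symm) (hfp i hi)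
      · have hz : IsZero ((homologyFunctor C i).obj X') := isZero_of_isLE X' (b - 1) i (by omega)
        exact NPC.of_isLE P _ _ (isLE_of_isZero _ (Functor.map_isZero _ hz) _)
    exact npc_mid P hsum hqs hql n _ hT hX'n hS

end Groth.Agent.H23.PCohLib
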