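import Groth.Agent.H23.PCohDer2

/-!
# Pseudo-coherence over an abelian category: objects of `j`-finite presentation (helper23)
-/

open CategoryTheory CategoryTheory.Limits DerivedCategory Pretriangulated

universe w v u

namespace Groth.Agent.H23.PCohLib

variable {C : Type u} [Category.{v} C] [Abelian C] [HasDerivedCategory.{w} C]

variable (P : ObjectProperty C)

/-- `X` is of `j`-finite presentation: `X[0]` is `(-j)`-pseudo-coherent. -/
def FP (j : ℤ) (X : C) : Prop := NPC P (-j) ((singleFunctor C 0).obj X)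

lemma FP.of_iso {j : ℤ} {X Y : C} (e : X ≅ Y) (h : FP P j X) : FP P j Y :=
  NPC.of_iso P ((singleFunctor C 0).mapIso e) h

lemma FP.mono {j j' : ℤ} (hj : j' ≤ j) {X : C} (h : FP P j X) : FP P j' X :=
  NPC.mono P (by omega) h

variable [P.IsClosedUnderIsomorphisms] [P.ContainsZero]

lemma FP.of_P (j : ℤ) {X : C} (hX : P X) : FP P j X :=
  ⟨sgl 0 X, strictPC_single P (-j) 0 X hX, ⟨((singleFunctorIsoCompQ C 0).app X).symm⟩⟩

lemma FP.of_isZero (j : ℤ) {X : C} (hX : IsZero X) : FP P j X :=
  NPC.of_isLE P _ _ (isLE_of_isZero _ (Functor.map_isZero _ hX) _)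

variable (hsum : ∀ X Y : C, P X → P Y → P (X ⨯ Y))
  (hqs : PCoh.IsQuasiStableUnderKernels P) (hql : PCoh.IsQuasiLiftable P)

include hsum hqs hql in
lemma FP.kernel {j : ℤ} {S : ShortComplex C} (hS : S.ShortExact) (h₂ : FP P j S.X₂)
    (h₃ : FP P (j + 1) S.X₃) : FP P j S.X₁ := by
  have h := npc_fiber P hsum hqs hql (-(j + 1)) hS.singleTriangle
    hS.singleTriangle_distinguished (NPC.mono P (by omega) h₂) h₃
  exact NPC.mono P (by omega) h

include hsum hqs hql in
lemma FP.ext {j : ℤ} {S : ShortComplex C} (hS : S.ShortExact) (h₁ : FP P j S.X₁)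
    (h₃ : FP P j S.X₃) : FP P j S.X₂ :=
  npc_mid P hsum hqs hql (-j) hS.singleTriangle hS.singleTriangle_distinguished h₁ h₃

include hsum hqs hql in
lemma FP.biprod {j : ℤ} {A B : C} (hA : FP P j A) (hB : FP P j B) : FP P j (A ⊞ B) :=
  FP.ext P hsum hqs hql (ShortComplex.Splitting.ofHasBinaryBiproduct A B).shortExact hA hB

include hqs in
lemma FP.finiteType {X : C} (h : FP P 0 X) : PCoh.IsOfFiniteType P X := by
  have h' : NPC P 0 ((singleFunctor C 0).obj X) := NPC.mono P (by omega) h
  have := finiteType_of_npc P hqs 0 _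
    (fun i hi => isZero_of_isLE ((singleFunctor C 0).obj X) 0 i hi) h'
  exact finiteType_of_iso P ((singleFunctorCompHomologyFunctorIso C 0).app X) this

section Chain

omit [HasDerivedCategory.{w} C] in
lemma cycles_shortExact (K : CochainComplex C ℕ) (i : ℕ) (hex : K.ExactAt (i + 1)) :
    (ShortComplex.mk (K.iCycles i) (K.toCycles i (i + 1))
      (by rw [← cancel_mono (K.iCycles (i + 1))]; simp)).ShortExact := by
  refine ShortComplex.ShortExact.mk' ?_ (by dsimp; infer_instance) ?_
  · rw [ShortComplex.exact_iff_exact_up_to_refinements]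
    intro A x₂ hx₂
    dsimp at x₂ hx₂
    have h : x₂ ≫ K.d i (i + 1) = 0 := by
      rw [← K.toCycles_i i (i + 1), ← Category.assoc, hx₂, zero_comp]
    exact ⟨A, 𝟙 A, inferInstance, K.liftCycles x₂ (i + 1) (by simp) h, by simp⟩
  · dsimp
    rw [epi_iff_surjective_up_to_refinements]
    intro A z
    obtain ⟨A', π, hπ, x₁, hx₁⟩ := (K.exactAt_iff_exact_up_to_refinements i (i + 1) (i + 1 + 1)
      (by simp) (by simp)).1 hex (z ≫ K.iCycles (i + 1)) (by simp)
    refine ⟨A', π, hπ, x₁, ?_⟩
    rw [← cancel_mono (K.iCycles (i + 1)), Category.assoc, hx₁, Category.assoc, K.toCycles_i]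

omit [HasDerivedCategory.{w} C] in
lemma isIso_toCycles_zero (K : CochainComplex C ℕ) (h0 : K.ExactAt 0) (h1 : K.ExactAt 1) :
    IsIso (K.toCycles 0 1) := by
  haveI : Mono (K.d 0 1) := by
    apply Preadditive.mono_of_cancel_zero
    intro A g hg
    obtain ⟨A', π, hπ, x₁, hx₁⟩ := (K.exactAt_iff_exact_up_to_refinements 0 0 1
      (by simp) (by simp)).1 h0 g hg
    haveI := hπ
    rw [K.shape 0 0 (by simp), comp_zero] at hx₁
    rw [← cancel_epi π, hx₁, comp_zero]
  haveI : Mono (K.toCycles 0 1) := mono_of_mono_fac (K.toCycles_i 0 1)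
  haveI : Epi (K.toCycles 0 1) := (cycles_shortExact K 0 h1).epi_g
  exact isIso_of_mono_of_epi _

include hsum hqs hql in
/-- The chain lemma: in a finite exact sequence `0 → K⁰ → K¹ → ⋯` with `K^{i+1}` of `i`-finite
presentation, `K⁰` is of `0`-finite presentation. -/
theorem fp_chain (K : CochainComplex C ℕ) (hex : ∀ i, K.ExactAt i)
    (hb : ∃ N : ℕ, ∀ i, N < i → IsZero (K.X i)) (hfp : ∀ i : ℕ, FP P i (K.X (i + 1))) :
    FP P 0 (K.X 0) := by
  obtain ⟨N, hN⟩ := hb
  have hz : ∀ i, N ≤ i → FP P i (K.cycles (i + 1)) := fun i hi =>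
    FP.of_isZero P _ (IsZero.of_mono (K.iCycles (i + 1)) (hN _ (by omega)))
  have main : ∀ d : ℕ, ∀ i, N ≤ i + d → FP P i (K.cycles (i + 1)) := by
    intro d
    induction d with
    | zero => intro i hi; exact hz i (by simpa using hi)
    | succ d ih =>
      intro i hi
      have h3 : FP P ((i : ℤ) + 1) (K.cycles (i + 1 + 1)) :=
        FP.mono P (by push_cast; omega) (ih (i + 1) (by omega))
      exact FP.kernel P hsum hqs hql (cycles_shortExact K (i + 1) (hex _)) (hfp i) h3
  haveI := isIso_toCycles_zero K (hex 0) (hex 1)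
  have := main N 0 (by omega)
  exact FP.of_iso P (asIso (K.toCycles 0 1)).symm (by simpa using this)

include hsum hqs hql in
/-- The cycles of a bounded above complex, exact above `k`, whose terms in degree `k + j` are of
`j`-finite presentation, are of `0`-finite presentation. -/
theorem fp_cycles (L : CochainComplex C ℤ) (k B : ℤ) (hB : ∀ i : ℤ, B < i → IsZero (L.X i))
    (hfp : ∀ j : ℕ, FP P j (L.X (k + j))) (hex : ∀ i : ℤ, k < i → L.ExactAt i) :
    FP P 0 (L.cycles k) := by
  have := fp_chain P hsum hqs hql (aug L (fun i => k + i))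
    (aug_exactAt L _ (fun i => by push_cast; ring) (fun i => hex _ (by push_cast; omega)))
    ⟨(B + 1 - k).toNat + 1, fun i hi => by
      obtain ⟨i, rfl⟩ : ∃ i', i = i' + 1 := ⟨i - 1, by omega⟩
      show IsZero (L.X (k + (i : ℤ)))
      exact hB _ (by omega)⟩
    (fun i => hfp i)
  change FP P 0 (L.cycles (k + ((0 : ℕ) : ℤ))) at this
  simpa using this

end Chain

end Groth.Agent.H23.PCohLib
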