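import Groth.Agent.H23.PCohStep

/-!
# Pseudo-coherence over an abelian category: finite type of cycles, cones (helper23)
-/

open CategoryTheory CategoryTheory.Limits CochainComplex.HomComplex

universe w v u

namespace Groth.Agent.H23.PCohLib

variable {C : Type u} [Category.{v} C] [Abelian C]

section FT

variable (L : CochainComplex C ℤ) (f : ℕ → ℤ)

/-- objects of the augmented `ℕ`-complex `Z^{f 0} → L^{f 0} → L^{f 1} → ⋯`. -/
noncomputable def augX : ℕ → C
  | 0 => L.cycles (f 0)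
  | (i + 1) => L.X (f i)

/-- differentials of the augmented complex. -/
noncomputable def augD : ∀ i : ℕ, augX L f i ⟶ augX L f (i + 1)
  | 0 => L.iCycles (f 0)
  | (i + 1) => L.d (f i) (f (i + 1))

lemma augD_sq (i : ℕ) : augD L f i ≫ augD L f (i + 1) = 0 := by
  cases i with
  | zero => exact L.iCycles_d _ _
  | succ i => exact L.d_comp_d _ _ _

/-- the augmented complex. -/
noncomputable def aug : CochainComplex C ℕ :=
  CochainComplex.of (augX L f) (augD L f) (augD_sq L f)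

lemma aug_d (i : ℕ) : (aug L f).d i (i + 1) = augD L f i :=
  CochainComplex.of_d _ _ i

lemma exactAt_succ (K : CochainComplex C ℕ) (i : ℕ)
    (h : ∀ ⦃A : C⦄ (x₂ : A ⟶ K.X (i + 1)) (_ : x₂ ≫ K.d (i + 1) (i + 1 + 1) = 0),
      ∃ (A' : C) (π : A' ⟶ A) (_ : Epi π) (x₁ : A' ⟶ K.X i), π ≫ x₂ = x₁ ≫ K.d i (i + 1)) :
    K.ExactAt (i + 1) :=
  (K.exactAt_iff_exact_up_to_refinements i (i + 1) (i + 1 + 1) (by simp) (by simp)).2 h

lemma aug_exactAt (hf : ∀ i, f i + 1 = f (i + 1)) (hex : ∀ i : ℕ, L.ExactAt (f (i + 1)))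
    (j : ℕ) : (aug L f).ExactAt j := by
  cases j with
  | zero =>
    rw [HomologicalComplex.exactAt_iff_exact_up_to_refinements (aug L f) 0 0 (0 + 1)
      (by simp) (by simp)]
    intro A x₂ hx₂
    rw [aug_d] at hx₂
    refine ⟨A, 𝟙 A, inferInstance, 0, ?_⟩
    haveI : Mono (augD L f 0) := by
      show Mono (L.iCycles (f 0))
      infer_instance
    have : x₂ = 0 := by
      change A ⟶ augX L f 0 at x₂
      exact (cancel_mono (augD L f 0)).1 (hx₂.trans zero_comp.symm)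
    rw [this, comp_zero, zero_comp]
  | succ j =>
    apply exactAt_succ
    intro A x₂ hx₂
    rw [aug_d] at hx₂ ⊢
    cases j with
    | zero =>
      change A ⟶ L.X (f 0) at x₂
      change x₂ ≫ L.d (f 0) (f (0 + 1)) = 0 at hx₂
      refine ⟨A, 𝟙 A, inferInstance,
        L.liftCycles x₂ (f (0 + 1)) (by simp; exact hf 0) hx₂, ?_⟩
      show 𝟙 A ≫ x₂ = L.liftCycles x₂ (f (0 + 1)) _ hx₂ ≫ L.iCycles (f 0)
      simp
    | succ j =>
      change A ⟶ L.X (f (j + 1)) at x₂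
      change x₂ ≫ L.d (f (j + 1)) (f (j + 1 + 1)) = 0 at hx₂
      obtain ⟨A', π, hπ, x₁, hx₁⟩ := (L.exactAt_iff_exact_up_to_refinements (f j) (f (j + 1))
        (f (j + 1 + 1)) (by simp; linarith [hf j]) (by simp; linarith [hf (j + 1)])).1 (hex j) x₂ hx₂
      exact ⟨A', π, hπ, x₁, hx₁⟩

theorem finiteType_cycles_aux (P : ObjectProperty C)
    (hqs : PCoh.IsQuasiStableUnderKernels P)
    (hf : ∀ i, f i + 1 = f (i + 1)) (hex : ∀ i : ℕ, L.ExactAt (f (i + 1)))
    (hb : ∃ n : ℕ, ∀ i : ℕ, n ≤ i → IsZero (L.X (f i)))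
    (hP : ∀ i : ℕ, P (L.X (f i))) :
    PCoh.IsOfFiniteType P (L.cycles (f 0)) := by
  refine hqs (aug L f) (aug_exactAt L f hf hex) ?_ ?_
  · obtain ⟨n, hn⟩ := hb
    refine ⟨n + 1, fun i hi => ?_⟩
    obtain ⟨i, rfl⟩ : ∃ i', i = i' + 1 := ⟨i - 1, by omega⟩
    exact hn i (by omega)
  · intro i hi
    obtain ⟨i, rfl⟩ : ∃ i', i = i' + 1 := ⟨i - 1, by omega⟩
    exact hP i

end FT

/-- Finite type of the cycles of a complex with terms in `C₀` from degree `k` on, exact above `k`. -/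
theorem finiteType_cycles (P : ObjectProperty C)
    (hqs : PCoh.IsQuasiStableUnderKernels P) (L : CochainComplex C ℤ) (k b : ℤ)
    (hb : ∀ i : ℤ, b < i → IsZero (L.X i)) (hP : ∀ i : ℤ, k ≤ i → P (L.X i))
    (hex : ∀ i : ℤ, k < i → L.ExactAt i) :
    PCoh.IsOfFiniteType P (L.cycles k) := by
  have := finiteType_cycles_aux L (fun i => k + i) P hqs (fun i => by push_cast; ring)
    (fun i => hex _ (by push_cast; omega))
    ⟨(b + 1 - k).toNat, fun i hi => hb _ (by omega)⟩ (fun i => hP _ (by omega))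
  simpa using this

/-- Finite type of the top cohomology. -/
theorem finiteType_homology (P : ObjectProperty C)
    (hqs : PCoh.IsQuasiStableUnderKernels P) (L : CochainComplex C ℤ) (k b : ℤ)
    (hb : ∀ i : ℤ, b < i → IsZero (L.X i)) (hP : ∀ i : ℤ, k ≤ i → P (L.X i))
    (hex : ∀ i : ℤ, k < i → L.ExactAt i) :
    PCoh.IsOfFiniteType P (L.homology k) := by
  obtain ⟨G, π, hG, hπ⟩ := finiteType_cycles P hqs L k b hb hP hex
  haveI := hπ
  exact ⟨G, π ≫ L.homologyπ k, hG, epi_comp _ _⟩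

lemma finiteType_of_iso (P : ObjectProperty C) {X Y : C} (e : X ≅ Y)
    (h : PCoh.IsOfFiniteType P X) : PCoh.IsOfFiniteType P Y := by
  obtain ⟨G, π, hG, hπ⟩ := h
  haveI := hπ
  exact ⟨G, π ≫ e.hom, hG, epi_comp _ _⟩

end Groth.Agent.H23.PCohLib
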