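import Groth.Agent.H23.PCohCone

/-!
# Factorization of an `n`-quasi-isomorphism (helper23)
-/

open CategoryTheory CategoryTheory.Limits CochainComplex.HomComplex

universe w v u

namespace Groth.Agent.H23.PCohLib

variable {C : Type u} [Category.{v} C] [Abelian C]

open CochainComplex

section Cocone

variable {E F : CochainComplex C ℤ} (u : E ⟶ F)

lemma δ_snd_c :
    δ (-1) 0 (mappingCocone.snd u) = -Cochain.ofHom (mappingCocone.fst u ≫ u) := by
  have h1 : mappingCocone.descCochain u (0 : Cochain E F (-1)) (Cochain.ofHom (𝟙 F)) (by simp) =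
      mappingCocone.snd u := by
    simp [mappingCocone.descCochain, mappingCone.descCochain, mappingCocone.snd,
      Int.negOnePow_even 2 ⟨1, rfl⟩]
  have h2 := mappingCocone.δ_descCochain u (0 : Cochain E F (-1)) (Cochain.ofHom (𝟙 F))
    (by simp) 1 (by simp)
  rw [h1] at h2
  rw [h2]
  simp

lemma cc_ext {A : C} (p q : ℤ) (hpq : p + -1 = q) {x x' : A ⟶ (mappingCocone u).X p}
    (h1 : x ≫ (mappingCocone.fst u).f p = x' ≫ (mappingCocone.fst u).f p)
    (h2 : x ≫ (mappingCocone.snd u).v p q hpq = x' ≫ (mappingCocone.snd u).v p q hpq) :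
    x = x' := by
  have := mappingCocone.id_X u p q hpq
  calc x = x ≫ 𝟙 _ := (Category.comp_id x).symm
    _ = x' ≫ 𝟙 _ := by
        rw [← this, Preadditive.comp_add, Preadditive.comp_add, ← Category.assoc,
          ← Category.assoc, ← Category.assoc x', ← Category.assoc x', h1, h2]
    _ = x' := Category.comp_id x'

lemma cc_d_snd (p p' q : ℤ) (hpp' : p + 1 = p') (hpq : p + -1 = q) :
    (mappingCocone u).d p p' ≫ (mappingCocone.snd u).v p' p (by omega) =
      -((mappingCocone.fst u).f p ≫ u.f p) - (mappingCocone.snd u).v p q hpq ≫ F.d q p := by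
  have h : (δ (-1) 0 (mappingCocone.snd u)).v p p (add_zero p) =
      (-Cochain.ofHom (mappingCocone.fst u ≫ u)).v p p (add_zero p) := by rw [δ_snd_c]
  rw [δ_v (-1) 0 (by omega) (mappingCocone.snd u) p p (add_zero p) q p' (by omega) hpp'] at h
  simp only [Int.negOnePow_zero, one_smul, Cochain.neg_v, Cochain.ofHom_v,
    HomologicalComplex.comp_f] at h
  rw [← h]
  abel

/-- The canonical quasi-isomorphism from the cone of `mappingCocone u ⟶ E` to `F`. -/
noncomputable def wt : mappingCone (mappingCocone.fst u) ⟶ F :=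
  mappingCone.desc (mappingCocone.fst u) (-(mappingCocone.snd u)) u
    (by rw [δ_neg, δ_snd_c, neg_neg])

lemma mkc_wt {A : C} (i j : ℤ) (hij : i + 1 = j) (x : A ⟶ (mappingCocone u).X j)
    (e : A ⟶ E.X i) :
    mkc (mappingCocone.fst u) i j hij x e ≫ (wt u).f i =
      -(x ≫ (mappingCocone.snd u).v j i (by omega)) + e ≫ u.f i := by
  rw [wt, mkc_desc]
  simp

lemma epi_wt (i : ℤ) : Epi (HomologicalComplex.homologyMap (wt u) i) := by
  rw [HomologicalComplex.epi_homologyMap_iff_up_to_refinements _ (i - 1) i (i + 1)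
    (by simp) (by simp)]
  intro A y hy
  obtain ⟨x, hx⟩ : ∃ x : A ⟶ (mappingCocone u).X (i + 1),
      x = -(y ≫ (mappingCocone.inr u).1.v i (i + 1) rfl) := ⟨_, rfl⟩
  have hx1 : x ≫ (mappingCocone.fst u).f (i + 1) = 0 := by rw [hx]; simp
  have hx2 : x ≫ (mappingCocone.snd u).v (i + 1) i (by omega) = -y := by rw [hx]; simp
  have hxd : x ≫ (mappingCocone u).d (i + 1) (i + 1 + 1) = 0 := by
    apply cc_ext u (i + 1 + 1) (i + 1) (by omega)
    · rw [Category.assoc, ← (mappingCocone.fst u).comm (i + 1) (i + 1 + 1), ← Category.assoc,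
        hx1, zero_comp, zero_comp]
    · rw [Category.assoc, cc_d_snd u (i + 1) (i + 1 + 1) i rfl (by omega), Preadditive.comp_sub,
        Preadditive.comp_neg, ← Category.assoc, hx1, zero_comp, neg_zero, zero_sub,
        ← Category.assoc, hx2, Preadditive.neg_comp, hy, neg_zero, neg_zero, zero_comp]
  refine ⟨A, 𝟙 A, inferInstance, mkc (mappingCocone.fst u) i (i + 1) rfl x 0, ?_, 0, ?_⟩
  · rw [mkc_d _ i (i + 1) (i + 1 + 1) rfl rfl, hxd, hx1, neg_zero, zero_comp, add_zero,
      mkc_zero]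
  · rw [mkc_wt, hx2]
    simp

lemma mono_wt (i : ℤ) : Mono (HomologicalComplex.homologyMap (wt u) i) := by
  rw [HomologicalComplex.mono_homologyMap_iff_up_to_refinements _ (i - 1) i (i + 1)
    (by simp) (by simp)]
  intro A m hm y₁ hy₁
  obtain ⟨x, e, rfl⟩ : ∃ x e, m = mkc (mappingCocone.fst u) i (i + 1) rfl x e :=
    ⟨_, _, eq_mkc _ i (i + 1) rfl m⟩
  rw [mkc_d _ i (i + 1) (i + 1 + 1) rfl rfl, ← mkc_zero _ (i + 1) (i + 1 + 1) rfl] at hm
  obtain ⟨-, hc2⟩ := mkc_ext _ _ _ _ hm
  rw [mkc_wt] at hy₁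
  obtain ⟨x', hx'⟩ : ∃ x' : A ⟶ (mappingCocone u).X i,
      x' = e ≫ (mappingCocone.inl u).v i i (add_zero i) +
        (-y₁) ≫ (mappingCocone.inr u).1.v (i - 1) i (by omega) := ⟨_, rfl⟩
  have hx'1 : x' ≫ (mappingCocone.fst u).f i = e := by rw [hx']; simp
  have hx'2 : x' ≫ (mappingCocone.snd u).v i (i - 1) (by omega) = -y₁ := by rw [hx']; simp
  refine ⟨A, 𝟙 A, inferInstance, mkc (mappingCocone.fst u) (i - 1) i (by omega) x' 0, ?_⟩
  rw [Category.id_comp, mkc_d _ (i - 1) i (i + 1) (by omega) rfl]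
  have e1 : x = -(x' ≫ (mappingCocone u).d i (i + 1)) := by
    apply cc_ext u (i + 1) i (by omega)
    · rw [Preadditive.neg_comp, Category.assoc, ← (mappingCocone.fst u).comm i (i + 1),
        ← Category.assoc, hx'1]
      exact eq_neg_of_add_eq_zero_left hc2
    · rw [Preadditive.neg_comp, Category.assoc, cc_d_snd u i (i + 1) (i - 1) rfl (by omega),
        Preadditive.comp_sub, Preadditive.comp_neg, ← Category.assoc, hx'1,
        ← Category.assoc x', hx'2, Preadditive.neg_comp]
      have : x ≫ (mappingCocone.snd u).v (i + 1) i (by omega) =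
          e ≫ u.f i - y₁ ≫ F.d (i - 1) i := by
        rw [← hy₁]
        abel
      rw [this]
      abel
  have e2 : e = x' ≫ (mappingCocone.fst u).f i + 0 ≫ E.d (i - 1) i := by
    rw [hx'1]
    simp
  rw [← e1, ← e2]

instance quasiIso_wt : QuasiIso (wt u) := by
  rw [quasiIso_iff]
  intro i
  rw [quasiIsoAt_iff_isIso_homologyMap]
  haveI := epi_wt u i
  haveI := mono_wt u i
  exact isIso_of_mono_of_epi _

end Cocone

/-- Factorization of an `n`-quasi-isomorphism. -/
theorem factor (n : ℤ) (E F : CochainComplex C ℤ) (u : E ⟶ F)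
    (hiso : ∀ i : ℤ, n < i → IsIso (HomologicalComplex.homologyMap u i))
    (hepi : Epi (HomologicalComplex.homologyMap u n)) :
    ∃ (T : CochainComplex C ℤ) (_ : T.IsStrictlyLE n) (ψ : T ⟶ E) (u' : mappingCone ψ ⟶ F),
      mappingCone.inr ψ ≫ u' = u ∧ QuasiIso u' := by
  have hLE : (mappingCocone u).IsLE n := by
    rw [CochainComplex.isLE_iff]
    intro i hi
    rw [HomologicalComplex.exactAt_iff_isZero_homology]
    have hM : IsZero ((mappingCone u).homology (i - 1)) := by
      rw [← HomologicalComplex.exactAt_iff_isZero_homology]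
      apply cone_exactAt u (i - 1)
      · by_cases h : i - 1 = n
        · rw [h]
          exact hepi
        · haveI := hiso (i - 1) (by omega)
          infer_instance
      · haveI := hiso (i - 1 + 1) (by omega)
        infer_instance
    exact IsZero.of_iso hM
      ((CochainComplex.ShiftSequence.shiftIso C (-1) i (i - 1) (by omega)).app (mappingCone u))
  haveI : QuasiIso ((mappingCocone u).ιTruncLE n) :=
    (CochainComplex.quasiIso_ιTruncLE_iff _ n).2 hLE
  obtain ⟨ψ, hψ⟩ : ∃ ψ : (mappingCocone u).truncLE n ⟶ E,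
      ψ = (mappingCocone u).ιTruncLE n ≫ mappingCocone.fst u := ⟨_, rfl⟩
  have comm : ψ ≫ 𝟙 E = (mappingCocone u).ιTruncLE n ≫ mappingCocone.fst u := by
    rw [Category.comp_id, hψ]
  haveI := quasiIso_cone_map ψ (mappingCocone.fst u) ((mappingCocone u).ιTruncLE n) (𝟙 E) comm
  refine ⟨(mappingCocone u).truncLE n, inferInstance, ψ,
    mappingCone.map ψ _ ((mappingCocone u).ιTruncLE n) (𝟙 E) comm ≫ wt u, ?_, inferInstance⟩
  rw [← Category.assoc]
  have : mappingCone.inr ψ ≫ mappingCone.map ψ _ ((mappingCocone u).ιTruncLE n) (𝟙 E) comm =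
      mappingCone.inr (mappingCocone.fst u) := by
    simp [mappingCone.map]
  rw [this, wt, mappingCone.inr_desc]

/-- Terms of a cone over a complex concentrated in degrees `≤ n`. -/
lemma inr_f_mono {T E : CochainComplex C ℤ} (ψ : T ⟶ E) (i : ℤ) :
    Mono ((mappingCone.inr ψ).f i) :=
  mono_of_mono_fac (mappingCone.inr_f_snd_v ψ i)

lemma inr_f_isIso {T E : CochainComplex C ℤ} (ψ : T ⟶ E) (i : ℤ) (h : IsZero (T.X (i + 1))) :
    IsIso ((mappingCone.inr ψ).f i) := by
  have h0 : (mappingCone.fst ψ).1.v i (i + 1) rfl = 0 := h.eq_of_tgt _ _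
  have h1 := mappingCone.id_X ψ i (i + 1) rfl
  rw [h0, zero_comp, zero_add] at h1
  exact ⟨⟨(mappingCone.snd ψ).v i i (add_zero i), mappingCone.inr_f_snd_v ψ i, h1⟩⟩

end Groth.Agent.H23.PCohLib
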