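import Groth.Agent.H23.PCohGen

/-!
# Pseudo-coherence over an abelian category: consequences of the general approximation lemma
(helper23)
-/

open CategoryTheory CategoryTheory.Limits DerivedCategory Pretriangulated

universe w v u w' v' u'

namespace Groth.Agent.H23.PCohLib

variable {C : Type u} [Category.{v} C] [Abelian C] [HasDerivedCategory.{w} C]

variable (P : ObjectProperty C) [P.IsClosedUnderIsomorphisms] [P.ContainsZero]
  (hsum : ∀ X Y : C, P X → P Y → P (X ⨯ Y))
  (hqs : PCoh.IsQuasiStableUnderKernels P) (hql : PCoh.IsQuasiLiftable P)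

include hsum hqs hql in
/-- A bounded above complex whose terms in degrees `i ≥ n` are of `(i - n)`-finite presentation
is `n`-pseudo-coherent; the approximating complex is kept. -/
theorem npc_of_fp_terms (n : ℤ) (F : CochainComplex C ℤ) (b : ℤ)
    (hb : ∀ i, b < i → IsZero (F.X i)) (hfp : ∀ i, n ≤ i → FP P (i - n) (F.X i)) (m : ℤ)
    (hm : ∀ i, m ≤ i → IsZero (F.homology i)) :
    ∃ (R : CochainComplex C ℤ) (α : Q.obj R ⟶ Q.obj F), Built P n (m - 1) R ∧
      (∀ i, i < n ∨ m ≤ i → IsZero (R.X i)) ∧ (∀ i, P (R.X i)) ∧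
      (∀ i, n < i → IsIso ((homologyFunctor C i).map α)) ∧
      Epi ((homologyFunctor C n).map α) := by
  obtain ⟨R, t, hB, hz, hP, hiso, hepi⟩ :=
    approx_gen P hsum hqs hql n F F (𝟙 F) b hb hfp m hm
  exact ⟨R, Q.map t, hB, hz, hP, fun i hi => isIso_homologyFunctor_Q_map t i (hiso i hi),
    epi_homologyFunctor_Q_map t n hepi⟩

include hsum hqs hql in
theorem npc_of_fp_terms' (n : ℤ) (F : CochainComplex C ℤ) (b : ℤ)
    (hb : ∀ i, b < i → IsZero (F.X i)) (hfp : ∀ i, n ≤ i → FP P (i - n) (F.X i)) :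
    NPC P n (Q.obj F) := by
  obtain ⟨R, α, -, hz, hP, hiso, hepi⟩ := npc_of_fp_terms P hsum hqs hql n F b hb hfp (b + 1)
    (fun i hi => isZero_homology_of_isZero_X F i (hb i (by omega)))
  exact npc_of_niso P hsum n R ⟨⟨b, fun i hi => hz i (Or.inr (by omega))⟩, fun i _ => hP i⟩
    _ α hiso hepi

section Functor

variable {C' : Type u'} [Category.{v'} C'] [Abelian C'] [HasDerivedCategory.{w'} C']
  (P' : ObjectProperty C') [P'.IsClosedUnderIsomorphisms] [P'.ContainsZero]
  (hsum' : ∀ X Y : C', P' X → P' Y → P' (X ⨯ Y))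
  (hqs' : PCoh.IsQuasiStableUnderKernels P') (hql' : PCoh.IsQuasiLiftable P')
  (u : DerivedCategory C ⥤ DerivedCategory C') [u.CommShift ℤ] [u.IsTriangulated] (a b : ℤ)

include hsum' hqs' hql' in
lemma npc_functor_built
    (hi : ∀ E : C, P E → NPC P' a (u.obj ((singleFunctor C 0).obj E)))
    (lo top : ℤ) (R : CochainComplex C ℤ) (hR : Built P lo top R) :
    NPC P' (top + a) (u.obj (Q.obj R)) := by
  induction hR with
  | zero R hz =>
    have hQ : IsZero (Q.obj R) := by
      have hR0 : IsZero R := by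
        rw [IsZero.iff_id_eq_zero]
        ext i
        exact (hz i).eq_of_src _ _
      exact Functor.map_isZero _ hR0
    exact NPC.of_isLE P' _ _ (isLE_of_isZero _ (Functor.map_isZero _ hQ) _)
  | cone R G k hlo htop hG ψ _ ih =>
    have hT := u.map_distinguished _ (mappingCone_triangle_distinguished ψ)
    refine npc_cone P' hsum' hqs' hql' (top + a) _ hT ?_ ih
    have e : u.obj (Q.obj (sgl (k + 1) G)) ≅
        (u.obj ((singleFunctor C 0).obj G))⟦(-(k + 1) : ℤ)⟧ :=
      u.mapIso (((singleFunctorIsoCompQ C (k + 1)).app G).symm ≪≫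
        (((singleFunctors C).shiftIso (-(k + 1)) (k + 1) 0 (by omega)).app G).symm) ≪≫
        (u.commShiftIso (-(k + 1) : ℤ)).app _
    refine NPC.of_iso P' e.symm ?_
    exact NPC.mono P' (by omega) (NPC.shift P' (hi G hG) (-(k + 1)) (a + (k + 1)) (by omega))

include hsum hqs hql hsum' hqs' hql' in
theorem npc_functor
    (hi : ∀ E : C, P E → NPC P' a (u.obj ((singleFunctor C 0).obj E)))
    (hii : ∀ F : DerivedCategory C, (∀ i : ℤ, 0 < i → IsZero ((homologyFunctor C i).obj F)) →
      ∀ i : ℤ, b < i → IsZero ((homologyFunctor C' i).obj (u.obj F)))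
    (m n : ℤ) (F : DerivedCategory C) (hF : NPC P m F)
    (hac : ∀ i : ℤ, n < i → IsZero ((homologyFunctor C i).obj F)) :
    NPC P' (max (m + b) (n + a)) (u.obj F) ∧
      ∀ i : ℤ, n + b < i → IsZero ((homologyFunctor C' i).obj (u.obj F)) := by
  have uLE : ∀ (X : DerivedCategory C) (k : ℤ), X.IsLE k → (u.obj X).IsLE (k + b) := by
    intro X k hX
    haveI : (X⟦k⟧).IsLE 0 := TStructure.t.isLE_shift X k k 0 (by omega)
    have h1 : (u.obj (X⟦k⟧)).IsLE b := (DerivedCategory.isLE_iff _ b).2
      (hii _ (fun i hi => isZero_of_isLE (X⟦k⟧) 0 i hi))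
    have e2 : u.obj (X⟦k⟧) ≅ (u.obj X)⟦k⟧ := (u.commShiftIso k).app X
    have h2 : ((u.obj X)⟦k⟧).IsLE b := TStructure.t.isLE_of_iso e2 b
    have h3 : (((u.obj X)⟦k⟧)⟦-k⟧).IsLE (k + b) :=
      TStructure.t.isLE_shift ((u.obj X)⟦k⟧) b (-k) (k + b) (by omega)
    have e3 : ((u.obj X)⟦k⟧)⟦-k⟧ ≅ u.obj X :=
      (shiftFunctorCompIsoId (DerivedCategory C') k (-k) (by omega)).app (u.obj X)
    exact TStructure.t.isLE_of_iso e3 (k + b)
  constructor
  · obtain ⟨E₀, hE₀, ⟨e⟩⟩ := hF
    obtain ⟨b₀, hb₀⟩ := hE₀.1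
    have iso : ∀ i, E₀.homology i ≅ (homologyFunctor C i).obj F := fun i =>
      ((homologyFunctorFactors C i).app E₀).symm ≪≫ (homologyFunctor C i).mapIso e
    obtain ⟨R, α₀, hB, hz, hP, hiso₀, hepi₀⟩ := npc_of_fp_terms P hsum hqs hql m E₀ b₀ hb₀
      (fun i hi => FP.of_P P _ (hE₀.2 i hi)) (n + 1)
      (fun i hi => IsZero.of_iso (hac i (by omega)) (iso i))
    obtain ⟨α, hα⟩ : ∃ α : Q.obj R ⟶ F, α = α₀ ≫ e.hom := ⟨_, rfl⟩
    have hiso : ∀ i, m < i → IsIso ((homologyFunctor C i).map α) := fun i hi => by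
      rw [hα, Functor.map_comp]
      haveI := hiso₀ i hi
      infer_instance
    have hepi : Epi ((homologyFunctor C m).map α) := by
      rw [hα, Functor.map_comp]
      haveI := hepi₀
      infer_instance
    obtain ⟨Z, g, h, hT⟩ := distinguished_cocone_triangle α
    have hZ : Z.IsLE (m - 1) := by
      rw [DerivedCategory.isLE_iff]
      intro i hi
      have h1 : Epi ((homologyFunctor C i).map α) := by
        by_cases hin : i = m
        · subst hin
          exact hepi
        · haveI := hiso i (by omega)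
          infer_instance
      have h2 : Mono ((homologyFunctor C (i + 1)).map α) := by
        haveI := hiso (i + 1) (by omega)
        infer_instance
      exact isZero_homology_cone _ hT i h1 h2
    have hT' := u.map_distinguished _ hT
    have hR : NPC P' (n + a) (u.obj (Q.obj R)) := by
      have := npc_functor_built P P' hsum' hqs' hql' u a hi m (n + 1 - 1) R hB
      exact NPC.mono P' (by omega) this
    have hZ' : NPC P' (m + b) (u.obj Z) := by
      have := uLE Z (m - 1) hZ
      exact NPC.of_isLE P' _ _ (TStructure.t.isLE_of_le _ (m - 1 + b) (m + b - 1) (by omega))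
    exact npc_mid P' hsum' hqs' hql' _ _ hT' (NPC.mono P' (le_max_right _ _) hR)
      (NPC.mono P' (le_max_left _ _) hZ')
  · have hF' : F.IsLE n := (DerivedCategory.isLE_iff F n).2 hac
    have := uLE F n hF'
    intro i hi
    exact isZero_of_isLE (u.obj F) (n + b) i hi

end Functor

end Groth.Agent.H23.PCohLib
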