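import Groth.Agent.H23.PCohFactor
import Groth.Agent.H23.PCohFun

/-!
# Factorization of an `i`-quasi-isomorphism between pseudo-coherent complexes (helper23)
-/

open CategoryTheory CategoryTheory.Limits DerivedCategory Pretriangulated

universe w v u

namespace Groth.Agent.H23.PCohLib

variable {C : Type u} [Category.{v} C] [Abelian C]

open CochainComplex

lemma strictPC_cone_of_isStrictlyLE (P : ObjectProperty C) [P.IsClosedUnderIsomorphisms]
    [P.ContainsZero] (hsum : ∀ X Y : C, P X → P Y → P (X ⨯ Y)) (n k : ℤ) (hk : k ≤ n)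
    {T R : CochainComplex C ℤ} [T.IsStrictlyLE k] (ψ : T ⟶ R) (hR : PCoh.IsStrictPC P n R) :
    PCoh.IsStrictPC P n (mappingCone ψ) := by
  obtain ⟨⟨b, hb⟩, hP⟩ := hR
  refine ⟨⟨max b n, fun i hi => ?_⟩, fun i hi => ?_⟩
  · rw [mappingCone.isZero_X_iff]
    exact ⟨T.isZero_of_isStrictlyLE k _ (by have := le_max_right b n; omega),
      hb i (by have := le_max_left b n; omega)⟩
  · exact prop_cone P hsum ψ i
      (P.prop_of_isZero (T.isZero_of_isStrictlyLE k _ (by omega))) (hP i hi)

variable [HasDerivedCategory.{w} C]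

lemma strictPC_cone_single (P : ObjectProperty C) [P.IsClosedUnderIsomorphisms]
    [P.ContainsZero] (hsum : ∀ X Y : C, P X → P Y → P (X ⨯ Y)) (n k : ℤ) (G : C) (hG : P G)
    {R : CochainComplex C ℤ} (ψ : sgl k G ⟶ R) (hR : PCoh.IsStrictPC P n R) :
    PCoh.IsStrictPC P n (mappingCone ψ) := by
  obtain ⟨⟨b, hb⟩, hP⟩ := hR
  refine ⟨⟨max b k, fun i hi => ?_⟩, fun i hi => ?_⟩
  · rw [mappingCone.isZero_X_iff]
    exact ⟨HomologicalComplex.isZero_single_obj_X _ _ _ _
        (by have := le_max_right b k; omega),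
      hb i (by have := le_max_left b k; omega)⟩
  · exact prop_cone P hsum ψ i ((strictPC_single P (i + 1) k G hG).2 (i + 1) le_rfl) (hP i hi)

/-- Improving an `(n + d)`-quasi-isomorphism from a strictly `n`-pseudo-coherent complex to an
`n`-pseudo-coherent one into an `n`-quasi-isomorphism. -/
theorem improve (P : ObjectProperty C) [P.IsClosedUnderIsomorphisms] [P.ContainsZero]
    (hsum : ∀ X Y : C, P X → P Y → P (X ⨯ Y))
    (hqs : PCoh.IsQuasiStableUnderKernels P) (hql : PCoh.IsQuasiLiftable P)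
    (n : ℤ) (F : CochainComplex C ℤ) (hF : NPC P n (Q.obj F)) :
    ∀ (d : ℕ) (k : ℤ) (E : CochainComplex C ℤ) (u : E ⟶ F), k = n + d → PCoh.IsStrictPC P n E →
      (∀ j : ℤ, k < j → IsIso (HomologicalComplex.homologyMap u j)) →
      Epi (HomologicalComplex.homologyMap u k) →
      ∃ (E' : CochainComplex C ℤ) (v : E ⟶ E') (u' : E' ⟶ F), v ≫ u' = u ∧
        PCoh.IsStrictPC P n E' ∧ (∀ j : ℤ, Mono (v.f j)) ∧ (∀ j : ℤ, k ≤ j → IsIso (v.f j)) ∧
        (∀ j : ℤ, n < j → IsIso (HomologicalComplex.homologyMap u' j)) ∧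
        Epi (HomologicalComplex.homologyMap u' n) := by
  intro d
  induction d with
  | zero =>
    intro k E u hk hE hiso hepi
    obtain rfl : k = n := by simpa using hk
    exact ⟨E, 𝟙 E, u, Category.id_comp _, hE, fun j => inferInstance, fun j _ => inferInstance,
      hiso, hepi⟩
  | succ d ih =>
    intro k E u hk hE hiso hepi
    obtain ⟨k₀, hk₀⟩ : ∃ k₀, k₀ + 1 = k := ⟨k - 1, by omega⟩
    subst hk₀
    have hnk : n ≤ k₀ := by push_cast at hk; omega
    -- finite type of `H^{k₀}` of the cone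
    have hcone : PCoh.IsOfFiniteType P ((mappingCone u).homology k₀) := by
      have hM : NPC P n (Q.obj (mappingCone u)) :=
        npc_cone P hsum hqs hql n _ (mappingCone_triangle_distinguished u)
          (NPC.mono P (by omega) ⟨E, hE, ⟨Iso.refl _⟩⟩) hF
      have iso : ∀ i, (mappingCone u).homology i ≅
          (homologyFunctor C i).obj (Q.obj (mappingCone u)) := fun i =>
        ((homologyFunctorFactors C i).app _).symm
      refine finiteType_of_iso P (iso k₀).symm ?_
      apply finiteType_of_npc P hqs k₀ _ _ (NPC.mono P hnk hM)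
      intro i hi
      refine IsZero.of_iso ?_ (iso i).symm
      rw [← HomologicalComplex.exactAt_iff_isZero_homology]
      apply cone_exactAt u i
      · by_cases h : i = k₀ + 1
        · subst h
          exact hepi
        · haveI := hiso i (by omega)
          infer_instance
      · haveI := hiso (i + 1) (by omega)
        infer_instance
    obtain ⟨G', hG', ψ, u₁, hu₁, hiso₁, hepi₁⟩ := one_step' P hql k₀ E F u hiso hepi hcone
    obtain ⟨E', v', u', hv', hE', hmono', hiso', hq1, hq2⟩ := ih k₀ (mappingCone ψ) u₁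
      (by push_cast at hk; omega) (strictPC_cone_single P hsum n (k₀ + 1) G' hG' ψ hE) hiso₁ hepi₁
    refine ⟨E', mappingCone.inr ψ ≫ v', u', ?_, hE', fun j => ?_, fun j hj => ?_, hq1, hq2⟩
    · rw [Category.assoc, hv', hu₁]
    · haveI := hmono' j
      haveI := inr_f_mono ψ j
      rw [HomologicalComplex.comp_f]
      exact mono_comp _ _
    · haveI := hiso' j (by omega)
      haveI := inr_f_isIso ψ j (HomologicalComplex.isZero_single_obj_X _ _ _ _ (by omega))
      rw [HomologicalComplex.comp_f]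
      infer_instance

/-- Factorization of an `i`-quasi-isomorphism from a strictly `n`-pseudo-coherent complex to an
`n`-pseudo-coherent complex. -/
theorem factor_pc (P : ObjectProperty C) [P.IsClosedUnderIsomorphisms] [P.ContainsZero]
    (hsum : ∀ X Y : C, P X → P Y → P (X ⨯ Y))
    (hqs : PCoh.IsQuasiStableUnderKernels P) (hql : PCoh.IsQuasiLiftable P)
    (n i : ℤ) (E F : CochainComplex C ℤ) (hE : PCoh.IsStrictPC P n E) (hF : NPC P n (Q.obj F))
    (u : E ⟶ F) (hiso : ∀ j : ℤ, i < j → IsIso (HomologicalComplex.homologyMap u j))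
    (hepi : Epi (HomologicalComplex.homologyMap u i)) :
    ∃ (E' : CochainComplex C ℤ) (v : E ⟶ E') (u' : E' ⟶ F), v ≫ u' = u ∧
      PCoh.IsStrictPC P n E' ∧ QuasiIso u' ∧
      (∀ j : ℤ, Mono (v.f j)) ∧ (∀ j : ℤ, i ≤ j → IsIso (v.f j)) := by
  by_cases hin : i ≤ n
  · obtain ⟨T, hT, ψ, u', hu', hq⟩ := factor i E F u hiso hepi
    refine ⟨mappingCone ψ, mappingCone.inr ψ, u', hu',
      strictPC_cone_of_isStrictlyLE P hsum n i hin ψ hE, hq, fun j => inr_f_mono ψ j,
      fun j hj => inr_f_isIso ψ j (T.isZero_of_isStrictlyLE i _ (by omega))⟩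
  · obtain ⟨E₁, v₁, u₁, hv₁, hE₁, hmono₁, hiso₁, hq1, hq2⟩ :=
      improve P hsum hqs hql n F hF (i - n).toNat i E u (by omega) hE hiso hepi
    obtain ⟨T, hT, ψ, u', hu', hq⟩ := factor n E₁ F u₁ hq1 hq2
    refine ⟨mappingCone ψ, v₁ ≫ mappingCone.inr ψ, u', ?_,
      strictPC_cone_of_isStrictlyLE P hsum n n le_rfl ψ hE₁, hq, fun j => ?_, fun j hj => ?_⟩
    · rw [Category.assoc, hu', hv₁]
    · haveI := hmono₁ j
      haveI := inr_f_mono ψ j
      rw [HomologicalComplex.comp_f]
      exact mono_comp _ _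
    · haveI := hiso₁ j hj
      haveI := inr_f_isIso ψ j (T.isZero_of_isStrictlyLE n _ (by omega))
      rw [HomologicalComplex.comp_f]
      infer_instance

end Groth.Agent.H23.PCohLib
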