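import Groth.Agent.H23.PCohStep

/-!
# Pseudo-coherence: the one-step lemma in structured form (helper23)
-/

open CategoryTheory CategoryTheory.Limits CochainComplex.HomComplex

universe w v u

namespace Groth.Agent.H23.PCohLib

variable {C : Type u} [Category.{v} C] [Abelian C]

open CochainComplex in
/-- The one-step lemma, structured form: adding an object of `C₀` in degree `n` improves an `(n+1)`-quasi-isomorphism
to an `n`-quasi-isomorphism. -/
theorem one_step' (P : ObjectProperty C) [P.IsClosedUnderIsomorphisms]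
    (hql : PCoh.IsQuasiLiftable P)
    (n : ℤ) (E F : CochainComplex C ℤ) (u : E ⟶ F)
    (hiso : ∀ i : ℤ, n + 1 < i → IsIso (HomologicalComplex.homologyMap u i))
    (hepi : Epi (HomologicalComplex.homologyMap u (n + 1)))
    (hcone : PCoh.IsOfFiniteType P ((CochainComplex.mappingCone u).homology n)) :
    ∃ (G' : C) (_ : P G') (ψ : sgl (n + 1) G' ⟶ E) (u' : mappingCone ψ ⟶ F),
      mappingCone.inr ψ ≫ u' = u ∧
      (∀ i : ℤ, n < i → IsIso (HomologicalComplex.homologyMap u' i)) ∧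
      Epi (HomologicalComplex.homologyMap u' n) := by
  obtain ⟨G, π, hG, hπ⟩ := hcone
  haveI := hπ
  obtain ⟨G', w, hG', hw⟩ := hql _ _
    (pullback.fst π ((mappingCone u).homologyπ n)) inferInstance hG
  haveI := hw
  obtain ⟨z₀, hz₀def⟩ : ∃ z₀ : G' ⟶ (mappingCone u).cycles n,
      z₀ = w ≫ pullback.snd π ((mappingCone u).homologyπ n) := ⟨_, rfl⟩
  have hz₀ : Epi (z₀ ≫ (mappingCone u).homologyπ n) := by
    have h1 : z₀ ≫ (mappingCone u).homologyπ n =
        (w ≫ pullback.fst π ((mappingCone u).homologyπ n)) ≫ π := by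
      rw [hz₀def, Category.assoc, Category.assoc, pullback.condition]
    rw [h1]
    exact epi_comp _ _
  obtain ⟨z, hzdef⟩ : ∃ z : G' ⟶ (mappingCone u).X n,
      z = z₀ ≫ (mappingCone u).iCycles n := ⟨_, rfl⟩
  have hzd : z ≫ (mappingCone u).d n (n + 1) = 0 := by rw [hzdef]; simp
  obtain ⟨a, hadef⟩ : ∃ a : G' ⟶ E.X (n + 1),
      a = z ≫ (mappingCone.fst u).1.v n (n + 1) rfl := ⟨_, rfl⟩
  obtain ⟨b, hbdef⟩ : ∃ b : G' ⟶ F.X n,
      b = z ≫ (mappingCone.snd u).v n n (add_zero n) := ⟨_, rfl⟩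
  have hzab : z = mkc u n (n + 1) rfl a b := by
    rw [hadef, hbdef]; exact eq_mkc u n (n + 1) rfl z
  have hab0 : mkc u (n + 1) (n + 2) (by lia) (-(a ≫ E.d (n + 1) (n + 2)))
      (a ≫ u.f (n + 1) + b ≫ F.d n (n + 1)) = mkc u (n + 1) (n + 2) (by lia) 0 0 := by
    rw [← mkc_d u n (n + 1) (n + 2) rfl (by lia), ← hzab, hzd, mkc_zero]
  obtain ⟨ha', hab⟩ := mkc_ext u _ _ _ hab0
  have ha : a ≫ E.d (n + 1) (n + 2) = 0 := neg_eq_zero.1 ha'
  -- the complex `S = G'[-(n+1)]` and the map `ψ : S ⟶ E`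
  obtain ⟨ρ, hρ⟩ : ∃ ρ : (sgl (n + 1) G').X (n + 1) ≅ G',
      ρ = HomologicalComplex.singleObjXSelf (ComplexShape.up ℤ) (n + 1) G' := ⟨_, rfl⟩
  have hS0 : ∀ p : ℤ, p ≠ n + 1 → IsZero ((sgl (n + 1) G').X p) := fun p hp =>
    HomologicalComplex.isZero_single_obj_X (ComplexShape.up ℤ) (n + 1) G' p hp
  obtain ⟨ψ, hψ⟩ : ∃ ψ : sgl (n + 1) G' ⟶ E, ψ.f (n + 1) = ρ.hom ≫ a := by
    refine ⟨HomologicalComplex.mkHomFromSingle a (fun k hk => ?_), ?_⟩
    · have hk' : n + 1 + 1 = k := hk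
      obtain rfl : k = n + 2 := by lia
      exact ha
    · rw [hρ]; exact HomologicalComplex.mkHomFromSingle_f a _
  obtain ⟨α, hα⟩ : ∃ α : Cochain (sgl (n + 1) G') F (-1),
      α.v (n + 1) n (by lia) = ρ.hom ≫ (-b) :=
    ⟨Cochain.single (ρ.hom ≫ (-b)) (-1), Cochain.single_v _ _ _⟩
  have eq : δ (-1) 0 α = Cochain.ofHom (ψ ≫ u) := by
    ext p
    by_cases hp : p = n + 1
    · subst hp
      rw [δ_v (-1) 0 (by lia) α (n + 1) (n + 1) (add_zero _) n (n + 2) (by lia) (by lia), hα]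
      simp only [Cochain.ofHom_v, HomologicalComplex.comp_f, hψ, HomologicalComplex.single_obj_d,
        zero_comp, smul_zero, add_zero, Category.assoc, Preadditive.neg_comp,
        Preadditive.comp_neg]
      rw [eq_neg_of_add_eq_zero_left hab]
      simp
    · exact (hS0 p hp).eq_of_src _ _
  obtain ⟨u', hu'⟩ : ∃ u' : mappingCone ψ ⟶ F, u' = mappingCone.desc ψ α u eq := ⟨_, rfl⟩
  have hvu : mappingCone.inr ψ ≫ u' = u := by rw [hu']; simp
  have hu'mk : ∀ {A : C} (x : A ⟶ (sgl (n + 1) G').X (n + 1)) (y : A ⟶ E.X n),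
      mkc ψ n (n + 1) rfl x y ≫ u'.f n = x ≫ ρ.hom ≫ (-b) + y ≫ u.f n := by
    intro A x y
    rw [hu', mkc_desc, hα]
  have hinr : ∀ (i j : ℤ) (hij : i + 1 = j) {A : C} (y : A ⟶ E.X i),
      y ≫ (mappingCone.inr ψ).f i = mkc ψ i j hij 0 y := by
    intro i j hij A y
    simp [mkc]
  have hS2 : ∀ {A : C} (p : ℤ) (hp : p ≠ n + 1) (s : A ⟶ (sgl (n + 1) G').X p), s = 0 :=
    fun p hp s => (hS0 p hp).eq_of_tgt _ _
  -- epimorphism in degree `n`
  have h5a : Epi (HomologicalComplex.homologyMap u' n) := by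
    rw [HomologicalComplex.epi_homologyMap_iff_up_to_refinements u' (n - 1) n (n + 1)
      (by simp) (by simp)]
    intro A y₂ hy₂
    have hm : mkc u n (n + 1) rfl 0 y₂ ≫ (mappingCone u).d n (n + 1) = 0 := by
      rw [mkc_d u n (n + 1) (n + 2) rfl (by lia), zero_comp, zero_comp, neg_zero, zero_add, hy₂,
        mkc_zero]
    obtain ⟨A', π', hπ', g, x₁, hx₁⟩ := hit (mappingCone u) n z₀ hz₀ _ hm
    obtain ⟨e, f, rfl⟩ : ∃ (e : A' ⟶ E.X n) (f : A' ⟶ F.X (n - 1)),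
        x₁ = mkc u (n - 1) n (by lia) e f := ⟨_, _, eq_mkc u (n - 1) n (by lia) x₁⟩
    rw [← hzdef, hzab, mkc_d u (n - 1) n (n + 1) (by lia) rfl, comp_mkc, comp_mkc, mkc_add]
      at hx₁
    obtain ⟨h1, h2⟩ := mkc_ext u _ _ _ hx₁
    rw [comp_zero] at h1
    have h1' : g ≫ a = e ≫ E.d n (n + 1) := by
      rw [eq_neg_of_add_eq_zero_left h1.symm, neg_neg]
    refine ⟨A', π', hπ', mkc ψ n (n + 1) rfl (-(g ≫ ρ.inv)) e, ?_, f, ?_⟩
    · rw [mkc_d ψ n (n + 1) (n + 2) rfl (by lia)]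
      have e1 : -((-(g ≫ ρ.inv)) ≫ (sgl (n + 1) G').d (n + 1) (n + 2)) = 0 :=
        hS2 (n + 2) (by lia) _
      have e2 : (-(g ≫ ρ.inv)) ≫ ψ.f (n + 1) + e ≫ E.d n (n + 1) = 0 := by
        rw [hψ, Preadditive.neg_comp, Category.assoc, Iso.inv_hom_id_assoc, h1', neg_add_cancel]
      rw [e1, e2, mkc_zero]
    · rw [hu'mk, h2, Preadditive.neg_comp, Category.assoc, Iso.inv_hom_id_assoc,
        Preadditive.comp_neg, neg_neg]
      abel
  -- monomorphism in degree `n + 1`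
  have h5b : Mono (HomologicalComplex.homologyMap u' (n + 1)) := by
    rw [HomologicalComplex.mono_homologyMap_iff_up_to_refinements u' n (n + 1) (n + 2)
      (by simp) (by simp; ring)]
    intro A x₂ hx₂ y₁ hy₁
    obtain ⟨s, e, rfl⟩ : ∃ (s : A ⟶ (sgl (n + 1) G').X (n + 2)) (e : A ⟶ E.X (n + 1)),
        x₂ = mkc ψ (n + 1) (n + 2) (by lia) s e := ⟨_, _, eq_mkc ψ (n + 1) (n + 2) (by lia) x₂⟩
    obtain rfl : s = 0 := hS2 (n + 2) (by lia) s
    rw [mkc_d ψ (n + 1) (n + 2) (n + 3) (by lia) (by lia)] at hx₂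
    have he : e ≫ E.d (n + 1) (n + 2) = 0 := by
      have := (mkc_ext ψ _ _ _ (hx₂.trans (mkc_zero ψ _ _ _).symm)).2
      simpa using this
    have hue : e ≫ u.f (n + 1) = y₁ ≫ F.d n (n + 1) := by
      rw [← hy₁, hu', mkc_desc]; simp
    have hm : mkc u n (n + 1) rfl e (-y₁) ≫ (mappingCone u).d n (n + 1) = 0 := by
      rw [mkc_d u n (n + 1) (n + 2) rfl (by lia), he, neg_zero, hue, Preadditive.neg_comp,
        add_neg_cancel, mkc_zero]
    obtain ⟨A', π', hπ', g, x₁, hx₁⟩ := hit (mappingCone u) n z₀ hz₀ _ hm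
    obtain ⟨e₀, f₀, rfl⟩ : ∃ (e₀ : A' ⟶ E.X n) (f₀ : A' ⟶ F.X (n - 1)),
        x₁ = mkc u (n - 1) n (by lia) e₀ f₀ := ⟨_, _, eq_mkc u (n - 1) n (by lia) x₁⟩
    rw [← hzdef, hzab, mkc_d u (n - 1) n (n + 1) (by lia) rfl, comp_mkc, comp_mkc, mkc_add]
      at hx₁
    obtain ⟨h1, -⟩ := mkc_ext u _ _ _ hx₁
    refine ⟨A', π', hπ', mkc ψ n (n + 1) rfl (g ≫ ρ.inv) (-e₀), ?_⟩
    rw [comp_mkc, mkc_d ψ n (n + 1) (n + 2) rfl (by lia)]
    have e1 : π' ≫ (0 : A ⟶ (sgl (n + 1) G').X (n + 2)) =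
        -((g ≫ ρ.inv) ≫ (sgl (n + 1) G').d (n + 1) (n + 2)) := (hS2 (n + 2) (by lia) _).trans
      (hS2 (n + 2) (by lia) _).symm
    have e2 : π' ≫ e = (g ≫ ρ.inv) ≫ ψ.f (n + 1) + (-e₀) ≫ E.d n (n + 1) := by
      rw [hψ, Category.assoc, Iso.inv_hom_id_assoc, h1, Preadditive.neg_comp]
    rw [e1, e2]
  -- monomorphism in degrees `> n + 1`
  have h5c : ∀ i : ℤ, n + 1 < i → Mono (HomologicalComplex.homologyMap u' i) := by
    intro i hi
    rw [HomologicalComplex.mono_homologyMap_iff_up_to_refinements u' (i - 1) i (i + 1)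
      (by simp) (by simp)]
    intro A x₂ hx₂ y₁ hy₁
    obtain ⟨s, e, rfl⟩ : ∃ (s : A ⟶ (sgl (n + 1) G').X (i + 1)) (e : A ⟶ E.X i),
        x₂ = mkc ψ i (i + 1) rfl s e := ⟨_, _, eq_mkc ψ i (i + 1) rfl x₂⟩
    obtain rfl : s = 0 := hS2 (i + 1) (by lia) s
    rw [mkc_d ψ i (i + 1) (i + 2) rfl (by lia)] at hx₂
    have he : e ≫ E.d i (i + 1) = 0 := by
      have := (mkc_ext ψ _ _ _ (hx₂.trans (mkc_zero ψ _ _ _).symm)).2
      simpa using this
    have hue : e ≫ u.f i = y₁ ≫ F.d (i - 1) i := by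
      rw [← hy₁, hu', mkc_desc]; simp
    haveI := hiso i hi
    obtain ⟨A', π', hπ', x₁, hx₁⟩ := (HomologicalComplex.mono_homologyMap_iff_up_to_refinements u
      (i - 1) i (i + 1) (by simp) (by simp)).1 inferInstance e he y₁ hue
    refine ⟨A', π', hπ', mkc ψ (i - 1) i (by lia) 0 x₁, ?_⟩
    rw [comp_mkc, mkc_d ψ (i - 1) i (i + 1) (by lia) rfl, hx₁, zero_comp, zero_comp, neg_zero,
      zero_add, comp_zero]
  refine ⟨G', hG', ψ, u', hvu, ?_, h5a⟩
  · intro i hi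
    haveI : Epi (HomologicalComplex.homologyMap u' i) := by
      have hfac : HomologicalComplex.homologyMap (mappingCone.inr ψ) i ≫
          HomologicalComplex.homologyMap u' i = HomologicalComplex.homologyMap u i := by
        rw [← HomologicalComplex.homologyMap_comp, hvu]
      haveI : Epi (HomologicalComplex.homologyMap u i) := by
        by_cases h : i = n + 1
        · subst h; exact hepi
        · haveI := hiso i (by lia); infer_instance
      exact epi_of_epi_fac hfac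
    haveI : Mono (HomologicalComplex.homologyMap u' i) := by
      by_cases h : i = n + 1
      · subst h; exact h5b
      · exact h5c i (by lia)
    exact isIso_of_mono_of_epi _

end Groth.Agent.H23.PCohLib
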