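import Groth.Agent.H23.PCohFP
import Groth.Agent.H23.PCohStep2

/-!
# Pseudo-coherence over an abelian category: the general approximation lemma (helper23)
-/

open CategoryTheory CategoryTheory.Limits DerivedCategory Pretriangulated

universe w v u

namespace Groth.Agent.H23.PCohLib

variable {C : Type u} [Category.{v} C] [Abelian C]

open CochainComplex
open scoped ZeroObject

/-- Bounded complexes built from the zero complex by successively adding an object of `C₀` in a
degree `k ∈ [lo, top]` (as the cone of a morphism from that object placed in degree `k + 1`). -/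
inductive Built (P : ObjectProperty C) (lo top : ℤ) : CochainComplex C ℤ → Prop
  | zero (R : CochainComplex C ℤ) : (∀ i, IsZero (R.X i)) → Built P lo top R
  | cone (R : CochainComplex C ℤ) (G : C) (k : ℤ) (hlo : lo ≤ k) (htop : k ≤ top) (hG : P G)
      (ψ : sgl (k + 1) G ⟶ R) : Built P lo top R → Built P lo top (mappingCone ψ)

variable [HasDerivedCategory.{w} C]

/-- The general approximation lemma. -/
theorem approx_gen (P : ObjectProperty C) [P.IsClosedUnderIsomorphisms] [P.ContainsZero]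
    (hsum : ∀ X Y : C, P X → P Y → P (X ⨯ Y))
    (hqs : PCoh.IsQuasiStableUnderKernels P) (hql : PCoh.IsQuasiLiftable P)
    (n : ℤ) (E F : CochainComplex C ℤ) (u : E ⟶ F) [QuasiIso u]
    (b : ℤ) (hb : ∀ i, b < i → IsZero (F.X i)) (hfp : ∀ i, n ≤ i → FP P (i - n) (F.X i))
    (m : ℤ) (hm : ∀ i, m ≤ i → IsZero (E.homology i)) :
    ∃ (R : CochainComplex C ℤ) (t : R ⟶ E), Built P n (m - 1) R ∧
      (∀ i, i < n ∨ m ≤ i → IsZero (R.X i)) ∧
      (∀ i, P (R.X i)) ∧ (∀ i, n < i → IsIso (HomologicalComplex.homologyMap t i)) ∧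
      Epi (HomologicalComplex.homologyMap t n) := by
  have base : ∀ k, m ≤ k → ∃ (R : CochainComplex C ℤ) (t : R ⟶ E), Built P n (m - 1) R ∧
      (∀ i, i < k ∨ m ≤ i → IsZero (R.X i)) ∧
      (∀ i, P (R.X i)) ∧ (∀ i, k < i → IsIso (HomologicalComplex.homologyMap t i)) ∧
      Epi (HomologicalComplex.homologyMap t k) := by
    intro k hk
    have hz : ∀ i, IsZero ((0 : CochainComplex C ℤ).X i) := fun i =>
      Functor.map_isZero (HomologicalComplex.eval C (ComplexShape.up ℤ) i) (isZero_zero _)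
    refine ⟨0, 0, Built.zero _ hz, fun i _ => hz i, fun i => P.prop_of_isZero (hz i),
      fun i hi => ?_, ?_⟩
    · exact isIso_of_isZero _ (isZero_homology_of_isZero_X _ i (hz i)) (hm i (by omega))
    · exact epi_of_isZero _ (hm k hk)
  have step : ∀ k, n ≤ k → (∃ (R : CochainComplex C ℤ) (t : R ⟶ E), Built P n (m - 1) R ∧
      (∀ i, i < k + 1 ∨ m ≤ i → IsZero (R.X i)) ∧
      (∀ i, P (R.X i)) ∧ (∀ i, k + 1 < i → IsIso (HomologicalComplex.homologyMap t i)) ∧
      Epi (HomologicalComplex.homologyMap t (k + 1))) →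
      ∃ (R : CochainComplex C ℤ) (t : R ⟶ E), Built P n (m - 1) R ∧
      (∀ i, i < k ∨ m ≤ i → IsZero (R.X i)) ∧
      (∀ i, P (R.X i)) ∧ (∀ i, k < i → IsIso (HomologicalComplex.homologyMap t i)) ∧
      Epi (HomologicalComplex.homologyMap t k) := by
    intro k hk ⟨R₁, t₁, hB₁, hz₁, hP₁, hiso₁, hepi₁⟩
    by_cases hkm : m ≤ k
    · exact base k hkm
    have hkm' : k ≤ m - 1 := by omega
    have hcone : PCoh.IsOfFiniteType P ((mappingCone t₁).homology k) := by
      have hcomm : t₁ ≫ u = 𝟙 R₁ ≫ (t₁ ≫ u) := by rw [Category.id_comp]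
      haveI := quasiIso_cone_map t₁ (t₁ ≫ u) (𝟙 R₁) u hcomm
      refine finiteType_of_iso P (asIso (HomologicalComplex.homologyMap
        (mappingCone.map t₁ (t₁ ≫ u) (𝟙 R₁) u hcomm) k)).symm ?_
      have hcyc : FP P 0 ((mappingCone (t₁ ≫ u)).cycles k) := by
        apply fp_cycles P hsum hqs hql (mappingCone (t₁ ≫ u)) k (max b m)
        · intro i hi
          rw [mappingCone.isZero_X_iff]
          exact ⟨hz₁ _ (Or.inr (by have := le_max_right b m; omega)),
            hb i (by have := le_max_left b m; omega)⟩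
        · intro j
          refine FP.of_iso P ((HomologicalComplex.homotopyCofiber.XIsoBiprod (t₁ ≫ u) (k + j)
            (k + j + 1) rfl)).symm ?_
          exact FP.biprod P hsum hqs hql (FP.of_P P _ (hP₁ _))
            (FP.mono P (by omega) (hfp (k + j) (by omega)))
        · intro i hi
          apply cone_exactAt
          · rw [HomologicalComplex.homologyMap_comp]
            by_cases h : i = k + 1
            · subst h
              haveI := hepi₁
              exact epi_comp _ _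
            · haveI := hiso₁ i (by omega)
              exact epi_comp _ _
          · rw [HomologicalComplex.homologyMap_comp]
            haveI := hiso₁ (i + 1) (by omega)
            exact mono_comp _ _
      obtain ⟨G, π, hG, hπ⟩ := FP.finiteType P hqs hcyc
      haveI := hπ
      exact ⟨G, π ≫ (mappingCone (t₁ ≫ u)).homologyπ k, hG, epi_comp _ _⟩
    obtain ⟨G', hG', ψ, t₂, -, hiso₂, hepi₂⟩ := one_step' P hql k R₁ E t₁ hiso₁ hepi₁ hcone
    refine ⟨mappingCone ψ, t₂, Built.cone R₁ G' k hk hkm' hG' ψ hB₁, ?_, ?_, hiso₂, hepi₂⟩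
    · intro i hi
      rw [mappingCone.isZero_X_iff]
      exact ⟨HomologicalComplex.isZero_single_obj_X _ _ _ _ (by omega), hz₁ i (by omega)⟩
    · intro i
      exact prop_cone P hsum ψ i ((strictPC_single P (i + 1) (k + 1) G' hG').2 (i + 1) le_rfl)
        (hP₁ i)
  have main : ∀ d : ℕ, ∀ k, n ≤ k → m ≤ k + d → ∃ (R : CochainComplex C ℤ) (t : R ⟶ E),
      Built P n (m - 1) R ∧ (∀ i, i < k ∨ m ≤ i → IsZero (R.X i)) ∧
      (∀ i, P (R.X i)) ∧ (∀ i, k < i → IsIso (HomologicalComplex.homologyMap t i)) ∧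
      Epi (HomologicalComplex.homologyMap t k) := by
    intro d
    induction d with
    | zero =>
      intro k _ hkb
      exact base k (by simpa using hkb)
    | succ d ih =>
      intro k hk hkb
      exact step k hk (ih (k + 1) (by omega) (by push_cast at hkb; omega))
  exact main (m - n).toNat n le_rfl (by omega)

variable (P : ObjectProperty C) [P.IsClosedUnderIsomorphisms] [P.ContainsZero]
  (hsum : ∀ X Y : C, P X → P Y → P (X ⨯ Y))

include hsum in
/-- The criterion, keeping track of vanishing terms. -/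
theorem npc_of_niso_top (n : ℤ) (E : CochainComplex C ℤ) (hE : PCoh.IsStrictPC P n E)
    (Y : DerivedCategory C) (α : Q.obj E ⟶ Y)
    (hiso : ∀ i, n < i → IsIso ((homologyFunctor C i).map α))
    (hepi : Epi ((homologyFunctor C n).map α)) :
    ∃ E' : CochainComplex C ℤ, PCoh.IsStrictPC P n E' ∧
      (∀ i, n ≤ i → IsZero (E.X i) → IsZero (E'.X i)) ∧ Nonempty (Q.obj E' ≅ Y) := by
  obtain ⟨Z, g, h, hT⟩ := distinguished_cocone_triangle α
  have hZ : Z.IsLE (n - 1) := by
    rw [DerivedCategory.isLE_iff]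
    intro i hi
    have h1 : Epi ((homologyFunctor C i).map α) := by
      by_cases hin : i = n
      · subst hin
        exact hepi
      · haveI := hiso i (by omega)
        infer_instance
    have h2 : Mono ((homologyFunctor C (i + 1)).map α) := by
      haveI := hiso (i + 1) (by omega)
      infer_instance
    exact isZero_homology_cone _ hT i h1 h2
  haveI : (Z⟦(-1 : ℤ)⟧).IsLE n := TStructure.t.isLE_shift Z (n - 1) (-1) n (by omega)
  obtain ⟨Z₁, hZ₁, ⟨e⟩⟩ := exists_iso_Q_obj_of_isLE (Z⟦(-1 : ℤ)⟧) n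
  have hT' := inv_rot_of_distTriang _ hT
  obtain ⟨f, hf⟩ : ∃ f : Z⟦(-1 : ℤ)⟧ ⟶ Q.obj E, f = (Triangle.mk α g h).invRotate.mor₁ :=
    ⟨_, rfl⟩
  obtain ⟨Z₂, hZ₂, s, hs, γ, hγ⟩ := right_fac_of_isStrictlyLE (e.inv ≫ f) n
  have hT'' := mappingCone_triangle_distinguished γ
  haveI := hs
  let e₁ : Q.obj Z₂ ≅ Z⟦(-1 : ℤ)⟧ := asIso (Q.map s) ≪≫ e.symm
  have comm : (Q.mapTriangle.obj (CochainComplex.mappingCone.triangle γ)).mor₁ ≫
      (Iso.refl (Q.obj E)).hom = e₁.hom ≫ (Triangle.mk α g h).invRotate.mor₁ := by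
    show Q.map γ ≫ 𝟙 _ = (Q.map s ≫ e.inv) ≫ _
    rw [Category.comp_id, Category.assoc, ← hf, hγ, IsIso.hom_inv_id_assoc]
  let eT := isoTriangleOfIso₁₂ _ _ hT'' hT' e₁ (Iso.refl _) comm
  have e₃ : Q.obj (CochainComplex.mappingCone γ) ≅ Y := Triangle.π₃.mapIso eT
  obtain ⟨⟨b, hb⟩, hP⟩ := hE
  refine ⟨CochainComplex.mappingCone γ, ⟨⟨max b n, fun i hi => ?_⟩, fun i hi => ?_⟩,
    fun i hi hz => ?_, ⟨e₃⟩⟩
  · rw [CochainComplex.mappingCone.isZero_X_iff]
    exact ⟨Z₂.isZero_of_isStrictlyLE n _ (by have := le_max_right b n; omega),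
      hb i (by have := le_max_left b n; omega)⟩
  · exact prop_cone P hsum γ i
      (P.prop_of_isZero (Z₂.isZero_of_isStrictlyLE n _ (by omega))) (hP i hi)
  · rw [CochainComplex.mappingCone.isZero_X_iff]
    exact ⟨Z₂.isZero_of_isStrictlyLE n _ (by omega), hz⟩

end Groth.Agent.H23.PCohLib
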