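import Groth.Agent.H23.PCohTower
import Groth.Agent.H23.PCohFactor2

/-!
# Strictly pseudo-coherent resolutions (helper23)
-/

open CategoryTheory CategoryTheory.Limits DerivedCategory Pretriangulated

universe w v u

namespace Groth.Agent.H23.PCohLib

variable {C : Type u} [Category.{v} C] [Abelian C] [HasDerivedCategory.{w} C]

open CochainComplex

section Inf

variable (P : ObjectProperty C) (F : CochainComplex C ℤ) (B : ℤ)

/-- A stage of the construction: a complex with terms in `C₀`, vanishing above `B`, with an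
`(n + 1)`-quasi-isomorphism to `F`. -/
structure Stage where
  n : ℤ
  R : CochainComplex C ℤ
  t : R ⟶ F
  hn : n ≤ B
  hP : ∀ i, P (R.X i)
  hB : ∀ i, B < i → IsZero (R.X i)
  hiso : ∀ j, n + 1 < j → IsIso (HomologicalComplex.homologyMap t j)
  hepi : Epi (HomologicalComplex.homologyMap t (n + 1))

/-- The data produced by one step. -/
structure StepData (S : Stage P F B) where
  G : C
  hG : P G
  ψ : sgl (S.n + 1) G ⟶ S.R
  t' : mappingCone ψ ⟶ F
  h1 : mappingCone.inr ψ ≫ t' = S.t
  h2 : ∀ i, S.n < i → IsIso (HomologicalComplex.homologyMap t' i)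
  h3 : Epi (HomologicalComplex.homologyMap t' S.n)

variable [P.IsClosedUnderIsomorphisms] [P.ContainsZero]
  (hsum : ∀ X Y : C, P X → P Y → P (X ⨯ Y))
  (hqs : PCoh.IsQuasiStableUnderKernels P) (hql : PCoh.IsQuasiLiftable P)
  (hF : ∀ n, NPC P n (Q.obj F))

include hsum hqs hql hF in
lemma step_exists (S : Stage P F B) : Nonempty (StepData P F B S) := by
  have hcone : PCoh.IsOfFiniteType P ((mappingCone S.t).homology S.n) := by
    have hM : NPC P S.n (Q.obj (mappingCone S.t)) :=
      npc_cone P hsum hqs hql S.n _ (mappingCone_triangle_distinguished S.t)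
        ⟨S.R, ⟨⟨B, S.hB⟩, fun i _ => S.hP i⟩, ⟨Iso.refl _⟩⟩ (hF S.n)
    have iso : ∀ i, (mappingCone S.t).homology i ≅
        (homologyFunctor C i).obj (Q.obj (mappingCone S.t)) := fun i =>
      ((homologyFunctorFactors C i).app _).symm
    refine finiteType_of_iso P (iso S.n).symm ?_
    apply finiteType_of_npc P hqs S.n _ _ hM
    intro i hi
    refine IsZero.of_iso ?_ (iso i).symm
    rw [← HomologicalComplex.exactAt_iff_isZero_homology]
    apply cone_exactAt S.t i
    · by_cases h : i = S.n + 1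
      · subst h
        exact S.hepi
      · haveI := S.hiso i (by omega)
        infer_instance
    · haveI := S.hiso (i + 1) (by omega)
      infer_instance
  obtain ⟨G', hG', ψ, u₁, hu₁, hiso₁, hepi₁⟩ :=
    one_step' P hql S.n S.R F S.t S.hiso S.hepi hcone
  exact ⟨⟨G', hG', ψ, u₁, hu₁, hiso₁, hepi₁⟩⟩

/-- the chosen step data -/
noncomputable def stepData (S : Stage P F B) : StepData P F B S :=
  Classical.choice (step_exists P F B hsum hqs hql hF S)

/-- the next stage -/
noncomputable def next (S : Stage P F B) : Stage P F B where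
  n := S.n - 1
  R := mappingCone (stepData P F B hsum hqs hql hF S).ψ
  t := (stepData P F B hsum hqs hql hF S).t'
  hn := by have := S.hn; omega
  hP := fun i => prop_cone P hsum _ i
    ((strictPC_single P (i + 1) (S.n + 1) _ (stepData P F B hsum hqs hql hF S).hG).2 (i + 1)
      le_rfl) (S.hP i)
  hB := fun i hi => by
    rw [mappingCone.isZero_X_iff]
    exact ⟨HomologicalComplex.isZero_single_obj_X _ _ _ _ (by have := S.hn; omega), S.hB i hi⟩
  hiso := fun j hj => (stepData P F B hsum hqs hql hF S).h2 j (by omega)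
  hepi := by
    have := (stepData P F B hsum hqs hql hF S).h3
    rwa [show S.n - 1 + 1 = S.n by omega]

/-- the inclusion into the next stage -/
noncomputable def vmap (S : Stage P F B) : S.R ⟶ (next P F B hsum hqs hql hF S).R :=
  mappingCone.inr (stepData P F B hsum hqs hql hF S).ψ

lemma vmap_t (S : Stage P F B) :
    vmap P F B hsum hqs hql hF S ≫ (next P F B hsum hqs hql hF S).t = S.t :=
  (stepData P F B hsum hqs hql hF S).h1

lemma vmap_mono (S : Stage P F B) (i : ℤ) : Mono ((vmap P F B hsum hqs hql hF S).f i) :=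
  inr_f_mono _ i

lemma vmap_iso (S : Stage P F B) (i : ℤ) (hi : i ≠ S.n) :
    IsIso ((vmap P F B hsum hqs hql hF S).f i) :=
  inr_f_isIso _ i (HomologicalComplex.isZero_single_obj_X _ _ _ _ (by omega))

/-- the sequence of stages -/
noncomputable def seq (S₀ : Stage P F B) : ℕ → Stage P F B
  | 0 => S₀
  | m + 1 => next P F B hsum hqs hql hF (seq S₀ m)

lemma seq_n (S₀ : Stage P F B) (m : ℕ) : (seq P F B hsum hqs hql hF S₀ m).n = S₀.n - m := by
  induction m with
  | zero => simp [seq]
  | succ m ih =>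
    show (seq P F B hsum hqs hql hF S₀ m).n - 1 = _
    rw [ih]
    push_cast
    ring

include hsum hqs hql hF in
/-- Existence of strictly pseudo-coherent resolutions extending a given stage. -/
theorem exists_resolution (S₀ : Stage P F B) :
    ∃ (E' : CochainComplex C ℤ) (c : S₀.R ⟶ E') (t' : E' ⟶ F), c ≫ t' = S₀.t ∧
      (∀ i, P (E'.X i)) ∧ (∀ i, B < i → IsZero (E'.X i)) ∧ QuasiIso t' ∧
      (∀ j, Mono (c.f j)) ∧ (∀ j, S₀.n < j → IsIso (c.f j)) := by
  obtain ⟨R, hR⟩ : ∃ R : ℕ → CochainComplex C ℤ,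
      R = fun m => (seq P F B hsum hqs hql hF S₀ m).R := ⟨_, rfl⟩
  subst hR
  obtain ⟨v, hvdef⟩ : ∃ v : ∀ m, (seq P F B hsum hqs hql hF S₀ m).R ⟶
      (seq P F B hsum hqs hql hF S₀ (m + 1)).R,
      v = fun m => vmap P F B hsum hqs hql hF (seq P F B hsum hqs hql hF S₀ m) := ⟨_, rfl⟩
  have ht : ∀ m, v m ≫ (seq P F B hsum hqs hql hF S₀ (m + 1)).t =
      (seq P F B hsum hqs hql hF S₀ m).t := fun m => by
    rw [hvdef]
    exact vmap_t P F B hsum hqs hql hF _
  have hv : ∀ (m : ℕ) (i : ℤ), S₀.n - m < i → IsIso ((v m).f i) := fun m i hi => by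
    rw [hvdef]
    exact vmap_iso P F B hsum hqs hql hF _ i (by rw [seq_n]; omega)
  have hmono : ∀ m i, Mono ((v m).f i) := fun m i => by
    rw [hvdef]
    exact vmap_mono P F B hsum hqs hql hF _ i
  have hq : ∀ (m : ℕ) (i : ℤ), S₀.n + 1 - m < i → IsIso (HomologicalComplex.homologyMap
      ((seq P F B hsum hqs hql hF S₀ m).t) i) := fun m i hi =>
    (seq P F B hsum hqs hql hF S₀ m).hiso i (by rw [seq_n]; omega)
  refine ⟨Tower.Rinf S₀.n _ v hv, Tower.cinf S₀.n _ v hv,
    Tower.tinf S₀.n _ v (fun m => (seq P F B hsum hqs hql hF S₀ m).t) (ht := ht) (hv := hv),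
    Tower.cinf_tinf S₀.n _ v _ ht hv, fun i => ?_, fun i hi => ?_,
    Tower.quasiIso_tinf S₀.n _ v _ ht hv hq, fun j => ?_, fun j hj => ?_⟩
  · exact (seq P F B hsum hqs hql hF S₀ _).hP i
  · exact (seq P F B hsum hqs hql hF S₀ _).hB i hi
  · exact Tower.Φ_mono _ v hmono j 0 _ (Nat.zero_le _)
  · exact Tower.Φ_iso S₀.n _ v hv j 0 _ (Nat.zero_le _) (by simpa using hj)

end Inf

end Groth.Agent.H23.PCohLib
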