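import Groth.Agent.H23.PCohInf

/-!
# Strictly pseudo-coherent resolutions: applications (helper23)
-/

open CategoryTheory CategoryTheory.Limits DerivedCategory Pretriangulated

universe w v u

namespace Groth.Agent.H23.PCohLib

variable {C : Type u} [Category.{v} C] [Abelian C] [HasDerivedCategory.{w} C]

open CochainComplex
open scoped ZeroObject

variable (P : ObjectProperty C) [P.IsClosedUnderIsomorphisms] [P.ContainsZero]

/-- The zero stage. -/
noncomputable def Stage.ofZero (F : CochainComplex C ℤ) (B : ℤ)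
    (hac : ∀ j, B < j → IsZero (F.homology j)) : Stage P F B where
  n := B
  R := 0
  t := 0
  hn := le_rfl
  hP := fun i => P.prop_of_isZero
    (Functor.map_isZero (HomologicalComplex.eval C (ComplexShape.up ℤ) i) (isZero_zero _))
  hB := fun i _ =>
    Functor.map_isZero (HomologicalComplex.eval C (ComplexShape.up ℤ) i) (isZero_zero _)
  hiso := fun j hj => isIso_of_isZero _ (isZero_homology_of_isZero_X _ j
    (Functor.map_isZero (HomologicalComplex.eval C (ComplexShape.up ℤ) j) (isZero_zero _)))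
    (hac j (by omega))
  hepi := epi_of_isZero _ (hac _ (by omega))

variable (hsum : ∀ X Y : C, P X → P Y → P (X ⨯ Y))
  (hqs : PCoh.IsQuasiStableUnderKernels P) (hql : PCoh.IsQuasiLiftable P)

include hsum hqs hql in
/-- A complex with pseudo-coherent image in `D(C)` and cohomology vanishing above `B` receives a
quasi-isomorphism from a complex with terms in `C₀` vanishing above `B`. -/
theorem exists_resolution_zero (F : CochainComplex C ℤ) (hF : ∀ n, NPC P n (Q.obj F)) (B : ℤ)
    (hac : ∀ j, B < j → IsZero (F.homology j)) :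
    ∃ (E' : CochainComplex C ℤ) (t' : E' ⟶ F), (∀ i, P (E'.X i)) ∧
      (∀ i, B < i → IsZero (E'.X i)) ∧ QuasiIso t' := by
  obtain ⟨E', -, t', -, h1, h2, h3, -, -⟩ :=
    exists_resolution P F B hsum hqs hql hF (Stage.ofZero P F B hac)
  exact ⟨E', t', h1, h2, h3⟩

include hsum hqs hql in
theorem exists_resolution_D (F : DerivedCategory C) (hF : ∀ n, NPC P n F) (B : ℤ)
    (hac : ∀ j, B < j → IsZero ((homologyFunctor C j).obj F)) :
    ∃ (E' : CochainComplex C ℤ), (∀ i, P (E'.X i)) ∧
      (∀ i, B < i → IsZero (E'.X i)) ∧ Nonempty (Q.obj E' ≅ F) := by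
  obtain ⟨E₁, -, ⟨e₁⟩⟩ := hF 0
  have iso : ∀ i, E₁.homology i ≅ (homologyFunctor C i).obj F := fun i =>
    ((homologyFunctorFactors C i).app E₁).symm ≪≫ (homologyFunctor C i).mapIso e₁
  obtain ⟨E', t', h1, h2, h3⟩ := exists_resolution_zero P hsum hqs hql E₁
    (fun n => NPC.of_iso P e₁.symm (hF n)) B (fun j hj => IsZero.of_iso (hac j hj) (iso j))
  haveI : IsIso (Q.map t') := (isIso_Q_map_iff_quasiIso C t').2 h3
  exact ⟨E', h1, h2, ⟨asIso (Q.map t') ≪≫ e₁⟩⟩

end Groth.Agent.H23.PCohLib
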