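import Mathlib

/-!
# Towers of cochain complexes that stabilise degreewise (helper23)

Given complexes `R m` with maps `v m : R m ⟶ R (m + 1)` which are isomorphisms in degrees
`> b - m`, and compatible maps `t m : R m ⟶ E`, we build the "union" `R∞` with `t∞ : R∞ ⟶ E`.
-/

open CategoryTheory CategoryTheory.Limits

universe v u

namespace Groth.Agent.H23.Tower

variable {C : Type u} [Category.{v} C] [Abelian C]

variable {E : CochainComplex C ℤ} (b : ℤ) (R : ℕ → CochainComplex C ℤ)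
  (v : ∀ m, R m ⟶ R (m + 1)) (t : ∀ m, R m ⟶ E)

/-- transition maps -/
noncomputable def Φ (m m' : ℕ) (h : m ≤ m') : R m ⟶ R m' :=
  (Functor.ofSequence v).map (homOfLE h)

lemma Φ_self (m : ℕ) : Φ R v m m le_rfl = 𝟙 _ := by
  have : homOfLE (le_refl m) = 𝟙 m := rfl
  rw [Φ, this, CategoryTheory.Functor.map_id]
  rfl

lemma Φ_comp (m m' m'' : ℕ) (h : m ≤ m') (h' : m' ≤ m'') :
    Φ R v m m' h ≫ Φ R v m' m'' h' = Φ R v m m'' (h.trans h') :=
  ((Functor.ofSequence v).map_comp (homOfLE h) (homOfLE h')).symm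

lemma Φ_succ (m m' : ℕ) (h : m ≤ m') :
    Φ R v m (m' + 1) (Nat.le_succ_of_le h) = Φ R v m m' h ≫ v m' := by
  rw [← Φ_comp R v m m' (m' + 1) h (Nat.le_add_right m' 1)]
  congr 1
  exact Functor.ofSequence_map_homOfLE_succ v m'

variable (ht : ∀ m, v m ≫ t (m + 1) = t m)
  (hv : ∀ (m : ℕ) (i : ℤ), b - m < i → IsIso ((v m).f i))

include ht in
lemma Φ_t (m m' : ℕ) (h : m ≤ m') : Φ R v m m' h ≫ t m' = t m := by
  induction m', h using Nat.le_induction with
  | base => rw [Φ_self, Category.id_comp]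
  | succ m' h ih => rw [Φ_succ R v m m' h, Category.assoc, ht, ih]

include hv in
lemma Φ_iso (i : ℤ) (m m' : ℕ) (h : m ≤ m') (hi : b - m < i) :
    IsIso ((Φ R v m m' h).f i) := by
  induction m', h using Nat.le_induction with
  | base =>
    rw [Φ_self, HomologicalComplex.id_f]
    infer_instance
  | succ m' h ih =>
    rw [Φ_succ R v m m' h, HomologicalComplex.comp_f]
    haveI := ih
    have hm : (m : ℤ) ≤ m' := by exact_mod_cast h
    haveI := hv m' i (by omega)
    infer_instance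

lemma Φ_mono (hmono : ∀ m i, Mono ((v m).f i)) (i : ℤ) (m m' : ℕ) (h : m ≤ m') :
    Mono ((Φ R v m m' h).f i) := by
  induction m', h using Nat.le_induction with
  | base =>
    rw [Φ_self, HomologicalComplex.id_f]
    infer_instance
  | succ m' h ih =>
    rw [Φ_succ R v m m' h, HomologicalComplex.comp_f]
    haveI := ih
    haveI := hmono m' i
    exact mono_comp _ _

/-- the degreewise isomorphisms -/
noncomputable def τ (j : ℤ) (m m' : ℕ) (h : m ≤ m') (hj : b - m < j) :
    (R m).X j ≅ (R m').X j :=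
  haveI := Φ_iso b R v hv j m m' h hj
  asIso ((Φ R v m m' h).f j)

lemma τ_hom (j : ℤ) (m m' : ℕ) (h : m ≤ m') (hj : b - m < j) :
    (τ b R v hv j m m' h hj).hom = (Φ R v m m' h).f j := rfl

lemma τ_comp (j : ℤ) (m m' m'' : ℕ) (h : m ≤ m') (h' : m' ≤ m'') (hj : b - m < j)
    (hj' : b - m' < j) :
    (τ b R v hv j m m' h hj).hom ≫ (τ b R v hv j m' m'' h' hj').hom =
      (τ b R v hv j m m'' (h.trans h') hj).hom := by
  rw [τ_hom, τ_hom, τ_hom, ← HomologicalComplex.comp_f, Φ_comp]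

lemma τ_d (j k : ℤ) (m m' : ℕ) (h : m ≤ m') (hj : b - m < j) (hk : b - m < k) :
    (τ b R v hv j m m' h hj).hom ≫ (R m').d j k =
      (R m).d j k ≫ (τ b R v hv k m m' h hk).hom := by
  rw [τ_hom, τ_hom, HomologicalComplex.Hom.comm]

include ht in
lemma τ_t (j : ℤ) (m m' : ℕ) (h : m ≤ m') (hj : b - m < j) :
    (τ b R v hv j m m' h hj).hom ≫ (t m').f j = (t m).f j := by
  rw [τ_hom, ← HomologicalComplex.comp_f, Φ_t R v t ht]

/-- the stage at which degree `i` has stabilised -/
def NN (i : ℤ) : ℕ := (b + 1 - i).toNat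

lemma NN_le {i j : ℤ} (h : i + 1 = j) : NN b j ≤ NN b i := by
  unfold NN
  omega

lemma NN_lt (j : ℤ) (m : ℕ) (h : NN b j ≤ m) : b - m < j := by
  unfold NN at h
  omega

lemma NN_lt' {i j : ℤ} (h : i + 1 = j) (m : ℕ) (hm : NN b i ≤ m) : b - m < j := by
  unfold NN at hm
  omega

/-- the union of the tower -/
@[reducible] noncomputable def Rinf : CochainComplex C ℤ where
  X i := (R (NN b i)).X i
  d i j := if h : i + 1 = j then (R (NN b i)).d i j ≫
    (τ b R v hv j (NN b j) (NN b i) (NN_le b h) (NN_lt b j _ le_rfl)).inv else 0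
  shape i j hij := dif_neg hij
  d_comp_d' i j k hij hjk := by
    have hij' : i + 1 = j := hij
    have hjk' : j + 1 = k := hjk
    rw [dif_pos hij', dif_pos hjk']
    have key : (τ b R v hv j (NN b j) (NN b i) (NN_le b hij') (NN_lt b j _ le_rfl)).inv ≫
        (R (NN b j)).d j k = (R (NN b i)).d j k ≫
        (τ b R v hv k (NN b j) (NN b i) (NN_le b hij') (NN_lt' b hjk' _ le_rfl)).inv := by
      rw [Iso.inv_comp_eq, ← Category.assoc, τ_d b R v hv j k _ _ _ _ (NN_lt' b hjk' _ le_rfl),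
        Category.assoc, Iso.hom_inv_id, Category.comp_id]
    rw [Category.assoc, reassoc_of% key, HomologicalComplex.d_comp_d_assoc, zero_comp]

lemma Rinf_d {i j : ℤ} (h : i + 1 = j) :
    (Rinf b R v hv).d i j = (R (NN b i)).d i j ≫
      (τ b R v hv j (NN b j) (NN b i) (NN_le b h) (NN_lt b j _ le_rfl)).inv :=
  dif_pos h

/-- comparison with a late stage: the differential -/
lemma Rinf_d_τ {j j' : ℤ} (h : j + 1 = j') (m : ℕ) (hm : NN b j ≤ m) :
    (Rinf b R v hv).d j j' ≫
      (τ b R v hv j' (NN b j') m ((NN_le b h).trans hm) (NN_lt b j' _ le_rfl)).hom =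
    (τ b R v hv j (NN b j) m hm (NN_lt b j _ le_rfl)).hom ≫ (R m).d j j' := by
  rw [Rinf_d b R v hv h, τ_d b R v hv j j' _ _ hm _ (NN_lt' b h _ le_rfl), Category.assoc]
  congr 1
  rw [Iso.inv_comp_eq, τ_comp]

include ht in
/-- the map from the union -/
noncomputable def tinf : Rinf b R v hv ⟶ E where
  f i := (t (NN b i)).f i
  comm' i j hij := by
    have hij' : i + 1 = j := hij
    rw [Rinf_d b R v hv hij', Category.assoc]
    have : (τ b R v hv j (NN b j) (NN b i) (NN_le b hij') (NN_lt b j _ le_rfl)).inv ≫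
        (t (NN b j)).f j = (t (NN b i)).f j := by
      rw [Iso.inv_comp_eq, τ_t b R v t ht hv]
    rw [this, HomologicalComplex.Hom.comm]

/-- the map to the union -/
noncomputable def cinf : R 0 ⟶ Rinf b R v hv where
  f i := (Φ R v 0 (NN b i) (Nat.zero_le _)).f i
  comm' i j hij := by
    have hij' : i + 1 = j := hij
    rw [Rinf_d b R v hv hij', ← Category.assoc, HomologicalComplex.Hom.comm, Category.assoc]
    congr 1
    rw [Iso.comp_inv_eq, τ_hom, ← HomologicalComplex.comp_f, Φ_comp]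

include ht in
lemma cinf_tinf : cinf b R v hv ≫ tinf b R v t (ht := ht) (hv := hv) = t 0 := by
  ext i
  show (Φ R v 0 (NN b i) (Nat.zero_le _)).f i ≫ (t (NN b i)).f i = (t 0).f i
  rw [← HomologicalComplex.comp_f, Φ_t R v t ht]

include ht in
lemma tinf_τ (j : ℤ) (m : ℕ) (hm : NN b j ≤ m) :
    (τ b R v hv j (NN b j) m hm (NN_lt b j _ le_rfl)).hom ≫ (t m).f j =
      (tinf b R v t (ht := ht) (hv := hv)).f j :=
  τ_t b R v t ht hv j _ _ hm _

include ht in
theorem quasiIso_tinf
    (hq : ∀ (m : ℕ) (i : ℤ), b + 1 - m < i → IsIso (HomologicalComplex.homologyMap (t m) i)) :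
    QuasiIso (tinf b R v t (ht := ht) (hv := hv)) := by
  rw [quasiIso_iff]
  intro i
  rw [quasiIsoAt_iff_isIso_homologyMap]
  -- compare with stage `m = NN (i - 1)`
  obtain ⟨m, hm⟩ : ∃ m, m = NN b (i - 1) := ⟨_, rfl⟩
  have hm1 : NN b (i - 1) ≤ m := hm.ge
  have hm2 : NN b i ≤ m := (NN_le b (by omega : i - 1 + 1 = i)).trans hm1
  have hm3 : NN b (i + 1) ≤ m := (NN_le b rfl).trans hm2
  haveI := hq m i (by rw [hm]; unfold NN; omega)
  haveI : Epi (HomologicalComplex.homologyMap (tinf b R v t (ht := ht) (hv := hv)) i) := by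
    rw [HomologicalComplex.epi_homologyMap_iff_up_to_refinements _ (i - 1) i (i + 1)
      (by simp) (by simp)]
    intro A y hy
    obtain ⟨A', π, hπ, x₂, hx₂, y₁, hy₁⟩ :=
      (HomologicalComplex.epi_homologyMap_iff_up_to_refinements (t m) (i - 1) i (i + 1)
        (by simp) (by simp)).1 inferInstance y hy
    refine ⟨A', π, hπ, x₂ ≫ (τ b R v hv i (NN b i) m hm2 (NN_lt b i _ le_rfl)).inv, ?_, y₁, ?_⟩
    · rw [← cancel_mono (τ b R v hv (i + 1) (NN b (i + 1)) m hm3 (NN_lt b _ _ le_rfl)).hom,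
        Category.assoc, Rinf_d_τ b R v hv rfl m hm2, Category.assoc, Iso.inv_hom_id_assoc, hx₂,
        zero_comp]
    · rw [hy₁, Category.assoc, ← tinf_τ b R v t ht hv i m hm2, Iso.inv_hom_id_assoc]
  haveI : Mono (HomologicalComplex.homologyMap (tinf b R v t (ht := ht) (hv := hv)) i) := by
    rw [HomologicalComplex.mono_homologyMap_iff_up_to_refinements _ (i - 1) i (i + 1)
      (by simp) (by simp)]
    intro A x₂ hx₂ y₁ hy₁
    obtain ⟨A', π, hπ, x₁, hx₁⟩ :=
      (HomologicalComplex.mono_homologyMap_iff_up_to_refinements (t m) (i - 1) i (i + 1)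
        (by simp) (by simp)).1 inferInstance
        (x₂ ≫ (τ b R v hv i (NN b i) m hm2 (NN_lt b i _ le_rfl)).hom)
        (by rw [Category.assoc, ← Rinf_d_τ b R v hv rfl m hm2, ← Category.assoc, hx₂,
          zero_comp]) y₁
        (by rw [Category.assoc, tinf_τ b R v t ht hv i m hm2, hy₁])
    refine ⟨A', π, hπ,
      x₁ ≫ (τ b R v hv (i - 1) (NN b (i - 1)) m hm1 (NN_lt b _ _ le_rfl)).inv, ?_⟩
    rw [← cancel_mono (τ b R v hv i (NN b i) m hm2 (NN_lt b i _ le_rfl)).hom, Category.assoc,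
      hx₁, Category.assoc, Rinf_d_τ b R v hv (by omega : i - 1 + 1 = i) m hm1, Category.assoc,
      Iso.inv_hom_id_assoc]
  exact isIso_of_mono_of_epi _

end Groth.Agent.H23.Tower
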