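import Groth.Agent.H23.PerfCone

/-!
# Acyclic complexes with all but one term in a liftable subcategory stable under kernels of
epimorphisms (helper23)
-/

set_option autoImplicit false
universe w v u
open CategoryTheory CategoryTheory.Limits

namespace Groth.Agent.H23.PerfCone

variable {C : Type u} [Category.{v} C] [Abelian C]

theorem prop_of_acyclic (P : ObjectProperty C) [P.IsClosedUnderIsomorphisms] [P.ContainsZero]
    (hsum : ∀ X Y : C, P X → P Y → P (X ⨯ Y))
    (hlift : ∀ (E F : C) (u : E ⟶ F), Epi u → P F → IsSplitEpi u)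
    (hst : ∀ (E F : C) (u : E ⟶ F), Epi u → P E → P F → P (kernel u))
    (G : CochainComplex C ℤ) (hG : ∀ i, G.ExactAt i) (m b : ℤ)
    (hlow : ∀ i, i < m → IsZero (G.X i)) (hhigh : ∀ i, b < i → IsZero (G.X i))
    (hP : ∀ i, i ≠ m + 1 → P (G.X i)) : P (G.X (m + 1)) := by
  have hex : ∀ j, (G.sc' j (j + 1) (j + 1 + 1)).Exact := fun j =>
    (G.exactAt_iff' j (j + 1) (j + 1 + 1) (by simp) (by simp)).1 (hG (j + 1))
  have hπ : ∀ j, Epi (kernel.lift (G.d (j + 1) (j + 1 + 1)) (G.d j (j + 1))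
      (G.d_comp_d _ _ _)) :=
    fun j => (ShortComplex.exact_iff_epi_kernel_lift _).1 (hex j)
  have he : ∀ j, Nonempty (kernel (kernel.lift (G.d (j + 1) (j + 1 + 1)) (G.d j (j + 1))
      (G.d_comp_d _ _ _)) ≅ kernel (G.d j (j + 1))) := fun j =>
    ⟨(kernelCompMono _ (kernel.ι (G.d (j + 1) (j + 1 + 1)))).symm ≪≫
      kernelIsoOfEq (kernel.lift_ι _ _ _)⟩
  have hstep : ∀ j, P (G.X j) → P (kernel (G.d (j + 1) (j + 1 + 1))) →
      P (kernel (G.d j (j + 1))) := by
    intro j h1 h2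
    obtain ⟨e⟩ := he j
    exact P.prop_of_iso e (hst _ _ _ (hπ j) h1 h2)
  have htop : ∀ j, b ≤ j → j ≠ m + 1 → P (kernel (G.d j (j + 1))) := by
    intro j hj hjm
    have h0 : G.d j (j + 1) = 0 := (hhigh (j + 1) (by omega)).eq_of_tgt _ _
    exact P.prop_of_iso (kernelIsoOfEq h0 ≪≫ kernelZeroIsoSource).symm (hP j hjm)
  have hK : ∀ (k : ℕ) (j : ℤ), m + 1 + 1 ≤ j → b ≤ j + k → P (kernel (G.d j (j + 1))) := by
    intro k
    induction k with
    | zero =>
      intro j hj hb
      exact htop j (by omega) (by omega)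
    | succ k ih =>
      intro j hj hb
      by_cases hbj : b ≤ j
      · exact htop j hbj (by omega)
      · exact hstep j (hP j (by omega)) (ih (j + 1) (by omega) (by push_cast at hb; omega))
  have hKa1 : P (kernel (G.d (m + 1 + 1) (m + 1 + 1 + 1))) := by
    have := Int.self_le_toNat (b - m)
    exact hK (b - m).toNat (m + 1 + 1) le_rfl (by omega)
  -- `K_{m+1} ≅ G^m`
  have hKa : P (kernel (G.d (m + 1) (m + 1 + 1))) := by
    have hex' : (G.sc' (m - 1) m (m + 1)).Exact :=
      (G.exactAt_iff' (m - 1) m (m + 1) (by simp) (by simp)).1 (hG m)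
    have hmono : Mono (G.d m (m + 1)) :=
      hex'.mono_g ((hlow (m - 1) (by omega)).eq_of_src _ _)
    have hfac : kernel.lift (G.d (m + 1) (m + 1 + 1)) (G.d m (m + 1)) (G.d_comp_d _ _ _) ≫
        kernel.ι _ = G.d m (m + 1) := kernel.lift_ι _ _ _
    haveI : Mono (kernel.lift (G.d (m + 1) (m + 1 + 1)) (G.d m (m + 1)) (G.d_comp_d _ _ _)) :=
      mono_of_mono_fac hfac
    haveI := hπ m
    haveI : IsIso (kernel.lift (G.d (m + 1) (m + 1 + 1)) (G.d m (m + 1)) (G.d_comp_d _ _ _)) :=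
      isIso_of_mono_of_epi _
    exact P.prop_of_iso (asIso (kernel.lift (G.d (m + 1) (m + 1 + 1)) (G.d m (m + 1))
      (G.d_comp_d _ _ _))) (hP m (by omega))
  -- the split short exact sequence `0 → K_{m+1} → G^{m+1} → K_{m+2} → 0`
  let π := kernel.lift (G.d (m + 1 + 1) (m + 1 + 1 + 1)) (G.d (m + 1) (m + 1 + 1))
    (G.d_comp_d _ _ _)
  haveI hπe : Epi π := hπ (m + 1)
  haveI : IsSplitEpi π := hlift _ _ π hπe hKa1
  have hS : (ShortComplex.mk (kernel.ι π) π (kernel.condition π)).Exact :=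
    ShortComplex.exact_kernel π
  let spl := ShortComplex.Splitting.ofExactOfSection _ hS (section_ π) (IsSplitEpi.id π)
    (inferInstance : Mono (kernel.ι π))
  have e2 : G.X (m + 1) ≅ kernel π ⊞ kernel (G.d (m + 1 + 1) (m + 1 + 1 + 1)) :=
    spl.isoBinaryBiproduct
  obtain ⟨e1⟩ := he (m + 1)
  have hkπ : P (kernel π) := P.prop_of_iso e1.symm hKa
  exact P.prop_of_iso (e2 ≪≫ biprod.isoProd _ _).symm (hsum _ _ hkπ hKa1)

variable [HasDerivedCategory.{w} C]

/-- `S5621`: the bottom term of a complex of perfect amplitude `[a, b]` concentrated in `[a, b]`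
whose other terms are in `C₀` lies in `C₀`. -/
theorem bottom_term (P : ObjectProperty C) [P.IsClosedUnderIsomorphisms] [P.ContainsZero]
    (hsum : ∀ X Y : C, P X → P Y → P (X ⨯ Y))
    (hlift : ∀ (E F : C) (u : E ⟶ F), Epi u → P F → IsSplitEpi u)
    (hst : ∀ (E F : C) (u : E ⟶ F), Epi u → P E → P F → P (kernel u))
    (a b : ℤ) (F : CochainComplex C ℤ)
    (hvan : ∀ i : ℤ, i < a ∨ b < i → IsZero (F.X i)) (hP : ∀ i : ℤ, a < i → P (F.X i))
    (hamp : ∃ E : CochainComplex C ℤ, (∀ i : ℤ, P (E.X i)) ∧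
      (∀ i : ℤ, i < a ∨ b < i → IsZero (E.X i)) ∧
      Nonempty (DerivedCategory.Q.obj E ≅ DerivedCategory.Q.obj F)) :
    P (F.X a) := by
  obtain ⟨m, rfl⟩ : ∃ m, a = m + 1 := ⟨a - 1, by omega⟩
  obtain ⟨E, hPE, hvE, ⟨e⟩⟩ := hamp
  haveI : E.IsStrictlyLE b := by
    rw [CochainComplex.isStrictlyLE_iff]
    intro i hi
    exact hvE i (Or.inr hi)
  haveI : ∀ n, Projective (E.X n) := fun n =>
    projective_of_splits _ (fun E' u hu => hlift E' _ u hu (hPE n))
  haveI : E.IsKProjective := CochainComplex.isKProjective_of_projective E b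
  obtain ⟨φ, hφ⟩ := exists_Q_map_eq e.hom
  let T' := DerivedCategory.Q.mapTriangle.obj (CochainComplex.mappingCone.triangle φ)
  have hT' : T' ∈ distTriang (DerivedCategory C) := by
    rw [DerivedCategory.mem_distTriang_iff]
    exact ⟨_, _, φ, ⟨Iso.refl _⟩⟩
  have hiso : IsIso T'.mor₁ := by
    show IsIso (DerivedCategory.Q.map φ)
    rw [hφ]
    infer_instance
  have hz : IsZero (DerivedCategory.Q.obj (CochainComplex.mappingCone φ)) :=
    (Pretriangulated.Triangle.isZero₃_iff_isIso₁ T' hT').2 hiso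
  have hG : ∀ i, (CochainComplex.mappingCone φ).ExactAt i := by
    intro i
    rw [HomologicalComplex.exactAt_iff_isZero_homology]
    refine IsZero.of_iso ?_ ((DerivedCategory.homologyFunctorFactors C i).app
      (CochainComplex.mappingCone φ)).symm
    exact Functor.map_isZero (DerivedCategory.homologyFunctor C i) hz
  have hX : ∀ i, P (E.X (i + 1)) → P (F.X i) → P ((CochainComplex.mappingCone φ).X i) := by
    intro i h1 h2
    exact P.prop_of_iso ((HomologicalComplex.homotopyCofiber.XIsoBiprod φ i (i + 1) rfl) ≪≫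
      biprod.isoProd _ _).symm (hsum _ _ h1 h2)
  have hPG : P ((CochainComplex.mappingCone φ).X (m + 1)) := by
    refine prop_of_acyclic P hsum hlift hst (CochainComplex.mappingCone φ) hG m b ?_ ?_ ?_
    · intro i hi
      rw [CochainComplex.mappingCone.isZero_X_iff]
      exact ⟨hvE _ (Or.inl (by omega)), hvan _ (Or.inl (by omega))⟩
    · intro i hi
      rw [CochainComplex.mappingCone.isZero_X_iff]
      exact ⟨hvE _ (Or.inr (by omega)), hvan _ (Or.inr (by omega))⟩
    · intro i hi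
      refine hX i (hPE _) ?_
      by_cases h : m + 1 < i
      · exact hP i h
      · exact P.prop_of_isZero (hvan i (Or.inl (by omega)))
  -- extract `F^{m+1}` from `E^{m+2} ⊞ F^{m+1}`
  have e3 : (CochainComplex.mappingCone φ).X (m + 1) ≅ E.X (m + 1 + 1) ⊞ F.X (m + 1) :=
    HomologicalComplex.homotopyCofiber.XIsoBiprod φ (m + 1) (m + 1 + 1) rfl
  have hb : P (E.X (m + 1 + 1) ⊞ F.X (m + 1)) := P.prop_of_iso e3 hPG
  have hk := hst _ _ (biprod.fst : E.X (m + 1 + 1) ⊞ F.X (m + 1) ⟶ E.X (m + 1 + 1))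
    inferInstance hb (hPE _)
  exact P.prop_of_iso (kernelBiprodFstIso (X := E.X (m + 1 + 1)) (Y := F.X (m + 1))) hk

end Groth.Agent.H23.PerfCone
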