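import Mathlib

/-!
# Strictly perfect complexes relative to a subcategory stable under kernels of epimorphisms:
truncation (helper23)
-/

set_option autoImplicit false
universe w v u
open CategoryTheory CategoryTheory.Limits

namespace Groth.Agent.H23.PerfCone

variable {C : Type u} [Category.{v} C] [Abelian C] [HasDerivedCategory.{w} C]

theorem trunc_perfect (P : ObjectProperty C) [P.IsClosedUnderIsomorphisms] [P.ContainsZero]
    (hst : ∀ (E F : C) (u : E ⟶ F), Epi u → P E → P F → P (kernel u))
    (a b : ℤ) (hab : a ≤ b) :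
    ∀ (k : ℕ) (c : ℤ) (F : CochainComplex C ℤ), a ≤ c → c - b ≤ k →
      (∀ i, P (F.X i)) → (∀ i, i < a ∨ c < i → IsZero (F.X i)) →
      (∀ i, b < i → IsZero (F.homology i)) →
      ∃ F' : CochainComplex C ℤ, (∀ i, P (F'.X i)) ∧
        (∀ i, i < a ∨ min b c < i → IsZero (F'.X i)) ∧
        Nonempty (DerivedCategory.Q.obj F' ≅ DerivedCategory.Q.obj F) := by
  have base : ∀ (c : ℤ) (F : CochainComplex C ℤ), c ≤ b →
      (∀ i, P (F.X i)) → (∀ i, i < a ∨ c < i → IsZero (F.X i)) →
      ∃ F' : CochainComplex C ℤ, (∀ i, P (F'.X i)) ∧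
        (∀ i, i < a ∨ min b c < i → IsZero (F'.X i)) ∧
        Nonempty (DerivedCategory.Q.obj F' ≅ DerivedCategory.Q.obj F) := by
    intro c F hcb hP hvan
    refine ⟨F, hP, fun i hi => hvan i ?_, ⟨Iso.refl _⟩⟩
    rcases hi with hi | hi
    · exact Or.inl hi
    · right
      rw [min_eq_right hcb] at hi
      exact hi
  intro k
  induction k with
  | zero =>
    intro c F hac hk hP hvan hcoh
    exact base c F (by omega) hP hvan
  | succ k ih =>
    intro c F hac hk hP hvan hcoh
    by_cases hcb : c ≤ b
    · exact base c F hcb hP hvan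
    · push_neg at hcb
      haveI : F.IsLE (c - 1) := by
        rw [CochainComplex.isLE_iff]
        intro i hi
        rw [HomologicalComplex.exactAt_iff_isZero_homology]
        exact hcoh i (by omega)
      have hepi : Epi (F.d (c - 1) c) := by
        have hex : F.ExactAt c := by
          rw [HomologicalComplex.exactAt_iff_isZero_homology]
          exact hcoh c hcb
        rw [F.exactAt_iff' (c - 1) c (c + 1) (by simp) (by simp)] at hex
        exact hex.epi_f ((hvan (c + 1) (Or.inr (by omega))).eq_of_tgt _ _)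
      have hqi : QuasiIso (F.ιTruncLE (c - 1)) := inferInstance
      have hP₁ : ∀ i, P ((F.truncLE (c - 1)).X i) := by
        intro j
        rcases lt_trichotomy j (c - 1) with h | h | h
        · exact P.prop_of_iso (F.truncLEXIso (c - 1) j h).symm (hP j)
        · subst h
          have hk := hst _ _ (F.d (c - 1) c) hepi (hP _) (hP _)
          have e : F.cycles (c - 1) ≅ kernel (F.d (c - 1) c) :=
            (F.cyclesIsKernel (c - 1) c (by simp)).conePointUniqueUpToIso (limit.isLimit _)
          exact P.prop_of_iso ((F.truncLEXIsoCycles (c - 1)) ≪≫ e).symm hk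
        · exact P.prop_of_isZero ((F.truncLE (c - 1)).isZero_of_isStrictlyLE (c - 1) j h)
      have hvan₁ : ∀ i, i < a ∨ c - 1 < i → IsZero ((F.truncLE (c - 1)).X i) := by
        intro i hi
        rcases hi with hi | hi
        · exact IsZero.of_iso (hvan i (Or.inl hi)) (F.truncLEXIso (c - 1) i (by omega))
        · exact (F.truncLE (c - 1)).isZero_of_isStrictlyLE (c - 1) i hi
      have hcoh₁ : ∀ i, b < i → IsZero ((F.truncLE (c - 1)).homology i) := by
        intro i hi
        exact IsZero.of_iso (hcoh i hi)
          (asIso (HomologicalComplex.homologyMap (F.ιTruncLE (c - 1)) i))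
      obtain ⟨F', hP', hvan', ⟨e'⟩⟩ := ih (c - 1) (F.truncLE (c - 1)) (by omega) (by omega)
        hP₁ hvan₁ hcoh₁
      haveI : IsIso (DerivedCategory.Q.map (F.ιTruncLE (c - 1))) := by
        rw [DerivedCategory.isIso_Q_map_iff_quasiIso]
        exact hqi
      refine ⟨F', hP', fun i hi => hvan' i ?_,
        ⟨e' ≪≫ asIso (DerivedCategory.Q.map (F.ιTruncLE (c - 1)))⟩⟩
      rw [min_eq_left (by omega)] at hi ⊢
      exact hi

end Groth.Agent.H23.PerfCone
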