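import Groth.Agent.H23.PerfAcyclic
import Groth.Agent.H23.PerfTrunc

/-!
# A calculus of "perfect amplitude in `[a, b]` relative to `C₀`" in the derived category
of an abelian category (helper23)
-/

set_option autoImplicit false
universe w v u
open CategoryTheory CategoryTheory.Limits

namespace Groth.Agent.H23.PerfCone

variable {C : Type u} [Category.{v} C] [Abelian C] [HasDerivedCategory.{w} C]

/-- `X` is isomorphic in `D(C)` to a complex with terms in `P` vanishing outside `[a, b]`. -/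
def Amp (P : ObjectProperty C) (a b : ℤ) (X : DerivedCategory C) : Prop :=
  ∃ E : CochainComplex C ℤ, (∀ i : ℤ, P (E.X i)) ∧ (∀ i : ℤ, i < a ∨ b < i → IsZero (E.X i)) ∧
    Nonempty (DerivedCategory.Q.obj E ≅ X)

lemma isZero_of_retract {D : Type*} [Category D] [HasZeroMorphisms D] {A B : D} (i : A ⟶ B)
    (r : B ⟶ A) (h : i ≫ r = 𝟙 A) (hB : IsZero B) : IsZero A := by
  rw [IsZero.iff_id_eq_zero, ← h, hB.eq_of_tgt i 0, zero_comp]

/-- An additive functor commutes with binary biproducts. -/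
noncomputable def mapBiprodIso {D D' : Type*} [Category D] [Category D'] [Preadditive D]
    [Preadditive D'] (F : D ⥤ D') [F.Additive] (X Y : D) [HasBinaryBiproduct X Y]
    [HasBinaryBiproduct (F.obj X) (F.obj Y)] : F.obj (X ⊞ Y) ≅ F.obj X ⊞ F.obj Y where
  hom := biprod.lift (F.map biprod.fst) (F.map biprod.snd)
  inv := biprod.desc (F.map biprod.inl) (F.map biprod.inr)
  hom_inv_id := by
    rw [biprod.lift_desc, ← F.map_comp, ← F.map_comp, ← F.map_add, biprod.total, F.map_id]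
  inv_hom_id := by
    apply biprod.hom_ext' <;> apply biprod.hom_ext <;>
      simp only [Category.assoc, biprod.inl_desc_assoc, biprod.inr_desc_assoc, biprod.lift_fst,
        biprod.lift_snd, Category.comp_id, Category.id_comp, ← F.map_comp, biprod.inl_fst,
        biprod.inl_snd, biprod.inr_fst, biprod.inr_snd, F.map_id, F.map_zero]

namespace Amp

variable {P : ObjectProperty C} {a b : ℤ} {X Y : DerivedCategory C}

lemma of_iso (h : Amp P a b X) (e : X ≅ Y) : Amp P a b Y := by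
  obtain ⟨E, h1, h2, ⟨e'⟩⟩ := h
  exact ⟨E, h1, h2, ⟨e' ≪≫ e⟩⟩

lemma mono {a' b' : ℤ} (h : Amp P a b X) (ha : a' ≤ a) (hb : b ≤ b') : Amp P a' b' X := by
  obtain ⟨E, h1, h2, he⟩ := h
  exact ⟨E, h1, fun i hi => h2 i (by omega), he⟩

lemma isZero_homology (h : Amp P a b X) (i : ℤ) (hi : i < a ∨ b < i) :
    IsZero ((DerivedCategory.homologyFunctor C i).obj X) := by
  obtain ⟨E, h1, h2, ⟨e⟩⟩ := h
  refine IsZero.of_iso ?_ ((DerivedCategory.homologyFunctor C i).mapIso e.symm ≪≫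
    (DerivedCategory.homologyFunctorFactors C i).app E)
  show IsZero (E.homology i)
  rw [← HomologicalComplex.exactAt_iff_isZero_homology]
  exact ShortComplex.exact_of_isZero_X₂ _ (h2 i hi)

lemma shift (h : Amp P a b X) (n : ℤ) {a' b' : ℤ} (ha : a' + n = a) (hb : b' + n = b) :
    Amp P a' b' (X⟦n⟧) := by
  obtain ⟨E, h1, h2, ⟨e⟩⟩ := h
  refine ⟨E⟦n⟧, fun i => ?_, fun i hi => ?_,
    ⟨(DerivedCategory.Q.commShiftIso n).app E ≪≫ (shiftFunctor _ n).mapIso e⟩⟩
  · show P (E.X (i + n))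
    exact h1 (i + n)
  · show IsZero (E.X (i + n))
    exact h2 (i + n) (by omega)

lemma single' (P : ObjectProperty C) [P.IsClosedUnderIsomorphisms] [P.ContainsZero] (M : C)
    (hM : P M) (n : ℤ) :
    Amp P n n (DerivedCategory.Q.obj ((CochainComplex.singleFunctor C n).obj M)) := by
  refine ⟨(CochainComplex.singleFunctor C n).obj M, fun i => ?_, fun i hi => ?_, ⟨Iso.refl _⟩⟩
  · by_cases h : i = n
    · subst h
      exact P.prop_of_iso (HomologicalComplex.singleObjXSelf (ComplexShape.up ℤ) i M).symm hM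
    · exact P.prop_of_isZero
        (HomologicalComplex.isZero_single_obj_X (ComplexShape.up ℤ) n M i h)
  · exact HomologicalComplex.isZero_single_obj_X (ComplexShape.up ℤ) n M i (by omega)

lemma single (P : ObjectProperty C) [P.IsClosedUnderIsomorphisms] [P.ContainsZero] (M : C)
    (hM : P M) (n : ℤ) : Amp P n n ((DerivedCategory.singleFunctor C n).obj M) :=
  (single' P M hM n).of_iso ((DerivedCategory.singleFunctorIsoCompQ C n).app M).symm

lemma biprod (P : ObjectProperty C) [P.IsClosedUnderIsomorphisms]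
    (hsum : ∀ X Y : C, P X → P Y → P (X ⨯ Y)) [HasBinaryBiproduct X Y]
    (hX : Amp P a b X) (hY : Amp P a b Y) : Amp P a b (X ⊞ Y) := by
  obtain ⟨E, h1, h2, ⟨e⟩⟩ := hX
  obtain ⟨E', h1', h2', ⟨e'⟩⟩ := hY
  refine ⟨E ⊞ E', fun i => ?_, fun i hi => ?_,
    ⟨mapBiprodIso DerivedCategory.Q E E' ≪≫ biprod.mapIso e e'⟩⟩
  · exact P.prop_of_iso (HomologicalComplex.biprodXIso E E' i ≪≫ biprod.isoProd _ _).symm
      (hsum _ _ (h1 i) (h1' i))
  · refine IsZero.of_iso ?_ (HomologicalComplex.biprodXIso E E' i)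
    rw [biprod_isZero_iff]
    exact ⟨h2 i hi, h2' i hi⟩

theorem cone (P : ObjectProperty C) [P.IsClosedUnderIsomorphisms]
    (hsum : ∀ X Y : C, P X → P Y → P (X ⨯ Y))
    (hlift : ∀ (E F : C) (u : E ⟶ F), Epi u → P F → IsSplitEpi u)
    (T : Pretriangulated.Triangle (DerivedCategory C)) (hT : T ∈ distTriang (DerivedCategory C))
    {a₁ b₁ a₂ b₂ : ℤ} (h₁ : Amp P a₁ b₁ T.obj₁) (h₂ : Amp P a₂ b₂ T.obj₂)
    (ha₁ : a + 1 ≤ a₁) (ha₂ : a ≤ a₂) (hb₁ : b₁ ≤ b + 1) (hb₂ : b₂ ≤ b) : Amp P a b T.obj₃ := by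
  obtain ⟨E₁, hP₁, hv₁, ⟨e₁⟩⟩ := h₁
  obtain ⟨E₂, hP₂, hv₂, ⟨e₂⟩⟩ := h₂
  haveI : E₁.IsStrictlyLE b₁ := by
    rw [CochainComplex.isStrictlyLE_iff]
    intro i hi
    exact hv₁ i (Or.inr hi)
  haveI : ∀ n, Projective (E₁.X n) := fun n =>
    projective_of_splits _ (fun E u hu => hlift E _ u hu (hP₁ n))
  haveI : E₁.IsKProjective := CochainComplex.isKProjective_of_projective E₁ b₁
  obtain ⟨φ, hφ⟩ := exists_Q_map_eq (e₁.hom ≫ T.mor₁ ≫ e₂.inv)
  let T' := DerivedCategory.Q.mapTriangle.obj (CochainComplex.mappingCone.triangle φ)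
  have hT' : T' ∈ distTriang (DerivedCategory C) := by
    rw [DerivedCategory.mem_distTriang_iff]
    exact ⟨_, _, φ, ⟨Iso.refl _⟩⟩
  have comm : T'.mor₁ ≫ e₂.hom = e₁.hom ≫ T.mor₁ := by
    show DerivedCategory.Q.map φ ≫ e₂.hom = _
    rw [hφ, Category.assoc, Category.assoc, Iso.inv_hom_id, Category.comp_id]
  let eT := Pretriangulated.isoTriangleOfIso₁₂ T' T hT' hT e₁ e₂ comm
  have e₃ : DerivedCategory.Q.obj (CochainComplex.mappingCone φ) ≅ T.obj₃ :=
    Pretriangulated.Triangle.π₃.mapIso eT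
  refine ⟨CochainComplex.mappingCone φ, fun i => ?_, fun i hi => ?_, ⟨e₃⟩⟩
  · exact P.prop_of_iso ((HomologicalComplex.homotopyCofiber.XIsoBiprod φ i (i + 1) rfl) ≪≫
      biprod.isoProd _ _).symm (hsum _ _ (hP₁ (i + 1)) (hP₂ i))
  · rw [CochainComplex.mappingCone.isZero_X_iff]
    exact ⟨hv₁ _ (by omega), hv₂ _ (by omega)⟩

lemma trunc (P : ObjectProperty C) [P.IsClosedUnderIsomorphisms] [P.ContainsZero]
    (hst : ∀ (E F : C) (u : E ⟶ F), Epi u → P E → P F → P (kernel u)) {c : ℤ}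
    (h : Amp P a c X) (hab : a ≤ b) (hac : a ≤ c)
    (hcoh : ∀ i, b < i → IsZero ((DerivedCategory.homologyFunctor C i).obj X)) :
    Amp P a (min b c) X := by
  obtain ⟨E, h1, h2, ⟨e⟩⟩ := h
  have hcohE : ∀ i, b < i → IsZero (E.homology i) := fun i hi =>
    IsZero.of_iso (hcoh i hi) (((DerivedCategory.homologyFunctorFactors C i).app E).symm ≪≫
      (DerivedCategory.homologyFunctor C i).mapIso e)
  obtain ⟨F', hP', hv', ⟨e'⟩⟩ := trunc_perfect P hst a b hab (c - b).toNat c E hac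
    (Int.self_le_toNat _) h1 h2 hcohE
  exact ⟨F', hP', hv', ⟨e' ≪≫ e⟩⟩

end Amp

lemma isZero_homology_obj₃ (T : Pretriangulated.Triangle (DerivedCategory C))
    (hT : T ∈ distTriang (DerivedCategory C)) (i : ℤ)
    (h1 : (DerivedCategory.homologyFunctor C i).map T.mor₂ = 0)
    (h2 : IsZero ((DerivedCategory.homologyFunctor C (i + 1)).obj T.obj₁)) :
    IsZero ((DerivedCategory.homologyFunctor C i).obj T.obj₃) :=
  (DerivedCategory.HomologySequence.exact₃ T hT i (i + 1) rfl).isZero_of_both_zeros h1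
    (h2.eq_of_tgt _ _)

end Groth.Agent.H23.PerfCone
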