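import Groth.Agent.H23.PerfCalc

/-!
# Retracts of objects of perfect amplitude `[a, b]` (helper23)
-/

set_option autoImplicit false
universe w v u
open CategoryTheory CategoryTheory.Limits

namespace Groth.Agent.H23.PerfCone

variable {C : Type u} [Category.{v} C] [Abelian C]

lemma prop_of_retract_obj (P : ObjectProperty C) [P.IsClosedUnderIsomorphisms]
    (hfac : ∀ (E' E'' : C) [HasBinaryBiproduct E' E''], P (E' ⊞ E'') → P E' ∧ P E'')
    {N Y : C} (i₀ : N ⟶ Y) (r₀ : Y ⟶ N) (h : i₀ ≫ r₀ = 𝟙 N) (hY : P Y) : P N := by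
  have hS : (ShortComplex.mk (kernel.ι r₀) r₀ (kernel.condition r₀)).Exact :=
    ShortComplex.exact_kernel r₀
  let spl := ShortComplex.Splitting.ofExactOfSection _ hS i₀ h
    (inferInstance : Mono (kernel.ι r₀))
  have e : Y ≅ kernel r₀ ⊞ N := spl.isoBinaryBiproduct
  exact (hfac _ _ (P.prop_of_iso e hY)).2

lemma epi_of_comp_iso_eq {D : Type*} [Category D] {A B B' A' : D} (f : A ⟶ B) (u : B ⟶ B')
    [IsIso u] (v : A ⟶ A') [IsIso v] (g : A' ⟶ B') (hg : Epi g) (h : f ≫ u = v ≫ g) : Epi f := by
  have h' : f = (v ≫ g) ≫ inv u := by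
    rw [← h, Category.assoc, IsIso.hom_inv_id, Category.comp_id]
  rw [h']
  infer_instance

lemma exists_top_map (E : CochainComplex C ℤ) (b : ℤ) (hE : IsZero (E.X (b + 1))) :
    ∃ ι : (CochainComplex.singleFunctor C b).obj (E.X b) ⟶ E,
      Epi (HomologicalComplex.homologyMap ι b) := by
  let ι : (CochainComplex.singleFunctor C b).obj (E.X b) ⟶ E :=
    HomologicalComplex.mkHomFromSingle (𝟙 (E.X b)) (by
      intro k hk
      obtain rfl : k = b + 1 := by simpa using hk.symm
      exact hE.eq_of_tgt _ _)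
  refine ⟨ι, ?_⟩
  have hd : E.d b (b + 1) = 0 := hE.eq_of_tgt _ _
  haveI : IsIso (E.iCycles b) := HomologicalComplex.isIso_iCycles E b (b + 1) (by simp) hd
  haveI : IsIso (((CochainComplex.singleFunctor C b).obj (E.X b)).iCycles b) :=
    HomologicalComplex.isIso_iCycles _ b _ rfl rfl
  have hι : ι.f b = (HomologicalComplex.singleObjXSelf (ComplexShape.up ℤ) b (E.X b)).hom ≫
      𝟙 _ := HomologicalComplex.mkHomFromSingle_f _ _
  haveI : IsIso (ι.f b) := by
    rw [hι, Category.comp_id]
    infer_instance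
  have hc : HomologicalComplex.cyclesMap ι b ≫ E.iCycles b =
      ((CochainComplex.singleFunctor C b).obj (E.X b)).iCycles b ≫ ι.f b :=
    HomologicalComplex.cyclesMap_i ι b
  haveI : IsIso (HomologicalComplex.cyclesMap ι b) := by
    have h : HomologicalComplex.cyclesMap ι b =
        (((CochainComplex.singleFunctor C b).obj (E.X b)).iCycles b ≫ ι.f b) ≫
          inv (E.iCycles b) := by
      rw [← hc, Category.assoc, IsIso.hom_inv_id, Category.comp_id]
    rw [h]
    infer_instance
  haveI : Epi (((CochainComplex.singleFunctor C b).obj (E.X b)).homologyπ b ≫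
      HomologicalComplex.homologyMap ι b) := by
    rw [HomologicalComplex.homologyπ_naturality]
    infer_instance
  exact epi_of_epi (((CochainComplex.singleFunctor C b).obj (E.X b)).homologyπ b) _

variable [HasDerivedCategory.{w} C]

theorem Amp.of_retract (P : ObjectProperty C) [P.IsClosedUnderIsomorphisms] [P.ContainsZero]
    (hsum : ∀ X Y : C, P X → P Y → P (X ⨯ Y))
    (hlift : ∀ (E F : C) (u : E ⟶ F), Epi u → P F → IsSplitEpi u)
    (hst : ∀ (E F : C) (u : E ⟶ F), Epi u → P E → P F → P (kernel u))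
    (hfac : ∀ (E' E'' : C) [HasBinaryBiproduct E' E''], P (E' ⊞ E'') → P E' ∧ P E'') :
    ∀ (n : ℕ) (a b : ℤ), a ≤ b → b - a ≤ n → ∀ (F X : DerivedCategory C) (i : F ⟶ X)
      (r : X ⟶ F), i ≫ r = 𝟙 F → Amp P a b X → Amp P a b F := by
  intro n
  induction n with
  | zero =>
    intro a b hab hn F X i r hir hX
    obtain rfl : b = a := by omega
    have hH : ∀ j, j ≠ b → IsZero ((DerivedCategory.homologyFunctor C j).obj F) := by
      intro j hj
      refine isZero_of_retract ((DerivedCategory.homologyFunctor C j).map i)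
        ((DerivedCategory.homologyFunctor C j).map r) ?_ (hX.isZero_homology j (by omega))
      rw [← CategoryTheory.Functor.map_comp, hir, CategoryTheory.Functor.map_id]
    haveI : F.IsGE b := (DerivedCategory.isGE_iff F b).2 (fun j hj => hH j (by omega))
    haveI : F.IsLE b := (DerivedCategory.isLE_iff F b).2 (fun j hj => hH j (by omega))
    obtain ⟨N, ⟨eN⟩⟩ := DerivedCategory.exists_iso_singleFunctor_obj_of_isGE_of_isLE F b
    obtain ⟨E, hPE, hvE, ⟨e⟩⟩ := hX
    haveI : E.IsStrictlyGE b := by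
      rw [CochainComplex.isStrictlyGE_iff]
      intro j hj
      exact hvE j (Or.inl hj)
    haveI : E.IsStrictlyLE b := by
      rw [CochainComplex.isStrictlyLE_iff]
      intro j hj
      exact hvE j (Or.inr hj)
    obtain ⟨Y, ⟨eY⟩⟩ := CochainComplex.exists_iso_single E b
    have hY : P Y := P.prop_of_iso ((HomologicalComplex.eval C _ b).mapIso eY ≪≫
      HomologicalComplex.singleObjXSelf (ComplexShape.up ℤ) b Y) (hPE b)
    let ψ : N ≅ (DerivedCategory.homologyFunctor C b).obj F :=
      ((DerivedCategory.singleFunctorCompHomologyFunctorIso C b).app N).symm ≪≫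
        (DerivedCategory.homologyFunctor C b).mapIso eN.symm
    let φ : (DerivedCategory.homologyFunctor C b).obj X ≅ Y :=
      (DerivedCategory.homologyFunctor C b).mapIso e.symm ≪≫
        (DerivedCategory.homologyFunctorFactors C b).app E ≪≫
        (HomologicalComplex.homologyFunctor C _ b).mapIso eY ≪≫
        HomologicalComplex.singleObjHomologySelfIso (ComplexShape.up ℤ) b Y
    have hN : P N := prop_of_retract_obj P hfac
      (ψ.hom ≫ (DerivedCategory.homologyFunctor C b).map i ≫ φ.hom)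
      (φ.inv ≫ (DerivedCategory.homologyFunctor C b).map r ≫ ψ.inv) (by
        simp only [Category.assoc, Iso.hom_inv_id_assoc]
        rw [← CategoryTheory.Functor.map_comp_assoc, hir, CategoryTheory.Functor.map_id,
          Category.id_comp, Iso.hom_inv_id]) hY
    exact (Amp.single P N hN b).of_iso eN.symm
  | succ n ih =>
    intro a b hab hn F X i r hir hX
    by_cases hlt : b - a ≤ n
    · exact ih a b hab hlt F X i r hir hX
    have hab' : a < b := by omega
    obtain ⟨E, hPE, hvE, ⟨e⟩⟩ := id hX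
    obtain ⟨ι, hι⟩ := exists_top_map E b (hvE (b + 1) (Or.inr (by omega)))
    let S' := DerivedCategory.Q.obj ((CochainComplex.singleFunctor C b).obj (E.X b))
    have hS' : Amp P b b S' := Amp.single' P (E.X b) (hPE b) b
    obtain ⟨j₀, hj₀def⟩ : ∃ j₀ : S' ⟶ X, j₀ = DerivedCategory.Q.map ι ≫ e.hom := ⟨_, rfl⟩
    have hj₀ : Epi ((DerivedCategory.homologyFunctor C b).map j₀) := by
      have hQι : Epi ((DerivedCategory.homologyFunctor C b).map (DerivedCategory.Q.map ι)) :=
        epi_of_comp_iso_eq _ ((DerivedCategory.homologyFunctorFactors C b).hom.app E)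
          ((DerivedCategory.homologyFunctorFactors C b).hom.app _)
          (HomologicalComplex.homologyMap ι b) hι
          (DerivedCategory.homologyFunctorFactors_hom_naturality ι b)
      rw [hj₀def, CategoryTheory.Functor.map_comp]
      exact epi_comp' hQι inferInstance
    have hW : Amp P b b (S' ⊞ S') := Amp.biprod P hsum hS' hS'
    let y : S' ⊞ S' ⟶ X := biprod.desc (j₀ ≫ r ≫ i) (j₀ ≫ (𝟙 X - r ≫ i))
    let x : S' ⟶ F := j₀ ≫ r
    obtain ⟨Z, g, h, hT⟩ := Pretriangulated.distinguished_cocone_triangle y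
    obtain ⟨F₁, g', h', hT'⟩ := Pretriangulated.distinguished_cocone_triangle x
    have hZ0 : Amp P a b Z :=
      Amp.cone P hsum hlift _ hT hW hX (by omega) le_rfl (by omega) le_rfl
    have hy : Epi ((DerivedCategory.homologyFunctor C b).map y) := by
      have hfac' : biprod.lift (𝟙 S') (𝟙 S') ≫ y = j₀ := by
        show biprod.lift (𝟙 S') (𝟙 S') ≫ biprod.desc (j₀ ≫ r ≫ i) (j₀ ≫ (𝟙 X - r ≫ i)) = j₀
        rw [biprod.lift_desc, Category.id_comp, Category.id_comp, ← Preadditive.comp_add,
          add_sub_cancel, Category.comp_id]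
      have : Epi ((DerivedCategory.homologyFunctor C b).map (biprod.lift (𝟙 S') (𝟙 S')) ≫
          (DerivedCategory.homologyFunctor C b).map y) := by
        rw [← CategoryTheory.Functor.map_comp, hfac']
        exact hj₀
      exact epi_of_epi ((DerivedCategory.homologyFunctor C b).map (biprod.lift (𝟙 S') (𝟙 S'))) _
    have hZb : ∀ j, b - 1 < j → IsZero ((DerivedCategory.homologyFunctor C j).obj Z) := by
      intro j hj
      refine isZero_homology_obj₃ _ hT j ?_ (hW.isZero_homology (j + 1) (Or.inr (by omega)))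
      by_cases hjb : j = b
      · rw [hjb]
        exact (DerivedCategory.HomologySequence.epi_homologyMap_mor₁_iff _ hT b).1 hy
      · exact (hX.isZero_homology j (Or.inr (by omega))).eq_of_src _ _
    have hZ : Amp P a (b - 1) Z := by
      have h0 := Amp.trunc P hst hZ0 (b := b - 1) (by omega) hab hZb
      rwa [min_eq_left (by omega)] at h0
    have hrp : r ≫ i ≫ r = r := by rw [hir, Category.comp_id]
    have comm₁ : x ≫ i = biprod.inl ≫ y := by
      show (j₀ ≫ r) ≫ i = biprod.inl ≫ biprod.desc (j₀ ≫ r ≫ i) (j₀ ≫ (𝟙 X - r ≫ i))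
      rw [biprod.inl_desc, Category.assoc]
    obtain ⟨α, hα₁', hα₂'⟩ : ∃ α : F₁ ⟶ Z, g' ≫ α = i ≫ g ∧
        h' ≫ (biprod.inl : S' ⟶ S' ⊞ S')⟦(1 : ℤ)⟧' = α ≫ h :=
      Pretriangulated.complete_distinguished_triangle_morphism _ _ hT' hT biprod.inl i comm₁
    have comm₂ : y ≫ r = biprod.fst ≫ x := by
      show biprod.desc (j₀ ≫ r ≫ i) (j₀ ≫ (𝟙 X - r ≫ i)) ≫ r = biprod.fst ≫ j₀ ≫ r
      apply biprod.hom_ext'
      · rw [biprod.inl_desc_assoc, biprod.inl_fst_assoc, Category.assoc, Category.assoc, hrp]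
      · rw [biprod.inr_desc_assoc, biprod.inr_fst_assoc, zero_comp, Category.assoc,
          Preadditive.sub_comp, Category.id_comp, Category.assoc, hrp, sub_self, comp_zero]
    obtain ⟨β, hβ₁', hβ₂'⟩ : ∃ β : Z ⟶ F₁, g ≫ β = r ≫ g' ∧
        h ≫ (biprod.fst : S' ⊞ S' ⟶ S')⟦(1 : ℤ)⟧' = β ≫ h' :=
      Pretriangulated.complete_distinguished_triangle_morphism _ _ hT hT' biprod.fst r comm₂
    let θ : F₁ ⟶ F₁ := α ≫ β
    have hθ₂ : g' ≫ θ = g' := by
      show g' ≫ α ≫ β = g'
      rw [← Category.assoc, hα₁', Category.assoc, hβ₁', ← Category.assoc, hir, Category.id_comp]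
    have hθ₃ : θ ≫ h' = h' := by
      show (α ≫ β) ≫ h' = h'
      rw [Category.assoc, ← hβ₂', ← Category.assoc, ← hα₂', Category.assoc,
        ← CategoryTheory.Functor.map_comp, biprod.inl_fst, CategoryTheory.Functor.map_id,
        Category.comp_id]
    let Φ : Pretriangulated.Triangle.mk x g' h' ⟶ Pretriangulated.Triangle.mk x g' h' :=
      Pretriangulated.Triangle.homMk _ _ (𝟙 _) (𝟙 _) θ
        (by rw [Category.comp_id, Category.id_comp])
        (by
          show g' ≫ θ = 𝟙 _ ≫ g'
          rw [Category.id_comp]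
          exact hθ₂)
        (by
          show h' ≫ (𝟙 S')⟦(1 : ℤ)⟧' = θ ≫ h'
          rw [CategoryTheory.Functor.map_id, Category.comp_id]
          exact hθ₃.symm)
    haveI : IsIso θ := Pretriangulated.isIso₃_of_isIso₁₂ Φ hT' hT'
      (by show IsIso (𝟙 _); infer_instance) (by show IsIso (𝟙 _); infer_instance)
    have hF₁ : Amp P a (b - 1) F₁ := ih a (b - 1) (by omega) (by omega) F₁ Z α (β ≫ inv θ) (by
      rw [← Category.assoc]
      exact IsIso.hom_inv_id θ) hZ
    have hinv := Pretriangulated.inv_rot_of_distTriang _ hT'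
    have h₁ : Amp P (a + 1) b (F₁⟦(-1 : ℤ)⟧) := hF₁.shift (-1) (by omega) (by omega)
    exact Amp.cone P hsum hlift _ hinv h₁ hS' le_rfl (by omega) (by omega) le_rfl

end Groth.Agent.H23.PerfCone
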