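import Mathlib.AlgebraicGeometry.Sites.MorphismProperty
import Mathlib.AlgebraicGeometry.Sites.Fpqc

/-! Helpers: unpacking membership in `Scheme.precoverage P`. -/

open CategoryTheory CategoryTheory.Limits AlgebraicGeometry

universe u

namespace Groth.Agent.H23

variable {P : MorphismProperty Scheme.{u}}

lemma precoverage_exists_mem_range {X : Scheme.{u}} {R : Presieve X}
    (hR : R ∈ Scheme.precoverage P X) (x : X) :
    ∃ (U : Scheme.{u}) (g : U ⟶ X), R g ∧ x ∈ Set.range g := by
  have h := (Presieve.mem_comap_jointlySurjectivePrecoverage_iff (F := Scheme.forget)).mp hR.1 x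
  obtain ⟨U, g, hg, hx⟩ := h
  exact ⟨U, g, hg, hx⟩

lemma precoverage_prop {X : Scheme.{u}} {R : Presieve X}
    (hR : R ∈ Scheme.precoverage P X) {U : Scheme.{u}} {g : U ⟶ X} (hg : R g) : P g :=
  hR.2 hg

lemma fppf_flat {X : Scheme.{u}} {R : Presieve X}
    (hR : R ∈ Scheme.fppfPrecoverage X) {U : Scheme.{u}} {g : U ⟶ X} (hg : R g) : Flat g :=
  (precoverage_prop (P := @Flat ⊓ @LocallyOfFinitePresentation) hR hg).1

lemma fppf_lfp {X : Scheme.{u}} {R : Presieve X}
    (hR : R ∈ Scheme.fppfPrecoverage X) {U : Scheme.{u}} {g : U ⟶ X} (hg : R g) :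
    LocallyOfFinitePresentation g :=
  (precoverage_prop (P := @Flat ⊓ @LocallyOfFinitePresentation) hR hg).2

lemma fppf_exists_mem_range {X : Scheme.{u}} {R : Presieve X}
    (hR : R ∈ Scheme.fppfPrecoverage X) (x : X) :
    ∃ (U : Scheme.{u}) (g : U ⟶ X), R g ∧ x ∈ Set.range g :=
  precoverage_exists_mem_range (P := @Flat ⊓ @LocallyOfFinitePresentation) hR x

end Groth.Agent.H23
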