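import Groth.Agent.H23.PerfCalc
import Groth.Agent.H23.DComp

/-!
# Projective amplitude in derived categories (helper23)

`W X j`: there are no nonzero maps from `X` to an object of `C` placed in degree `j`.
Main result `core`: an object of `D^{[c, b]}` with `W X c` is represented by a complex of
projectives in degrees `[c + 1, b]`.  Consequences: splitting of truncation triangles.
-/

open CategoryTheory CategoryTheory.Limits CategoryTheory.Pretriangulated

universe w v u

namespace Groth.Agent.H23.ProjAmp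

variable {C : Type u} [Category.{v} C] [Abelian C] [HasDerivedCategory.{w} C]

open DerivedCategory Groth.Agent.H23.DComp Groth.Agent.H23.PerfCone
open scoped ZeroObject

section General

lemma epi_map_of_natIso {A B : Type*} [Category A] [Category B] {F G : A ⥤ B} (e : F ≅ G)
    {X Y : A} (f : X ⟶ Y) (h : Epi (G.map f)) : Epi (F.map f) := by
  haveI := h
  have h1 : F.map f = e.hom.app X ≫ G.map f ≫ e.inv.app Y := by simp
  rw [h1]
  infer_instance

lemma projective_of_retract {F Y : C} [Projective F] (i : Y ⟶ F) (r : F ⟶ Y)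
    (h : i ≫ r = 𝟙 Y) : Projective Y := by
  constructor
  intro E B f e he
  obtain ⟨g, hg⟩ := Projective.factors (r ≫ f) e
  exact ⟨i ≫ g, by rw [Category.assoc, hg, ← Category.assoc, h, Category.id_comp]⟩

/-- The class of projective objects. -/
def Pj (C : Type u) [Category.{v} C] : ObjectProperty C := fun X => Projective X

instance : (Pj C).IsClosedUnderIsomorphisms where
  of_iso e h := Projective.of_iso e h

instance : (Pj C).ContainsZero where
  exists_zero := ⟨0, isZero_zero C, (isZero_zero C).projective⟩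

lemma Pj_hsum : ∀ X Y : C, Pj C X → Pj C Y → Pj C (X ⨯ Y) := by
  intro X Y hX hY
  haveI : Projective X := hX
  haveI : Projective Y := hY
  exact Projective.of_iso (biprod.isoProd X Y) inferInstance

lemma Pj_hlift : ∀ (E F : C) (u : E ⟶ F), Epi u → Pj C F → IsSplitEpi u := by
  intro E F u hu hF
  haveI : Projective F := hF
  haveI := hu
  exact IsSplitEpi.mk' ⟨Projective.factorThru (𝟙 F) u, Projective.factorThru_comp (𝟙 F) u⟩

lemma amp_of_isZero (P : ObjectProperty C) [P.IsClosedUnderIsomorphisms] [P.ContainsZero]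
    {X : DerivedCategory C} (hX : IsZero X) (a b : ℤ) : Amp P a b X := by
  have hE : IsZero (0 : CochainComplex C ℤ) := isZero_zero _
  refine ⟨0, fun i => P.prop_of_isZero ?_, fun i _ => ?_, ⟨(Functor.map_isZero Q hE).iso hX⟩⟩
  · exact Functor.map_isZero (HomologicalComplex.eval C (ComplexShape.up ℤ) i) hE
  · exact Functor.map_isZero (HomologicalComplex.eval C (ComplexShape.up ℤ) i) hE

lemma amp_isLE {P : ObjectProperty C} {a b : ℤ} {X : DerivedCategory C} (h : Amp P a b X) :
    X.IsLE b :=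
  (DerivedCategory.isLE_iff X b).2 (fun i hi => h.isZero_homology i (Or.inr hi))

lemma amp_isGE {P : ObjectProperty C} {a b : ℤ} {X : DerivedCategory C} (h : Amp P a b X) :
    X.IsGE a :=
  (DerivedCategory.isGE_iff X a).2 (fun i hi => h.isZero_homology i (Or.inl hi))

/-- Maps from a bounded complex of projectives in degrees `≥ a` to `D^{≤ a - 1}` vanish. -/
lemma amp_N_of_isLE {a b : ℤ} {X : DerivedCategory C} (h : Amp (Pj C) a b X)
    (Y : DerivedCategory C) (hY : Y.IsLE (a - 1)) : N X Y := by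
  obtain ⟨E, hP, hv, ⟨e⟩⟩ := h
  intro f
  obtain ⟨Y', hY', ⟨e'⟩⟩ := exists_iso_Q_obj_of_isLE Y (a - 1)
  haveI : ∀ n : ℤ, Projective (E.X n) := hP
  haveI : E.IsStrictlyLE b := by
    rw [CochainComplex.isStrictlyLE_iff]
    intro i hi
    exact hv i (Or.inr hi)
  haveI : E.IsKProjective := CochainComplex.isKProjective_of_projective E b
  obtain ⟨φ, hφ⟩ := exists_Q_map_eq (e.hom ≫ f ≫ e'.hom)
  have hφ0 : φ = 0 := by
    ext n
    by_cases hn : n < a
    · exact (hv n (Or.inl hn)).eq_of_src _ _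
    · exact (Y'.isZero_of_isStrictlyLE (a - 1) n (by lia)).eq_of_tgt _ _
  rw [hφ0, Functor.map_zero] at hφ
  have h1 : f ≫ e'.hom = 0 := by
    rw [← cancel_epi e.hom, comp_zero, ← hφ]
  rw [← cancel_mono e'.hom, h1, zero_comp]

end General

/-- No nonzero maps from `X` to an object of `C` placed in degree `j`. -/
def W (X : DerivedCategory C) (j : ℤ) : Prop :=
  ∀ M : C, N X ((singleFunctor C j).obj M)

lemma W.of_triangle {X₁ X₂ X₃ : DerivedCategory C} (f : X₁ ⟶ X₂) (g : X₂ ⟶ X₃)
    (h : X₃ ⟶ X₁⟦(1 : ℤ)⟧) (hT : Triangle.mk f g h ∈ distTriang (DerivedCategory C))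
    (j : ℤ) (h2 : W X₂ j)
    (h1 : ∀ M : C, N (X₁⟦(1 : ℤ)⟧) ((singleFunctor C j).obj M)) : W X₃ j := by
  intro M φ
  obtain ⟨ψ, hψ⟩ : ∃ ψ : X₁⟦(1 : ℤ)⟧ ⟶ (singleFunctor C j).obj M, φ = h ≫ ψ :=
    Triangle.yoneda_exact₃ (Triangle.mk f g h) hT φ (h2 M _)
  rw [hψ, h1 M ψ, comp_zero]

lemma W_iff_shift (X : DerivedCategory C) (i j : ℤ) (hij : i + j = 0) :
    W X j ↔ ∀ (M : C) (f : X ⟶ ((singleFunctor C 0).obj M)⟦i⟧), f = 0 := by
  constructor
  · intro h M f
    have e := ((singleFunctors C).shiftIso i j 0 hij).app M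
    have h0 := h M (f ≫ e.hom)
    rw [← cancel_mono e.hom, h0, zero_comp]
  · intro h M f
    have e := ((singleFunctors C).shiftIso i j 0 hij).app M
    have h0 := h M (f ≫ e.inv)
    rw [← cancel_mono e.inv, h0, zero_comp]

lemma W_of_amp {a b : ℤ} {X : DerivedCategory C} (h : Amp (Pj C) a b X) (j : ℤ)
    (hj : j < a ∨ b < j) : W X j := by
  intro M
  rcases hj with hj | hj
  · exact amp_N_of_isLE h _ (TStructure.t.isLE_of_le _ j (a - 1) (by lia))
  · haveI := amp_isLE h
    intro f
    exact TStructure.t.zero f b j hj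

lemma isZero_of_W (X : DerivedCategory C) (j : ℤ) [X.IsLE j] [X.IsGE j] (hW : W X j) :
    IsZero X := by
  obtain ⟨M, ⟨e⟩⟩ := exists_iso_singleFunctor_obj_of_isGE_of_isLE X j
  have h := hW M e.hom
  rw [IsZero.iff_id_eq_zero, ← e.hom_inv_id, h, zero_comp]

section Proj

variable [EnoughProjectives C]

/-- Lift a projective cover of the top cohomology to a map from a shifted projective. -/
lemma exists_lift_top (X : DerivedCategory C) (b : ℤ) [X.IsLE b] :
    ∃ (F : C) (_ : Projective F) (φ : (singleFunctor C b).obj F ⟶ X),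
      Epi ((homologyFunctor C b).map φ) := by
  obtain ⟨X₁, S, f, g, h, hT, hX₁, ⟨eS⟩, -⟩ := trunc_step X b
  haveI := hX₁
  obtain ⟨ψ, hψdef⟩ : ∃ ψ : (singleFunctor C b).obj (Projective.over ((homologyFunctor C b).obj X)) ⟶ S,
      ψ = (singleFunctor C b).map (Projective.π ((homologyFunctor C b).obj X)) ≫ eS.inv := ⟨_, rfl⟩
  haveI : (X₁⟦(1 : ℤ)⟧).IsLE (b - 1) := by
    haveI := TStructure.t.isLE_shift X₁ (b - 1) 1 (b - 2) (by lia)
    exact TStructure.t.isLE_of_le _ (b - 2) (b - 1) (by lia)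
  have hψ : ψ ≫ h = 0 := N_single_projective _ b (b - 1) (by lia) _ _
  obtain ⟨φ, hφ'⟩ : ∃ φ : (singleFunctor C b).obj
      (Projective.over ((homologyFunctor C b).obj X)) ⟶ X, ψ = φ ≫ g :=
    Triangle.coyoneda_exact₃ (Triangle.mk f g h) hT ψ hψ
  refine ⟨_, inferInstance, φ, ?_⟩
  haveI hg : IsIso ((homologyFunctor C b).map g) :=
    isIso_homologyMap_mor₂ (Triangle.mk f g h) hT b (isZero_of_isLE X₁ (b - 1) b (by lia))
      (isZero_of_isLE X₁ (b - 1) (b + 1) (by lia))
  have h1 : (homologyFunctor C b).map φ =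
      (homologyFunctor C b).map ψ ≫ inv ((homologyFunctor C b).map g) := by
    rw [hφ', Functor.map_comp, Category.assoc, IsIso.hom_inv_id, Category.comp_id]
  haveI : Epi ((homologyFunctor C b).map
      ((singleFunctor C b).map (Projective.π ((homologyFunctor C b).obj X)))) :=
    epi_map_of_natIso (singleFunctorCompHomologyFunctorIso C b)
      (Projective.π ((homologyFunctor C b).obj X))
      (show Epi (Projective.π ((homologyFunctor C b).obj X)) from inferInstance)
  rw [h1, hψdef, Functor.map_comp]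
  infer_instance

lemma cone_isLE (X : DerivedCategory C) (b : ℤ) [X.IsLE b] (F : C)
    (φ : (singleFunctor C b).obj F ⟶ X) (hφ : Epi ((homologyFunctor C b).map φ))
    {X' : DerivedCategory C} (g : X ⟶ X') (h : X' ⟶ ((singleFunctor C b).obj F)⟦(1 : ℤ)⟧)
    (hT : Triangle.mk φ g h ∈ distTriang (DerivedCategory C)) : X'.IsLE (b - 1) := by
  rw [DerivedCategory.isLE_iff]
  intro k hk
  refine isZero_homology_obj₃ (Triangle.mk φ g h) hT k ?_ ?_
  · show (homologyFunctor C k).map g = 0
    by_cases hkb : k = b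
    · subst hkb
      have h0 : φ ≫ g = 0 := comp_distTriang_mor_zero₁₂ _ hT
      rw [← cancel_epi ((homologyFunctor C k).map φ), comp_zero, ← Functor.map_comp, h0,
        Functor.map_zero]
    · exact (isZero_of_isLE X b k (by lia)).eq_of_src _ _
  · exact isZero_of_isLE ((singleFunctor C b).obj F) b (k + 1) (by lia)

lemma cone_isGE (X : DerivedCategory C) (c b : ℤ) (hcb : c < b) [X.IsGE c] (F : C)
    (φ : (singleFunctor C b).obj F ⟶ X)
    {X' : DerivedCategory C} (g : X ⟶ X') (h : X' ⟶ ((singleFunctor C b).obj F)⟦(1 : ℤ)⟧)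
    (hT : Triangle.mk φ g h ∈ distTriang (DerivedCategory C)) : X'.IsGE c := by
  rw [DerivedCategory.isGE_iff]
  intro k hk
  refine isZero_homology_obj₃ (Triangle.mk φ g h) hT k
    ((isZero_of_isGE X c k hk).eq_of_src _ _) ?_
  exact isZero_of_isGE ((singleFunctor C b).obj F) b (k + 1) (by lia)

lemma core_base (c : ℤ) (X : DerivedCategory C) [X.IsLE (c + 1)] [X.IsGE c]
    (hW : W X c) : Amp (Pj C) (c + 1) (c + 1) X := by
  obtain ⟨F, hF, φ, hφ⟩ := exists_lift_top X (c + 1)
  haveI := hF
  obtain ⟨X', g, h, hT⟩ := distinguished_cocone_triangle φ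
  haveI h0 : X'.IsLE (c + 1 - 1) := cone_isLE X (c + 1) F φ hφ g h hT
  haveI h1 : X'.IsLE c := TStructure.t.isLE_of_le X' (c + 1 - 1) c (by lia)
  haveI h2 : X'.IsGE c := cone_isGE X c (c + 1) (by lia) F φ g h hT
  obtain ⟨M, ⟨e⟩⟩ := exists_iso_singleFunctor_obj_of_isGE_of_isLE X' c
  have hg : g = 0 := by
    have h0 := hW M (g ≫ e.hom)
    rw [← cancel_mono e.hom, h0, zero_comp]
  obtain ⟨s, hs⟩ : ∃ s : X ⟶ (singleFunctor C (c + 1)).obj F, 𝟙 X = s ≫ φ :=
    Triangle.coyoneda_exact₂ (Triangle.mk φ g h) hT (𝟙 X)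
      (by show 𝟙 X ≫ g = 0; rw [hg, comp_zero])
  have hs' : s ≫ φ = 𝟙 X := hs.symm
  haveI : X.IsGE (c + 1) := by
    rw [DerivedCategory.isGE_iff]
    intro k hk
    refine isZero_of_retract ((homologyFunctor C k).map s) ((homologyFunctor C k).map φ) ?_
      (isZero_of_isGE ((singleFunctor C (c + 1)).obj F) (c + 1) k hk)
    rw [← Functor.map_comp, hs', CategoryTheory.Functor.map_id]
  obtain ⟨Y, ⟨eY⟩⟩ := exists_iso_singleFunctor_obj_of_isGE_of_isLE X (c + 1)
  have hY : Projective Y := by
    refine projective_of_retract ((singleFunctor C (c + 1)).preimage (eY.inv ≫ s))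
      ((singleFunctor C (c + 1)).preimage (φ ≫ eY.hom)) ?_
    apply (singleFunctor C (c + 1)).map_injective
    rw [Functor.map_comp, Functor.map_preimage, Functor.map_preimage, CategoryTheory.Functor.map_id,
      Category.assoc, ← Category.assoc s, hs', Category.id_comp, Iso.inv_hom_id]
  exact (Amp.single (Pj C) Y hY (c + 1)).of_iso eY.symm

theorem core_aux (c : ℤ) (n : ℕ) : ∀ (b : ℤ) (X : DerivedCategory C), b = c + 1 + n →
    X.IsLE b → X.IsGE c → W X c → Amp (Pj C) (c + 1) b X := by
  induction n with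
  | zero =>
    intro b X hb hLE hGE hW
    have hb' : b = c + 1 := by simpa using hb
    subst hb'
    haveI := hLE
    haveI := hGE
    exact core_base c X hW
  | succ n ih =>
    intro b X hb hLE hGE hW
    haveI := hLE
    haveI := hGE
    have hcb : c + 1 < b := by rw [hb]; push_cast; lia
    obtain ⟨F, hF, φ, hφ⟩ := exists_lift_top X b
    haveI := hF
    obtain ⟨X', g, h, hT⟩ := distinguished_cocone_triangle φ
    have h1 : X'.IsLE (b - 1) := cone_isLE X b F φ hφ g h hT
    have h2 : X'.IsGE c := cone_isGE X c b (by lia) F φ g h hT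
    have hW' : W X' c := by
      refine W.of_triangle φ g h hT c hW (fun M f => ?_)
      have e := ((singleFunctors C).shiftIso 1 (b - 1) b (by lia)).app F
      have h0 : e.inv ≫ f = 0 := N_single_projective F (b - 1) c (by lia) _ _
      rw [← cancel_epi e.inv, h0, comp_zero]
    have hA' : Amp (Pj C) (c + 1) (b - 1) X' :=
      ih (b - 1) X' (by rw [hb]; push_cast; ring) h1 h2 hW'
    have hrot := inv_rot_of_distTriang _ hT
    exact Amp.cone (Pj C) Pj_hsum Pj_hlift (Triangle.mk φ g h).invRotate hrot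
      (hA'.shift (-1) (a' := c + 1 + 1) (b' := b) (by ring) (by ring))
      (Amp.single (Pj C) F hF b) (le_refl _) (by lia) (by lia) (le_refl _)

/-- An object of `D^{[c, b]}` without maps to objects of `C` placed in degree `c` is represented
by a complex of projectives in degrees `[c + 1, b]`. -/
theorem core (c b : ℤ) (X : DerivedCategory C) [hLE : X.IsLE b] [hGE : X.IsGE c] (hW : W X c) :
    Amp (Pj C) (c + 1) b X := by
  by_cases hcb : c + 1 ≤ b
  · obtain ⟨n, hn⟩ := Int.eq_ofNat_of_zero_le (sub_nonneg.2 hcb)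
    exact core_aux c n b X (by lia) hLE hGE hW
  · haveI : X.IsLE c := TStructure.t.isLE_of_le X b c (by lia)
    exact amp_of_isZero (Pj C) (isZero_of_W X c hW) (c + 1) b

theorem amp_of_four (X : DerivedCategory C) (a b : ℤ)
    (h : ∀ n : ℤ, n < a - 1 ∨ b < n → IsZero ((homologyFunctor C n).obj X))
    (hW : W X (a - 1)) : Amp (Pj C) a b X := by
  haveI : X.IsLE b := (DerivedCategory.isLE_iff X b).2 (fun i hi => h i (Or.inr hi))
  haveI : X.IsGE (a - 1) := (DerivedCategory.isGE_iff X (a - 1)).2 (fun i hi => h i (Or.inl hi))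
  exact (core (a - 1) b X hW).mono (by lia) le_rfl

/-- If the upper truncation is represented by a bounded complex of projectives in degrees
`≥ n`, the truncation triangle splits. -/
lemma exists_splitting (X : DerivedCategory C) (n b : ℤ)
    (hA : Amp (Pj C) n b ((TStructure.t.truncGE n).obj X)) :
    ∃ e : X ≅ (TStructure.t.truncLT n).obj X ⊞ (TStructure.t.truncGE n).obj X,
      (TStructure.t.truncLTι n).app X ≫ e.hom = biprod.inl ∧
        e.hom ≫ biprod.snd = (TStructure.t.truncGEπ n).app X := by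
  have hT := TStructure.t.triangleLTGE_distinguished n X
  have hLE : (((TStructure.t.truncLT n).obj X)⟦(1 : ℤ)⟧).IsLE (n - 1) := by
    haveI := TStructure.t.isLE_shift ((TStructure.t.truncLT n).obj X) (n - 1) 1 (n - 2) (by lia)
    exact TStructure.t.isLE_of_le _ (n - 2) (n - 1) (by lia)
  have hz : (TStructure.t.truncGEδLT n).app X = 0 := amp_N_of_isLE hA _ hLE _
  obtain ⟨e, h1, h2⟩ := exists_iso_binaryBiproduct_of_distTriang _ hT hz
  exact ⟨e, h1, h2.symm⟩

lemma exists_splitting' (X : DerivedCategory C) (a b : ℤ)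
    (hA : Amp (Pj C) (a + 1) b ((TStructure.t.truncGE a).obj X)) :
    (∃ e : X ≅ (TStructure.t.truncLT a).obj X ⊞ (TStructure.t.truncGE (a + 1)).obj X,
      (TStructure.t.truncLTι a).app X ≫ e.hom = biprod.inl ∧
        e.hom ≫ biprod.snd = (TStructure.t.truncGEπ (a + 1)).app X) ∧
    Amp (Pj C) (a + 1) b ((TStructure.t.truncGE (a + 1)).obj X) := by
  obtain ⟨e₀, h1, h2⟩ := exists_splitting X a b (hA.mono (by lia) le_rfl)
  haveI : ((TStructure.t.truncGE a).obj X).IsGE (a + 1) := amp_isGE hA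
  haveI : IsIso ((TStructure.t.truncGE (a + 1)).map ((TStructure.t.truncGEπ a).app X)) :=
    TStructure.t.isIso_truncGE_map_truncGEπ_app (a + 1) a (by lia) X
  obtain ⟨ρ, hρdef⟩ : ∃ ρ : (TStructure.t.truncGE a).obj X ≅ (TStructure.t.truncGE (a + 1)).obj X,
      ρ.hom = (TStructure.t.truncGEπ (a + 1)).app ((TStructure.t.truncGE a).obj X) ≫
        inv ((TStructure.t.truncGE (a + 1)).map ((TStructure.t.truncGEπ a).app X)) :=
    ⟨asIso ((TStructure.t.truncGEπ (a + 1)).app ((TStructure.t.truncGE a).obj X)) ≪≫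
      (asIso ((TStructure.t.truncGE (a + 1)).map ((TStructure.t.truncGEπ a).app X))).symm,
      by simp⟩
  have hρ : (TStructure.t.truncGEπ a).app X ≫ ρ.hom = (TStructure.t.truncGEπ (a + 1)).app X := by
    have hnat : (TStructure.t.truncGEπ (a + 1)).app X ≫
        (TStructure.t.truncGE (a + 1)).map ((TStructure.t.truncGEπ a).app X) =
        (TStructure.t.truncGEπ a).app X ≫
          (TStructure.t.truncGEπ (a + 1)).app ((TStructure.t.truncGE a).obj X) :=
      TStructure.t.truncGEπ_naturality (a + 1) ((TStructure.t.truncGEπ a).app X)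
    rw [hρdef, ← Category.assoc, ← hnat, Category.assoc, IsIso.hom_inv_id, Category.comp_id]
  refine ⟨⟨e₀ ≪≫ biprod.mapIso (Iso.refl _) ρ, ?_, ?_⟩, hA.of_iso ρ⟩
  · rw [Iso.trans_hom, ← Category.assoc, h1, biprod.mapIso_hom, biprod.inl_map, Iso.refl_hom,
      Category.id_comp]
  · rw [Iso.trans_hom, Category.assoc, biprod.mapIso_hom, biprod.map_snd, ← Category.assoc, h2,
      hρ]

/-- Stacks-type splitting: if `K ∈ D^{≤ b}` has no maps to objects placed in degree `a`, then
`K ≅ τ_{< a} K ⊕ τ_{≥ a + 1} K` and `τ_{≥ a + 1} K` has projective amplitude in `[a + 1, b]`. -/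
theorem split_of_W (K : DerivedCategory C) (a b : ℤ) [K.IsLE b] (hW : W K a) :
    (∃ e : K ≅ (TStructure.t.truncLT a).obj K ⊞ (TStructure.t.truncGE (a + 1)).obj K,
      (TStructure.t.truncLTι a).app K ≫ e.hom = biprod.inl ∧
        e.hom ≫ biprod.snd = (TStructure.t.truncGEπ (a + 1)).app K) ∧
    Amp (Pj C) (a + 1) b ((TStructure.t.truncGE (a + 1)).obj K) := by
  apply exists_splitting'
  have hLE : (((TStructure.t.truncLT a).obj K)⟦(1 : ℤ)⟧).IsLE (a - 1) := by
    haveI := TStructure.t.isLE_shift ((TStructure.t.truncLT a).obj K) (a - 1) 1 (a - 2) (by lia)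
    exact TStructure.t.isLE_of_le _ (a - 2) (a - 1) (by lia)
  have hW' : W ((TStructure.t.truncGE a).obj K) a :=
    W.of_triangle (X₁ := (TStructure.t.truncLT a).obj K) (X₂ := K)
      (X₃ := (TStructure.t.truncGE a).obj K) ((TStructure.t.truncLTι a).app K)
      ((TStructure.t.truncGEπ a).app K) ((TStructure.t.truncGEδLT a).app K)
      (TStructure.t.triangleLTGE_distinguished a K) a hW
      (fun M f => by haveI := hLE; exact TStructure.t.zero f (a - 1) a (by lia))
  exact core a b _ hW'

end Proj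

section Inj

lemma exists_Q_map_eq' {K L : CochainComplex C ℤ} [L.IsKInjective]
    (ψ : DerivedCategory.Q.obj K ⟶ DerivedCategory.Q.obj L) :
    ∃ φ : K ⟶ L, DerivedCategory.Q.map φ = ψ := by
  let t : DerivedCategory.Qh.obj ((HomotopyCategory.quotient C (ComplexShape.up ℤ)).obj K) ⟶
      DerivedCategory.Qh.obj ((HomotopyCategory.quotient C (ComplexShape.up ℤ)).obj L) :=
    (DerivedCategory.quotientCompQhIso C).hom.app K ≫ ψ ≫
      (DerivedCategory.quotientCompQhIso C).inv.app L
  obtain ⟨g', hg'⟩ := (CochainComplex.IsKInjective.Qh_map_bijective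
    ((HomotopyCategory.quotient C (ComplexShape.up ℤ)).obj K) L).2 t
  obtain ⟨g, rfl⟩ := (HomotopyCategory.quotient C (ComplexShape.up ℤ)).map_surjective g'
  refine ⟨g, ?_⟩
  have h1 := DerivedCategory.quotientCompQhIso_hom_naturality g
  rw [hg'] at h1
  simp only [t, Category.assoc, Iso.inv_hom_id_app, Category.comp_id] at h1
  exact ((cancel_epi _).1 h1).symm

/-- Maps from `D^{≥ n + 1}` to an injective object placed in degree `n` vanish. -/
lemma N_single_injective (J : C) [Injective J] (n : ℤ) (L : DerivedCategory C)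
    [L.IsGE (n + 1)] : N L ((singleFunctor C n).obj J) := by
  intro f
  obtain ⟨L', hL', ⟨e⟩⟩ := exists_iso_Q_obj_of_isGE L (n + 1)
  let K : CochainComplex C ℤ := (CochainComplex.singleFunctor C n).obj J
  have hinj : ∀ i : ℤ, Injective (K.X i) := by
    intro i
    by_cases hi : i = n
    · subst hi
      exact Injective.of_iso
        (HomologicalComplex.singleObjXSelf (ComplexShape.up ℤ) i J).symm inferInstance
    · exact (HomologicalComplex.isZero_single_obj_X (ComplexShape.up ℤ) n J i hi).injective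
  haveI : K.IsStrictlyGE n := by dsimp [K]; infer_instance
  haveI : K.IsKInjective := CochainComplex.isKInjective_of_injective K n
  obtain ⟨φ, hφ⟩ := exists_Q_map_eq' (K := L') (L := K)
    (e.inv ≫ f ≫ ((singleFunctorIsoCompQ C n).app J).hom)
  have hφ0 : φ = 0 := by
    ext i
    by_cases hi : i = n
    · exact (L'.isZero_of_isStrictlyGE (n + 1) i (by lia)).eq_of_src _ _
    · exact (HomologicalComplex.isZero_single_obj_X (ComplexShape.up ℤ) n J i hi).eq_of_tgt _ _
  rw [hφ0, Functor.map_zero] at hφ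
  have h1 : f ≫ ((singleFunctorIsoCompQ C n).app J).hom = 0 := by
    rw [← cancel_epi e.inv, comp_zero, ← hφ]
  rw [← cancel_mono ((singleFunctorIsoCompQ C n).app J).hom, h1, zero_comp]

variable [EnoughInjectives C]

/-- Cohomology is detected by maps to injective objects. -/
lemma isZero_homology_of_N_injective (X : DerivedCategory C) (n : ℤ)
    (hyp : ∀ J : C, Injective J → N X ((singleFunctor C n).obj J)) :
    IsZero ((homologyFunctor C n).obj X) := by
  obtain ⟨E, ⟨e₀⟩⟩ : ∃ E : CochainComplex C ℤ, Nonempty (Q.obj E ≅ X) :=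
    ⟨Q.objPreimage X, ⟨Q.objObjPreimageIso X⟩⟩
  have eH : (homologyFunctor C n).obj X ≅ E.homology n :=
    (homologyFunctor C n).mapIso e₀.symm ≪≫ (homologyFunctorFactors C n).app E
  refine IsZero.of_iso ?_ eH
  obtain ⟨J, hJ, ι, hι⟩ : ∃ (J : C) (_ : Injective J) (ι : E.homology n ⟶ J), Mono ι :=
    ⟨Injective.under (E.homology n), inferInstance, Injective.ι _, inferInstance⟩
  haveI := hJ
  haveI := hι
  obtain ⟨φ, hφ⟩ : ∃ φ : E.X n ⟶ J, E.iCycles n ≫ φ = E.homologyπ n ≫ ι :=
    ⟨Injective.factorThru (E.homologyπ n ≫ ι) (E.iCycles n), Injective.comp_factorThru _ _⟩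
  have hd : ∀ i : ℤ, (ComplexShape.up ℤ).Rel i n → E.d i n ≫ φ = 0 := by
    intro i _
    rw [← E.toCycles_i i n, Category.assoc, hφ, E.toCycles_comp_homologyπ_assoc, zero_comp]
  obtain ⟨Φ, hΦ⟩ : ∃ Φ : E ⟶ (HomologicalComplex.single C (ComplexShape.up ℤ) n).obj J,
      Φ.f n = φ ≫ (HomologicalComplex.singleObjXSelf (ComplexShape.up ℤ) n J).inv :=
    ⟨HomologicalComplex.mkHomToSingle φ hd, HomologicalComplex.mkHomToSingle_f φ hd⟩
  obtain ⟨α, -⟩ : ∃ α : (singleFunctor C n).obj J ≅
      Q.obj ((HomologicalComplex.single C (ComplexShape.up ℤ) n).obj J), True :=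
    ⟨(singleFunctorIsoCompQ C n).app J, trivial⟩
  have hQ : Q.map Φ = 0 := by
    have h1 := hyp J hJ (e₀.inv ≫ Q.map Φ ≫ α.inv)
    have h2 : Q.map Φ = e₀.hom ≫ (e₀.inv ≫ Q.map Φ ≫ α.inv) ≫ α.hom := by simp
    rw [h2, h1, zero_comp, comp_zero]
  have hH : HomologicalComplex.homologyMap Φ n = 0 := by
    have h1 := (homologyFunctorFactors C n).hom.naturality Φ
    have h2 : (Q ⋙ homologyFunctor C n).map Φ = 0 := by
      show (homologyFunctor C n).map (Q.map Φ) = 0
      rw [hQ, Functor.map_zero]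
    rw [h2, zero_comp] at h1
    have h3 : (homologyFunctorFactors C n).hom.app E ≫ HomologicalComplex.homologyMap Φ n = 0 :=
      h1.symm
    exact (cancel_epi ((homologyFunctorFactors C n).hom.app E)).1 (h3.trans comp_zero.symm)
  have key : E.homologyπ n ≫ ι = 0 := by
    have h1 : E.homologyπ n ≫ HomologicalComplex.homologyMap Φ n ≫
        (HomologicalComplex.singleObjHomologySelfIso (ComplexShape.up ℤ) n J).hom =
        E.iCycles n ≫ φ := by
      rw [HomologicalComplex.homologyπ_naturality_assoc,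
        HomologicalComplex.homologyπ_singleObjHomologySelfIso_hom,
        HomologicalComplex.singleObjCyclesSelfIso_hom, HomologicalComplex.cyclesMap_i_assoc,
        hΦ, Category.assoc, Iso.inv_hom_id, Category.comp_id]
    rw [← hφ, ← h1, hH, zero_comp, comp_zero]
  have hι0 : ι = 0 := by
    rw [← cancel_epi (E.homologyπ n), key, comp_zero]
  exact IsZero.of_mono_eq_zero ι hι0

lemma isZero_homology_of_W (X : DerivedCategory C) (n : ℤ) (hW : W X n) :
    IsZero ((homologyFunctor C n).obj X) :=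
  isZero_homology_of_N_injective X n (fun J _ => hW J)

/-- If post-composition with (the image of) every monomorphism into an injective is injective
on `Hom(K, -[-a])`, then the truncation `τ_{≥ a + 1} K` has no maps to objects placed in
degree `a`. -/
lemma W_truncGE_of_inj (K : DerivedCategory C) (a : ℤ)
    (hyp : ∀ (M J : C) (ι : M ⟶ J), Mono ι → Injective J →
      ∀ x : K ⟶ (singleFunctor C a).obj M, x ≫ (singleFunctor C a).map ι = 0 → x = 0) :
    W ((TStructure.t.truncGE (a + 1)).obj K) a := by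
  intro M f
  have hT := TStructure.t.triangleLTGE_distinguished (a + 1) K
  have h1 : f ≫ (singleFunctor C a).map (Injective.ι M) = 0 :=
    N_single_injective (Injective.under M) a _ _
  have h2 : (TStructure.t.truncGEπ (a + 1)).app K ≫ f = 0 :=
    hyp M (Injective.under M) (Injective.ι M) inferInstance inferInstance _
      (by rw [Category.assoc, h1, comp_zero])
  obtain ⟨g, hg⟩ : ∃ g : ((TStructure.t.truncLT (a + 1)).obj K)⟦(1 : ℤ)⟧ ⟶
      (singleFunctor C a).obj M, f = (TStructure.t.truncGEδLT (a + 1)).app K ≫ g :=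
    Triangle.yoneda_exact₃ _ hT f h2
  have hLE : (((TStructure.t.truncLT (a + 1)).obj K)⟦(1 : ℤ)⟧).IsLE (a - 1) :=
    TStructure.t.isLE_shift ((TStructure.t.truncLT (a + 1)).obj K) a 1 (a - 1) (by lia)
  have hg0 : g = 0 := by
    haveI := hLE
    exact TStructure.t.zero g (a - 1) a (by lia)
  rw [hg, hg0, comp_zero]

end Inj

/-- Splitting in the situation of `W_truncGE_of_inj`. -/
theorem split_of_inj [EnoughProjectives C] [EnoughInjectives C] (K : DerivedCategory C) (a b : ℤ)
    [K.IsLE b]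
    (hyp : ∀ (M J : C) (ι : M ⟶ J), Mono ι → Injective J →
      ∀ x : K ⟶ (singleFunctor C a).obj M, x ≫ (singleFunctor C a).map ι = 0 → x = 0) :
    (∃ e : K ≅ (TStructure.t.truncLT (a + 1)).obj K ⊞ (TStructure.t.truncGE (a + 1)).obj K,
      (TStructure.t.truncLTι (a + 1)).app K ≫ e.hom = biprod.inl ∧
        e.hom ≫ biprod.snd = (TStructure.t.truncGEπ (a + 1)).app K) ∧
    Amp (Pj C) (a + 1) b ((TStructure.t.truncGE (a + 1)).obj K) := by
  haveI : ((TStructure.t.truncGE (a + 1)).obj K).IsGE a :=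
    TStructure.t.isGE_of_ge _ a (a + 1) (by lia)
  have hA : Amp (Pj C) (a + 1) b ((TStructure.t.truncGE (a + 1)).obj K) :=
    core a b _ (W_truncGE_of_inj K a hyp)
  exact ⟨exists_splitting K (a + 1) b hA, hA⟩

end Groth.Agent.H23.ProjAmp
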