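import Mathlib

/-!
# `R⁰F` is left exact (helper23)

For an additive functor `F : A ⥤ B` between abelian categories, `A` with enough injectives,
`R⁰F X` is the kernel of `F I⁰ ⟶ F I¹` for an injective resolution `I` of `X`; using this
description (and the injectivity of the terms) we show that `R⁰F` is additive and left exact.
-/

open CategoryTheory CategoryTheory.Limits

universe v u v' u'

namespace Groth.Agent.H23.RZero

variable {A : Type u} [Category.{v} A] [Abelian A]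

/-- the homotopy-type identities between the first terms of injective resolutions of the terms of a
short exact sequence -/
lemma key_identities {S : ShortComplex A} (hS : S.ShortExact)
    {J1 J1' J2 J2' J3 : A} [Injective J1] [Injective J1'] [Injective J2]
    (ι₁ : S.X₁ ⟶ J1) (ι₂ : S.X₂ ⟶ J2) (ι₃ : S.X₃ ⟶ J3) [Mono ι₂] [Mono ι₃]
    (d₁ : J1 ⟶ J1') (d₂ : J2 ⟶ J2') (w₁ : ι₁ ≫ d₁ = 0) (w₂ : ι₂ ≫ d₂ = 0)
    (ex₁ : (ShortComplex.mk ι₁ d₁ w₁).Exact) (ex₂ : (ShortComplex.mk ι₂ d₂ w₂).Exact)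
    (φ : J1 ⟶ J2) (ψ : J2 ⟶ J3) (hφ : ι₁ ≫ φ = S.f ≫ ι₂) (hψ : ι₂ ≫ ψ = S.g ≫ ι₃) :
    ∃ (ρ : J2 ⟶ J1) (h : J1' ⟶ J1) (e : J3 ⟶ J2) (h₂ : J2' ⟶ J2) (m : J3 ⟶ J1')
      (h₃ : J2' ⟶ J1'),
      φ ≫ ρ = 𝟙 _ + d₁ ≫ h ∧ 𝟙 _ = ρ ≫ φ + ψ ≫ e + d₂ ≫ h₂ ∧ ρ ≫ d₁ = ψ ≫ m + d₂ ≫ h₃ := by
  haveI := hS.mono_f
  haveI := hS.epi_g
  haveI : Mono (S.f ≫ ι₂) := mono_comp _ _
  let ρ : J2 ⟶ J1 := Injective.factorThru ι₁ (S.f ≫ ι₂)
  have hρ : S.f ≫ ι₂ ≫ ρ = ι₁ := by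
    rw [← Category.assoc]; exact Injective.comp_factorThru _ _
  -- (a)
  have hk : ι₁ ≫ (φ ≫ ρ - 𝟙 _) = 0 := by
    rw [Preadditive.comp_sub, ← Category.assoc, hφ, Category.assoc, hρ, Category.comp_id,
      sub_self]
  let h : J1' ⟶ J1 := ex₁.descToInjective (φ ≫ ρ - 𝟙 _) hk
  have hh : d₁ ≫ h = φ ≫ ρ - 𝟙 _ := ex₁.comp_descToInjective _ hk
  -- (b1)
  have hρφ : S.f ≫ ι₂ ≫ ρ ≫ φ = S.f ≫ ι₂ := ((reassoc_of% hρ) φ).trans hφ
  have he0 : S.f ≫ (ι₂ ≫ (𝟙 _ - ρ ≫ φ)) = 0 := by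
    rw [Preadditive.comp_sub, Preadditive.comp_sub, Category.comp_id, hρφ, sub_self]
  let e' : S.X₃ ⟶ J2 := hS.exact.desc (ι₂ ≫ (𝟙 _ - ρ ≫ φ)) he0
  have he' : S.g ≫ e' = ι₂ ≫ (𝟙 _ - ρ ≫ φ) := hS.exact.g_desc _ he0
  let e : J3 ⟶ J2 := Injective.factorThru e' ι₃
  have hee : ι₃ ≫ e = e' := Injective.comp_factorThru _ _
  have hk₂ : ι₂ ≫ ((𝟙 _ - ρ ≫ φ) - ψ ≫ e) = 0 := by
    rw [Preadditive.comp_sub, ← he', ← Category.assoc, hψ, Category.assoc, hee, sub_self]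
  let h₂ : J2' ⟶ J2 := ex₂.descToInjective _ hk₂
  have hh₂ : d₂ ≫ h₂ = (𝟙 _ - ρ ≫ φ) - ψ ≫ e := ex₂.comp_descToInjective _ hk₂
  -- (b2)
  have hm0 : S.f ≫ (ι₂ ≫ (ρ ≫ d₁)) = 0 := by
    rw [reassoc_of% hρ, w₁]
  let m' : S.X₃ ⟶ J1' := hS.exact.desc (ι₂ ≫ (ρ ≫ d₁)) hm0
  have hm' : S.g ≫ m' = ι₂ ≫ (ρ ≫ d₁) := hS.exact.g_desc _ hm0
  let m : J3 ⟶ J1' := Injective.factorThru m' ι₃
  have hmm : ι₃ ≫ m = m' := Injective.comp_factorThru _ _
  have hk₃ : ι₂ ≫ (ρ ≫ d₁ - ψ ≫ m) = 0 := by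
    rw [Preadditive.comp_sub, ← hm', ← Category.assoc, hψ, Category.assoc, hmm, sub_self]
  let h₃ : J2' ⟶ J1' := ex₂.descToInjective _ hk₃
  have hh₃ : d₂ ≫ h₃ = ρ ≫ d₁ - ψ ≫ m := ex₂.comp_descToInjective _ hk₃
  refine ⟨ρ, h, e, h₂, m, h₃, ?_, ?_, ?_⟩
  · rw [hh]; abel
  · rw [hh₂]; abel
  · rw [hh₃]; abel

variable [EnoughInjectives A] {B : Type u'} [Category.{v'} B] [Abelian B]
  (F : A ⥤ B) [F.Additive]

/-- the cycles in degree `0` of `F I`, inside `F I⁰` -/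
noncomputable def j₀ {X : A} (I : InjectiveResolution X) :
    ((F.mapHomologicalComplex (ComplexShape.up ℕ)).obj I.cocomplex).cycles 0 ⟶
      F.obj (I.cocomplex.X 0) :=
  ((F.mapHomologicalComplex (ComplexShape.up ℕ)).obj I.cocomplex).iCycles 0

set_option backward.isDefEq.respectTransparency false in
instance {X : A} (I : InjectiveResolution X) : Mono (j₀ F I) := by
  dsimp only [j₀]
  infer_instance

lemma j₀_d {X : A} (I : InjectiveResolution X) : j₀ F I ≫ F.map (I.cocomplex.d 0 1) = 0 :=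
  HomologicalComplex.iCycles_d ((F.mapHomologicalComplex (ComplexShape.up ℕ)).obj I.cocomplex) 0 1

set_option backward.isDefEq.respectTransparency false in
lemma j₀_lift {X : A} (I : InjectiveResolution X) {T : B} (s : T ⟶ F.obj (I.cocomplex.X 0))
    (hs : s ≫ F.map (I.cocomplex.d 0 1) = 0) :
    ∃ t : T ⟶ ((F.mapHomologicalComplex (ComplexShape.up ℕ)).obj I.cocomplex).cycles 0,
      t ≫ j₀ F I = s := by
  have hn : (ComplexShape.up ℕ).next 0 = 1 := by simp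
  refine ⟨((F.mapHomologicalComplex (ComplexShape.up ℕ)).obj I.cocomplex).liftCycles s 1 hn hs, ?_⟩
  dsimp only [j₀]
  exact HomologicalComplex.liftCycles_i
    ((F.mapHomologicalComplex (ComplexShape.up ℕ)).obj I.cocomplex) s 1 hn hs

lemma j₀_nat {X Y : A} (I : InjectiveResolution X) (J : InjectiveResolution Y)
    (φ : I.cocomplex ⟶ J.cocomplex) :
    HomologicalComplex.cyclesMap ((F.mapHomologicalComplex (ComplexShape.up ℕ)).map φ) 0 ≫
      j₀ F J = j₀ F I ≫ F.map (φ.f 0) :=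
  HomologicalComplex.cyclesMap_i ((F.mapHomologicalComplex (ComplexShape.up ℕ)).map φ) 0

/-- `R⁰F X` as the homology of `F I` in degree `0` -/
noncomputable def κ {X : A} (I : InjectiveResolution X) :
    (F.rightDerived 0).obj X ≅
      ((F.mapHomologicalComplex (ComplexShape.up ℕ)).obj I.cocomplex).homology 0 :=
  I.isoRightDerivedObj F 0

/-- `R⁰F X` as the cycles of `F I` in degree `0` -/
noncomputable def lam {X : A} (I : InjectiveResolution X) :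
    (F.rightDerived 0).obj X ≅
      ((F.mapHomologicalComplex (ComplexShape.up ℕ)).obj I.cocomplex).cycles 0 :=
  κ F I ≪≫ (CochainComplex.isoHomologyπ₀
    ((F.mapHomologicalComplex (ComplexShape.up ℕ)).obj I.cocomplex)).symm

lemma lam_nat {X Y : A} (f : X ⟶ Y) (I : InjectiveResolution X) (J : InjectiveResolution Y)
    (φ : I.cocomplex ⟶ J.cocomplex) (comm : I.ι.f 0 ≫ φ.f 0 = f ≫ J.ι.f 0) :
    (F.rightDerived 0).map f ≫ (lam F J).hom = (lam F I).hom ≫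
      HomologicalComplex.cyclesMap ((F.mapHomologicalComplex (ComplexShape.up ℕ)).map φ) 0 := by
  have h1 : (F.rightDerived 0).map f ≫ (κ F J).hom =
      (κ F I).hom ≫ HomologicalComplex.homologyMap
        ((F.mapHomologicalComplex (ComplexShape.up ℕ)).map φ) 0 :=
    InjectiveResolution.isoRightDerivedObj_hom_naturality f I J φ comm F 0
  have h2 := CochainComplex.isoHomologyπ₀_inv_naturality
    ((F.mapHomologicalComplex (ComplexShape.up ℕ)).map φ)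
  dsimp only [lam, Iso.trans_hom, Iso.symm_hom]
  rw [← Category.assoc, h1, Category.assoc, h2, Category.assoc]

/-- the canonical embedding `R⁰F X ⟶ F I⁰` -/
noncomputable def j {X : A} (I : InjectiveResolution X) :
    (F.rightDerived 0).obj X ⟶ F.obj (I.cocomplex.X 0) :=
  (lam F I).hom ≫ j₀ F I

instance {X : A} (I : InjectiveResolution X) : Mono (j F I) := by
  dsimp only [j]
  infer_instance

lemma j_d {X : A} (I : InjectiveResolution X) : j F I ≫ F.map (I.cocomplex.d 0 1) = 0 := by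
  dsimp only [j]
  rw [Category.assoc, j₀_d, comp_zero]

lemma j_lift {X : A} (I : InjectiveResolution X) {T : B} (s : T ⟶ F.obj (I.cocomplex.X 0))
    (hs : s ≫ F.map (I.cocomplex.d 0 1) = 0) :
    ∃ t : T ⟶ (F.rightDerived 0).obj X, t ≫ j F I = s := by
  obtain ⟨t, ht⟩ := j₀_lift F I s hs
  refine ⟨t ≫ (lam F I).inv, ?_⟩
  dsimp only [j]
  rw [Category.assoc, Iso.inv_hom_id_assoc, ht]

lemma j_nat {X Y : A} (f : X ⟶ Y) (I : InjectiveResolution X) (J : InjectiveResolution Y)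
    (φ : I.cocomplex ⟶ J.cocomplex) (comm : I.ι.f 0 ≫ φ.f 0 = f ≫ J.ι.f 0) :
    (F.rightDerived 0).map f ≫ j F J = j F I ≫ F.map (φ.f 0) := by
  dsimp only [j]
  rw [← Category.assoc, lam_nat F f I J φ comm, Category.assoc, j₀_nat, Category.assoc]

instance additive_rightDerivedZero : (F.rightDerived 0).Additive where
  map_add {X Y f g} := by
    obtain ⟨I⟩ : Nonempty (InjectiveResolution X) := ⟨injectiveResolution X⟩
    obtain ⟨J⟩ : Nonempty (InjectiveResolution Y) := ⟨injectiveResolution Y⟩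
    obtain ⟨φ, hφ'⟩ : ∃ φ : I.cocomplex ⟶ J.cocomplex, φ = InjectiveResolution.desc f J I :=
      ⟨_, rfl⟩
    obtain ⟨ψ, hψ'⟩ : ∃ ψ : I.cocomplex ⟶ J.cocomplex, ψ = InjectiveResolution.desc g J I :=
      ⟨_, rfl⟩
    have hφ : I.ι.f 0 ≫ φ.f 0 = f ≫ J.ι.f 0 := by
      rw [hφ']; exact InjectiveResolution.desc_commutes_zero f J I
    have hψ : I.ι.f 0 ≫ ψ.f 0 = g ≫ J.ι.f 0 := by
      rw [hψ']; exact InjectiveResolution.desc_commutes_zero g J I
    have hsum : I.ι.f 0 ≫ (φ + ψ).f 0 = (f + g) ≫ J.ι.f 0 := by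
      rw [HomologicalComplex.add_f_apply, Preadditive.comp_add, hφ, hψ]
      exact (Preadditive.add_comp _ _ _ _ _ _).symm
    rw [← cancel_mono (j F J), Preadditive.add_comp, j_nat F f I J φ hφ, j_nat F g I J ψ hψ,
      j_nat F (f + g) I J (φ + ψ) hsum, HomologicalComplex.add_f_apply, F.map_add,
      Preadditive.comp_add]

set_option backward.isDefEq.respectTransparency false in
theorem leftExact : PreservesFiniteLimits (F.rightDerived 0) := by
  rw [Functor.preservesFiniteLimits_iff_forall_exact_map_and_mono]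
  intro S hS
  obtain ⟨I₁⟩ : Nonempty (InjectiveResolution S.X₁) := ⟨injectiveResolution _⟩
  obtain ⟨I₂⟩ : Nonempty (InjectiveResolution S.X₂) := ⟨injectiveResolution _⟩
  obtain ⟨I₃⟩ : Nonempty (InjectiveResolution S.X₃) := ⟨injectiveResolution _⟩
  obtain ⟨φ, hφ⟩ : ∃ φ : I₁.cocomplex ⟶ I₂.cocomplex, I₁.ι.f 0 ≫ φ.f 0 = S.f ≫ I₂.ι.f 0 :=
    ⟨_, InjectiveResolution.desc_commutes_zero S.f I₂ I₁⟩
  obtain ⟨ψ, hψ⟩ : ∃ ψ : I₂.cocomplex ⟶ I₃.cocomplex, I₂.ι.f 0 ≫ ψ.f 0 = S.g ≫ I₃.ι.f 0 :=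
    ⟨_, InjectiveResolution.desc_commutes_zero S.g I₃ I₂⟩
  haveI := I₁.injective 0
  haveI := I₁.injective 1
  haveI := I₂.injective 0
  haveI : Mono (I₂.ι.f 0) := mono_of_isLimit_fork I₂.isLimitKernelFork
  haveI : Mono (I₃.ι.f 0) := mono_of_isLimit_fork I₃.isLimitKernelFork
  obtain ⟨ρ, h, e, h₂, m, h₃, id1, id2, id3⟩ :=
    key_identities hS (I₁.ι.f 0) (I₂.ι.f 0) (I₃.ι.f 0) (I₁.cocomplex.d 0 1) (I₂.cocomplex.d 0 1)
      _ _ I₁.exact₀ I₂.exact₀ (φ.f 0) (ψ.f 0) hφ hψ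
  have n1 := j_nat F S.f I₁ I₂ φ hφ
  have n2 := j_nat F S.g I₂ I₃ ψ hψ
  have F1 : F.map (φ.f 0) ≫ F.map ρ = 𝟙 _ + F.map (I₁.cocomplex.d 0 1) ≫ F.map h := by
    rw [← F.map_comp, id1, F.map_add, F.map_id, F.map_comp]
  have F2 : 𝟙 (F.obj (I₂.cocomplex.X 0)) = F.map ρ ≫ F.map (φ.f 0) + F.map (ψ.f 0) ≫ F.map e +
      F.map (I₂.cocomplex.d 0 1) ≫ F.map h₂ := by
    rw [← F.map_comp, ← F.map_comp, ← F.map_comp, ← F.map_add, ← F.map_add, ← id2, F.map_id]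
  have F3 : F.map ρ ≫ F.map (I₁.cocomplex.d 0 1) =
      F.map (ψ.f 0) ≫ F.map m + F.map (I₂.cocomplex.d 0 1) ≫ F.map h₃ := by
    rw [← F.map_comp, id3, F.map_add, F.map_comp, F.map_comp]
  constructor
  · rw [ShortComplex.exact_iff_exact_up_to_refinements]
    intro T t ht
    have ht' : t ≫ (F.rightDerived 0).map S.g = 0 := ht
    obtain ⟨s, hs⟩ : ∃ s : T ⟶ F.obj (I₂.cocomplex.X 0), s = t ≫ j F I₂ := ⟨_, rfl⟩
    have hs_d : s ≫ F.map (I₂.cocomplex.d 0 1) = 0 := by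
      rw [hs, Category.assoc, j_d, comp_zero]
    have hs_ψ : s ≫ F.map (ψ.f 0) = 0 := by
      rw [hs, Category.assoc, ← n2, ← Category.assoc, ht', zero_comp]
    have hs₁ : (s ≫ F.map ρ) ≫ F.map (I₁.cocomplex.d 0 1) = 0 := by
      rw [Category.assoc, F3, Preadditive.comp_add, ← Category.assoc, hs_ψ, zero_comp,
        ← Category.assoc, hs_d, zero_comp, add_zero]
    obtain ⟨t₁, ht₁⟩ := j_lift F I₁ (s ≫ F.map ρ) hs₁
    refine ⟨T, 𝟙 T, inferInstance, t₁, ?_⟩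
    rw [Category.id_comp]
    show t = t₁ ≫ (F.rightDerived 0).map S.f
    rw [← cancel_mono (j F I₂), Category.assoc, n1, ← Category.assoc, ht₁, ← hs]
    have key : s = s ≫ (F.map ρ ≫ F.map (φ.f 0) + F.map (ψ.f 0) ≫ F.map e +
        F.map (I₂.cocomplex.d 0 1) ≫ F.map h₂) := by rw [← F2, Category.comp_id]
    rw [Preadditive.comp_add, Preadditive.comp_add, ← Category.assoc s (F.map (ψ.f 0)), hs_ψ,
      zero_comp, ← Category.assoc s (F.map (I₂.cocomplex.d 0 1)), hs_d, zero_comp, add_zero,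
      add_zero] at key
    rw [Category.assoc]
    exact key
  · have hmono : Mono ((F.rightDerived 0).map S.f ≫ j F I₂) := by
      rw [n1]
      apply Preadditive.mono_of_cancel_zero
      intro T t ht
      obtain ⟨s, hs⟩ : ∃ s : T ⟶ F.obj (I₁.cocomplex.X 0), s = t ≫ j F I₁ := ⟨_, rfl⟩
      have hs_d : s ≫ F.map (I₁.cocomplex.d 0 1) = 0 := by
        rw [hs, Category.assoc, j_d, comp_zero]
      have hs_φ : s ≫ F.map (φ.f 0) = 0 := by
        rw [hs, Category.assoc]; exact ht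
      have hs0 : s = 0 := by
        have h0 : s ≫ (F.map (φ.f 0) ≫ F.map ρ) =
            s ≫ (𝟙 _ + F.map (I₁.cocomplex.d 0 1) ≫ F.map h) := by rw [F1]
        rw [← Category.assoc, hs_φ, zero_comp, Preadditive.comp_add, Category.comp_id,
          ← Category.assoc, hs_d, zero_comp, add_zero] at h0
        exact h0.symm
      exact (cancel_mono (j F I₁)).1 (by rw [zero_comp, ← hs]; exact hs0)
    exact mono_of_mono _ (j F I₂)

end Groth.Agent.H23.RZero
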