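import Groth.Agent.H23.PCohCoh2
import Groth.Agent.H23.PCohInf2

/-!
# `D⁻(B) ≃ D⁻_P(A)` for an exact fully faithful functor `G : B ⥤ A` whose essential image `P`
is stable under kernels and quasi-liftable (helper23)
-/

open CategoryTheory CategoryTheory.Limits DerivedCategory

universe w w' v v' u u'

namespace Groth.Agent.H23.SerreDer

open Groth.Agent.H23.PCohLib

variable {A : Type u} [Category.{v} A] [Abelian A]
  {B : Type u'} [Category.{v'} B] [Abelian B]
  (G : B ⥤ A) [G.Additive] [G.Full] [G.Faithful]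

lemma isZero_of_map {Y : B} (h : IsZero (G.obj Y)) : IsZero Y := by
  rw [IsZero.iff_id_eq_zero]
  apply G.map_injective
  rw [CategoryTheory.Functor.map_id, G.map_zero]
  exact (IsZero.iff_id_eq_zero _).1 h

variable (P : ObjectProperty A)
  (hP : ∀ X : A, P X → ∃ Y : B, Nonempty (G.obj Y ≅ X))

include hP in
lemma exists_lift (E' : CochainComplex A ℤ) (h : ∀ i, P (E'.X i)) :
    ∃ (E : CochainComplex B ℤ),
      Nonempty ((G.mapHomologicalComplex (ComplexShape.up ℤ)).obj E ≅ E') := by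
  choose Y hY using fun i => hP (E'.X i) (h i)
  let α : ∀ i, G.obj (Y i) ≅ E'.X i := fun i => (hY i).some
  let E : CochainComplex B ℤ :=
    { X := Y
      d := fun i j => G.preimage ((α i).hom ≫ E'.d i j ≫ (α j).inv)
      shape := fun i j hij => by
        apply G.map_injective
        rw [G.map_preimage, E'.shape i j hij, G.map_zero, zero_comp, comp_zero]
      d_comp_d' := fun i j k _ _ => by
        apply G.map_injective
        rw [G.map_comp, G.map_preimage, G.map_preimage, G.map_zero]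
        simp }
  refine ⟨E, ⟨HomologicalComplex.Hom.isoOfComponents α ?_⟩⟩
  intro i j _
  rw [Functor.mapHomologicalComplex_obj_d]
  dsimp only [E]
  rw [G.map_preimage]
  have key : (α i).hom ≫ E'.d i j = ((α i).hom ≫ E'.d i j ≫ (α j).inv) ≫ (α j).hom := by simp
  exact key

/-- lifting a null-homotopy along a fully faithful additive functor -/
noncomputable def liftHomotopy {K L : CochainComplex B ℤ} (f : K ⟶ L)
    (h : Homotopy ((G.mapHomologicalComplex (ComplexShape.up ℤ)).map f) 0) : Homotopy f 0 where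
  hom i j := G.preimage (h.hom i j)
  zero i j hij := by
    apply G.map_injective
    rw [G.map_preimage, h.zero i j hij, G.map_zero]
    rfl
  comm i := by
    apply G.map_injective
    have h1 := h.comm i
    rw [dNext_eq _ (show (ComplexShape.up ℤ).Rel i (i + 1) from rfl),
      prevD_eq _ (show (ComplexShape.up ℤ).Rel (i - 1) i from by simp)] at h1 ⊢
    simp only [G.map_add, G.map_comp, G.map_preimage, HomologicalComplex.zero_f, G.map_zero]
    simp only [Functor.mapHomologicalComplex_map_f, Functor.mapHomologicalComplex_obj_d,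
      HomologicalComplex.zero_f, add_zero] at h1
    rw [add_zero]
    exact h1


section Der

variable [HasDerivedCategory.{w} A] [HasDerivedCategory.{w'} B]
  [PreservesFiniteLimits G] [PreservesFiniteColimits G]

lemma exists_qis_homotopy_zero {K L : CochainComplex A ℤ} (f : K ⟶ L) (h : Q.map f = 0) :
    ∃ (K' : CochainComplex A ℤ) (u : K' ⟶ K), QuasiIso u ∧ Nonempty (Homotopy (u ≫ f) 0) := by
  have h1 : Qh.map ((HomotopyCategory.quotient A (ComplexShape.up ℤ)).map f) =
      Qh.map ((HomotopyCategory.quotient A (ComplexShape.up ℤ)).map 0) := by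
    have hu := (quotientCompQhIso A).hom.naturality f
    have hv := (quotientCompQhIso A).hom.naturality (0 : K ⟶ L)
    rw [← cancel_mono ((quotientCompQhIso A).hom.app L)]
    refine hu.trans ((congrArg (fun t => (quotientCompQhIso A).hom.app K ≫ t) ?_).trans hv.symm)
    rw [h, Q.map_zero]
  rw [MorphismProperty.map_eq_iff_precomp Qh
    (HomotopyCategory.quasiIso A (ComplexShape.up ℤ))] at h1
  obtain ⟨Z, s, hs, hfac⟩ := h1
  obtain ⟨K', rfl⟩ := HomotopyCategory.quotient_obj_surjective Z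
  obtain ⟨u, rfl⟩ := (HomotopyCategory.quotient A (ComplexShape.up ℤ)).map_surjective s
  rw [HomotopyCategory.quotient_map_mem_quasiIso_iff] at hs
  refine ⟨K', u, (HomologicalComplex.mem_quasiIso_iff u).1 hs, ⟨?_⟩⟩
  apply HomotopyCategory.homotopyOfEq
  rw [CategoryTheory.Functor.map_comp, hfac, Functor.map_zero, comp_zero, Functor.map_zero]

variable [P.IsClosedUnderIsomorphisms] [P.ContainsZero]
  (hG : ∀ Y : B, P (G.obj Y))
  (hsum : ∀ X Y : A, P X → P Y → P (X ⨯ Y))
  (hker : ∀ (X E : A) (u : E ⟶ X), P X → P E → P (Limits.kernel u))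
  (hql : PCoh.IsQuasiLiftable P)

include hG in
lemma prop_homology_map (M : CochainComplex B ℤ) (i : ℤ) :
    P (((G.mapHomologicalComplex (ComplexShape.up ℤ)).obj M).homology i) :=
  P.prop_of_iso ((M.sc i).mapHomologyIso G).symm (hG _)

include hP hsum hker hql in
theorem exists_res (X : CochainComplex A ℤ) (b : ℤ) (hX : ∀ i, P (X.homology i))
    (hb : ∀ i, b < i → IsZero (X.homology i)) :
    ∃ (E : CochainComplex B ℤ) (t : (G.mapHomologicalComplex (ComplexShape.up ℤ)).obj E ⟶ X),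
      E.IsStrictlyLE b ∧ QuasiIso t := by
  have hcoh : ∀ (X E : A) (u : E ⟶ X), P X → P E → PCoh.IsOfFiniteType P (Limits.kernel u) :=
    fun X E u hX hE => ⟨_, 𝟙 _, hker X E u hX hE, inferInstance⟩
  have hqs := quasiStable_of_coh P hcoh
  have iso : ∀ i, (homologyFunctor A i).obj (Q.obj X) ≅ X.homology i := fun i =>
    (homologyFunctorFactors A i).app X
  have hXD : ∀ i, P ((homologyFunctor A i).obj (Q.obj X)) := fun i =>
    P.prop_of_iso (iso i).symm (hX i)
  have hft : ∀ i, PCoh.IsOfFiniteType P ((homologyFunctor A i).obj (Q.obj X)) := fun i =>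
    ⟨_, 𝟙 _, hXD i, inferInstance⟩
  have hF : ∀ n, NPC P n (Q.obj X) := fun n =>
    (npc_iff_coh P hcoh hsum hql n (Q.obj X) b
      (fun i hi => IsZero.of_iso (hb i hi) (iso i))).2
      ⟨hft n, fun i _ => ⟨hft i, preCoh_of_P P hcoh (hXD i)⟩⟩
  obtain ⟨E', t', h1, h2, h3⟩ := exists_resolution_zero P hsum hqs hql X hF b hb
  obtain ⟨E, ⟨e⟩⟩ := exists_lift G P hP E' h1
  refine ⟨E, e.hom ≫ t', ?_, ?_⟩
  · rw [CochainComplex.isStrictlyLE_iff]
    intro i hi
    exact isZero_of_map G (IsZero.of_iso (h2 i hi)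
      ((HomologicalComplex.eval _ _ i).mapIso e))
  · haveI := h3
    infer_instance

include hP hsum hker hql in
theorem essSurj (K : DerivedCategory A) (b : ℤ) [K.IsLE b]
    (hK : ∀ n, P ((homologyFunctor A n).obj K)) :
    ∃ M : DerivedCategory B, M.IsLE b ∧ Nonempty (G.mapDerivedCategory.obj M ≅ K) := by
  obtain ⟨X, hX, ⟨e⟩⟩ := DerivedCategory.exists_iso_Q_obj_of_isLE K b
  have iso : ∀ i, X.homology i ≅ (homologyFunctor A i).obj K := fun i =>
    ((homologyFunctorFactors A i).app X).symm ≪≫ (homologyFunctor A i).mapIso e.symm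
  obtain ⟨E, t, hE, ht⟩ := exists_res G P hP hsum hker hql X b
    (fun i => P.prop_of_iso (iso i).symm (hK i))
    (fun i hi => isZero_homology_of_isZero_X X i (X.isZero_of_isStrictlyLE b i hi))
  haveI := hE
  haveI : IsIso (Q.map t) := (isIso_Q_map_iff_quasiIso A t).2 ht
  exact ⟨Q.obj E, inferInstance,
    ⟨G.mapDerivedCategoryFactors.app E ≪≫ asIso (Q.map t) ≪≫ e.symm⟩⟩


include hG hP hsum hker hql in
theorem surj₀ (M₀ N₀ : CochainComplex B ℤ) (b : ℤ) [M₀.IsStrictlyLE b]
    (ψ : G.mapDerivedCategory.obj (Q.obj M₀) ⟶ G.mapDerivedCategory.obj (Q.obj N₀)) :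
    ∃ φ : Q.obj M₀ ⟶ Q.obj N₀, G.mapDerivedCategory.map φ = ψ := by
  let ψ' : Q.obj ((G.mapHomologicalComplex (ComplexShape.up ℤ)).obj M₀) ⟶
      Q.obj ((G.mapHomologicalComplex (ComplexShape.up ℤ)).obj N₀) :=
    G.mapDerivedCategoryFactors.inv.app M₀ ≫ ψ ≫ G.mapDerivedCategoryFactors.hom.app N₀
  have hψ : ψ ≫ G.mapDerivedCategoryFactors.hom.app N₀ =
      G.mapDerivedCategoryFactors.hom.app M₀ ≫ ψ' := by
    dsimp only [ψ']
    rw [Iso.hom_inv_id_app_assoc]
  obtain ⟨X', hX', s, hs, g, hfac⟩ := DerivedCategory.right_fac_of_isStrictlyLE ψ' b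
  have hsq : QuasiIso s := (isIso_Q_map_iff_quasiIso A s).1 hs
  have isoH : ∀ i, X'.homology i ≅
      ((G.mapHomologicalComplex (ComplexShape.up ℤ)).obj M₀).homology i :=
    fun i => asIso (HomologicalComplex.homologyMap s i)
  obtain ⟨E₁, t₁, hE₁, ht₁⟩ := exists_res G P hP hsum hker hql X' b
    (fun i => P.prop_of_iso (isoH i).symm (prop_homology_map G P hG M₀ i))
    (fun i hi => isZero_homology_of_isZero_X X' i (X'.isZero_of_isStrictlyLE b i hi))
  let s₁ : E₁ ⟶ M₀ := (G.mapHomologicalComplex (ComplexShape.up ℤ)).preimage (t₁ ≫ s)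
  let g₁ : E₁ ⟶ N₀ := (G.mapHomologicalComplex (ComplexShape.up ℤ)).preimage (t₁ ≫ g)
  have hs₁ : (G.mapHomologicalComplex (ComplexShape.up ℤ)).map s₁ = t₁ ≫ s :=
    Functor.map_preimage _ _
  have hg₁ : (G.mapHomologicalComplex (ComplexShape.up ℤ)).map g₁ = t₁ ≫ g :=
    Functor.map_preimage _ _
  have hqs₁ : QuasiIso s₁ := by
    rw [← HomologicalComplex.quasiIso_map_iff_of_preservesHomology s₁ G, hs₁]
    infer_instance
  haveI : IsIso (Q.map s₁) := (isIso_Q_map_iff_quasiIso B s₁).2 hqs₁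
  haveI : IsIso (Q.map t₁) := (isIso_Q_map_iff_quasiIso A t₁).2 ht₁
  refine ⟨inv (Q.map s₁) ≫ Q.map g₁, ?_⟩
  rw [← cancel_epi (G.mapDerivedCategory.map (Q.map s₁)), ← CategoryTheory.Functor.map_comp,
    IsIso.hom_inv_id_assoc]
  rw [← cancel_mono (G.mapDerivedCategoryFactors.hom.app N₀), Category.assoc, hψ, hfac]
  have n1 := G.mapDerivedCategoryFactors_hom_naturality s₁
  have n2 := G.mapDerivedCategoryFactors_hom_naturality g₁
  rw [hs₁, Q.map_comp] at n1
  rw [hg₁, Q.map_comp] at n2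
  rw [n2, reassoc_of% n1, IsIso.hom_inv_id_assoc]

include hG hP hsum hker hql in
theorem inj₀ (M₀ N₀ : CochainComplex B ℤ) (b : ℤ) [M₀.IsStrictlyLE b]
    (φ : Q.obj M₀ ⟶ Q.obj N₀) (hφ : G.mapDerivedCategory.map φ = 0) : φ = 0 := by
  obtain ⟨X', hX', s, hs, f, hfac⟩ := DerivedCategory.right_fac_of_isStrictlyLE φ b
  haveI := hs
  have h0 : G.mapDerivedCategory.map (Q.map f) = 0 := by
    have : Q.map f = Q.map s ≫ φ := by rw [hfac, IsIso.hom_inv_id_assoc]
    rw [this, CategoryTheory.Functor.map_comp, hφ, comp_zero]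
  have h1 : Q.map ((G.mapHomologicalComplex (ComplexShape.up ℤ)).map f) = 0 := by
    have n := G.mapDerivedCategoryFactors_hom_naturality f
    rw [h0, zero_comp] at n
    rw [← cancel_epi (G.mapDerivedCategoryFactors.hom.app X'), ← n, comp_zero]
  obtain ⟨K', u, hu, ⟨hh⟩⟩ := exists_qis_homotopy_zero _ h1
  have isoH : ∀ i, K'.homology i ≅
      ((G.mapHomologicalComplex (ComplexShape.up ℤ)).obj X').homology i :=
    fun i => asIso (HomologicalComplex.homologyMap u i)
  obtain ⟨E₂, t₂, hE₂, ht₂⟩ := exists_res G P hP hsum hker hql K' b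
    (fun i => P.prop_of_iso (isoH i).symm (prop_homology_map G P hG X' i))
    (fun i hi => IsZero.of_iso (isZero_homology_of_isZero_X _ i
      (CochainComplex.isZero_of_isStrictlyLE
        ((G.mapHomologicalComplex (ComplexShape.up ℤ)).obj X') b i hi))
      (isoH i))
  let s₂ : E₂ ⟶ X' := (G.mapHomologicalComplex (ComplexShape.up ℤ)).preimage (t₂ ≫ u)
  have hs₂ : (G.mapHomologicalComplex (ComplexShape.up ℤ)).map s₂ = t₂ ≫ u :=
    Functor.map_preimage _ _
  have hqs₂ : QuasiIso s₂ := by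
    rw [← HomologicalComplex.quasiIso_map_iff_of_preservesHomology s₂ G, hs₂]
    infer_instance
  haveI : IsIso (Q.map s₂) := (isIso_Q_map_iff_quasiIso B s₂).2 hqs₂
  have e : (G.mapHomologicalComplex (ComplexShape.up ℤ)).map (s₂ ≫ f) =
      t₂ ≫ u ≫ (G.mapHomologicalComplex (ComplexShape.up ℤ)).map f := by
    rw [CategoryTheory.Functor.map_comp, hs₂, Category.assoc]
  have hh' : Homotopy ((G.mapHomologicalComplex (ComplexShape.up ℤ)).map (s₂ ≫ f)) 0 :=
    (Homotopy.ofEq e).trans ((hh.compLeft t₂).trans (Homotopy.ofEq comp_zero))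
  have hh'' := liftHomotopy G (s₂ ≫ f) hh'
  have h2 := DerivedCategory.Q_map_eq_of_homotopy B hh''
  rw [Q.map_comp, Q.map_zero] at h2
  have h3 : Q.map f = 0 := by
    rw [← cancel_epi (Q.map s₂), h2, comp_zero]
  rw [hfac, h3, comp_zero]

include hG hP hsum hker hql in
theorem bijective (M N : DerivedCategory B) (b : ℤ) [M.IsLE b] [N.IsLE b] :
    Function.Bijective (fun φ : M ⟶ N => G.mapDerivedCategory.map φ) := by
  obtain ⟨M₀, hM₀, ⟨eM⟩⟩ := DerivedCategory.exists_iso_Q_obj_of_isLE M b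
  obtain ⟨N₀, hN₀, ⟨eN⟩⟩ := DerivedCategory.exists_iso_Q_obj_of_isLE N b
  constructor
  · intro φ φ' h
    have h' : G.mapDerivedCategory.map φ = G.mapDerivedCategory.map φ' := h
    have h0 : G.mapDerivedCategory.map (eM.inv ≫ (φ - φ') ≫ eN.hom) = 0 := by
      rw [CategoryTheory.Functor.map_comp, CategoryTheory.Functor.map_comp, Functor.map_sub, h',
        sub_self, zero_comp, comp_zero]
    have h1 := inj₀ G P hP hG hsum hker hql M₀ N₀ b _ h0
    have h2 : φ - φ' = 0 := by
      rw [← cancel_epi eM.inv, ← cancel_mono eN.hom, Category.assoc, h1, comp_zero, zero_comp]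
    exact sub_eq_zero.1 h2
  · intro ψ
    obtain ⟨φ₀, hφ₀⟩ := surj₀ G P hP hG hsum hker hql M₀ N₀ b
      (G.mapDerivedCategory.map eM.inv ≫ ψ ≫ G.mapDerivedCategory.map eN.hom)
    refine ⟨eM.hom ≫ φ₀ ≫ eN.inv, ?_⟩
    show G.mapDerivedCategory.map (eM.hom ≫ φ₀ ≫ eN.inv) = ψ
    rw [CategoryTheory.Functor.map_comp, CategoryTheory.Functor.map_comp, hφ₀]
    simp

end Der

end Groth.Agent.H23.SerreDer
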