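import Mathlib

/-!
# Lifting complexes along a Serre quotient functor (helper23)

Every cochain complex in a Serre quotient `A/P` is isomorphic to the image of a cochain complex
of `A`.
-/

open CategoryTheory CategoryTheory.Limits

universe v v' u u'

namespace Groth.Agent.H23.SerreLift

variable {A : Type u} [Category.{v} A] [Abelian A] (P : ObjectProperty A) [P.IsSerreClass]
  {B : Type u'} [Category.{v'} B] [Abelian B]
  (L : A ⥤ B) [L.IsLocalization P.isoModSerre] [L.Additive]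

include P in
lemma step_right {X' X : A} (g : X' ⟶ X) {Y : B} (d : L.obj X ⟶ Y) (w : L.map g ≫ d = 0) :
    ∃ (X'' : A) (h : X ⟶ X'') (e : L.obj X'' ≅ Y), L.map h ≫ e.hom = d ∧ g ≫ h = 0 := by
  haveI : L.EssSurj := Localization.essSurj L P.isoModSerre
  let e₁ : L.obj (L.objPreimage Y) ≅ Y := L.objObjPreimageIso Y
  obtain ⟨φ, hφ⟩ := Localization.exists_leftFraction L P.isoModSerre (d ≫ e₁.inv)
  haveI hs : IsIso (L.map φ.s) := Localization.inverts L P.isoModSerre φ.s φ.hs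
  have h1 : (d ≫ e₁.inv) ≫ L.map φ.s = L.map φ.f := by
    rw [hφ]
    exact φ.map_comp_map_s L (Localization.inverts L P.isoModSerre)
  let e₂ : L.obj φ.Y' ≅ Y := (asIso (L.map φ.s)).symm ≪≫ e₁
  have h2 : L.map φ.f ≫ e₂.hom = d := by
    rw [← h1]
    simp [e₂]
  have h3 : L.map (g ≫ φ.f) = 0 := by
    rw [L.map_comp, ← cancel_mono e₂.hom, Category.assoc, h2, w, zero_comp]
  obtain ⟨X'', s', hs', h4⟩ := (ObjectProperty.exists_comp_isoModSerre_eq_zero_iff P (g ≫ φ.f)).2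
    ((ObjectProperty.SerreClassLocalization.map_eq_zero_iff L P _).1 h3)
  haveI hs'' : IsIso (L.map s') := Localization.inverts L P.isoModSerre s' hs'
  refine ⟨X'', φ.f ≫ s', (asIso (L.map s')).symm ≪≫ e₂, ?_, ?_⟩
  · rw [← h2]
    simp
  · rw [← Category.assoc, h4]

include P in
lemma step_left {X X'' : A} (h : X ⟶ X'') {Y : B} (d : Y ⟶ L.obj X) (w : d ≫ L.map h = 0) :
    ∃ (X' : A) (g : X' ⟶ X) (e : L.obj X' ≅ Y), e.hom ≫ d = L.map g ∧ g ≫ h = 0 := by
  haveI : L.EssSurj := Localization.essSurj L P.isoModSerre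
  let e₁ : L.obj (L.objPreimage Y) ≅ Y := L.objObjPreimageIso Y
  obtain ⟨φ, hφ⟩ := Localization.exists_rightFraction L P.isoModSerre (e₁.hom ≫ d)
  haveI hs : IsIso (L.map φ.s) := Localization.inverts L P.isoModSerre φ.s φ.hs
  have h1 : L.map φ.s ≫ (e₁.hom ≫ d) = L.map φ.f := by
    rw [hφ]
    exact φ.map_s_comp_map L (Localization.inverts L P.isoModSerre)
  let e₂ : L.obj φ.X' ≅ Y := asIso (L.map φ.s) ≪≫ e₁
  have h2 : e₂.hom ≫ d = L.map φ.f := by
    rw [← h1]
    simp [e₂]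
  have h3 : L.map (φ.f ≫ h) = 0 := by
    rw [L.map_comp, ← h2, Category.assoc, w, comp_zero]
  obtain ⟨X', s', hs', h4⟩ := (ObjectProperty.exists_isoModSerre_comp_eq_zero_iff P (φ.f ≫ h)).2
    ((ObjectProperty.SerreClassLocalization.map_eq_zero_iff L P _).1 h3)
  haveI hs'' : IsIso (L.map s') := Localization.inverts L P.isoModSerre s' hs'
  refine ⟨X', s' ≫ φ.f, asIso (L.map s') ≪≫ e₂, ?_, ?_⟩
  · rw [L.map_comp, ← h2]
    simp
  · rw [Category.assoc, h4]

variable (Y : CochainComplex B ℤ)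

/-- right-moving state at degree `n` -/
structure RS (n : ℤ) where
  X' : A
  X : A
  g : X' ⟶ X
  e : L.obj X ≅ Y.X n
  w : L.map g ≫ e.hom ≫ Y.d n (n + 1) = 0

/-- left-moving state at degree `n` -/
structure LS (n : ℤ) where
  X : A
  X'' : A
  h : X ⟶ X''
  e : L.obj X ≅ Y.X n
  w : ∀ j : ℤ, Y.d j n ≫ e.inv ≫ L.map h = 0

variable {L Y}

/-- data of a right step -/
structure RStep {n : ℤ} (s : RS L Y n) where
  X'' : A
  h : s.X ⟶ X''
  e : L.obj X'' ≅ Y.X (n + 1)
  fac : L.map h ≫ e.hom = s.e.hom ≫ Y.d n (n + 1)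
  zero : s.g ≫ h = 0

include P in
lemma RS.nonempty_step {n : ℤ} (s : RS L Y n) : Nonempty (RStep s) := by
  obtain ⟨X'', h, e, h1, h2⟩ := step_right P L s.g (s.e.hom ≫ Y.d n (n + 1)) s.w
  exact ⟨⟨X'', h, e, h1, h2⟩⟩

/-- a chosen right step -/
noncomputable def RS.step {n : ℤ} (s : RS L Y n) : RStep s := (s.nonempty_step P).some

/-- the next state -/
noncomputable def RS.next {n : ℤ} (s : RS L Y n) : RS L Y (n + 1) where
  X' := s.X
  X := (s.step P).X''
  g := (s.step P).h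
  e := (s.step P).e
  w := by
    rw [reassoc_of% (s.step P).fac, Y.d_comp_d, comp_zero]

lemma RS.next_spec {n : ℤ} (s : RS L Y n) :
    L.map (s.next P).g ≫ (s.next P).e.hom = s.e.hom ≫ Y.d n (n + 1) :=
  (s.step P).fac

lemma RS.next_comp {n : ℤ} (s : RS L Y n) : s.g ≫ (s.next P).g = 0 :=
  (s.step P).zero

/-- data of a left step -/
structure LStep {n : ℤ} (s : LS L Y (n + 1)) where
  X' : A
  g : X' ⟶ s.X
  e : L.obj X' ≅ Y.X n
  fac : e.hom ≫ Y.d n (n + 1) ≫ s.e.inv = L.map g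
  zero : g ≫ s.h = 0

include P in
lemma LS.nonempty_step {n : ℤ} (s : LS L Y (n + 1)) : Nonempty (LStep s) := by
  obtain ⟨X', g, e, h1, h2⟩ := step_left P L s.h (Y.d n (n + 1) ≫ s.e.inv) (by
    rw [Category.assoc]
    exact s.w n)
  exact ⟨⟨X', g, e, h1, h2⟩⟩

/-- a chosen left step -/
noncomputable def LS.step {n : ℤ} (s : LS L Y (n + 1)) : LStep s := (s.nonempty_step P).some

/-- the previous state -/
noncomputable def LS.prev {n : ℤ} (s : LS L Y (n + 1)) : LS L Y n where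
  X := (s.step P).X'
  X'' := s.X
  h := (s.step P).g
  e := (s.step P).e
  w j := by
    rw [← (s.step P).fac, Iso.inv_hom_id_assoc, Y.d_comp_d_assoc, zero_comp]

lemma LS.prev_spec {n : ℤ} (s : LS L Y (n + 1)) :
    L.map (s.prev P).h ≫ s.e.hom = (s.prev P).e.hom ≫ Y.d n (n + 1) := by
  show L.map (s.step P).g ≫ s.e.hom = (s.step P).e.hom ≫ Y.d n (n + 1)
  rw [← (s.step P).fac, Category.assoc, Category.assoc, Iso.inv_hom_id, Category.comp_id]

lemma LS.prev_comp {n : ℤ} (s : LS L Y (n + 1)) : (s.prev P).h ≫ s.h = 0 :=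
  (s.step P).zero


section Assembly

lemma inv_comp_of_comm {C : Type*} [Category C] {a b c d : C} (e0 : a ≅ b) (e1 : c ≅ d)
    (f : a ⟶ c) (δ : b ⟶ d) (h : f ≫ e1.hom = e0.hom ≫ δ) : e0.inv ≫ f = δ ≫ e1.inv := by
  rw [Iso.inv_comp_eq, ← Category.assoc, Iso.eq_comp_inv, h]

variable (L Y)

include P in
lemma exists_obj (Z : B) : ∃ X : A, Nonempty (L.obj X ≅ Z) := by
  haveI : L.EssSurj := Localization.essSurj L P.isoModSerre
  exact ⟨L.objPreimage Z, ⟨L.objObjPreimageIso Z⟩⟩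

/-- initial right state -/
noncomputable def r0 : RS L Y 0 where
  X' := (exists_obj P L (Y.X 0)).choose
  X := (exists_obj P L (Y.X 0)).choose
  g := 0
  e := (exists_obj P L (Y.X 0)).choose_spec.some
  w := by rw [L.map_zero, zero_comp]

/-- right states -/
noncomputable def r : ∀ k : ℕ, RS L Y (Int.ofNat k)
  | 0 => r0 P L Y
  | k + 1 => (r k).next P

/-- initial left state -/
noncomputable def l0 : LS L Y 0 where
  X := (r P L Y 0).X
  X'' := (r P L Y 1).X
  h := (r P L Y 1).g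
  e := (r P L Y 0).e
  w j := by
    have h1 : L.map (r P L Y 1).g ≫ (r P L Y 1).e.hom = (r P L Y 0).e.hom ≫ Y.d 0 1 :=
      (r P L Y 0).next_spec P
    have h2 := inv_comp_of_comm (r P L Y 0).e (r P L Y 1).e (L.map (r P L Y 1).g) (Y.d 0 1) h1
    exact (congrArg (fun t => Y.d j 0 ≫ t) h2).trans (by rw [Y.d_comp_d_assoc, zero_comp])

/-- left states -/
noncomputable def l : ∀ k : ℕ, LS L Y (Int.negSucc k)
  | 0 => LS.prev P (n := Int.negSucc 0) (l0 P L Y)
  | k + 1 => LS.prev P (n := Int.negSucc (k + 1)) (l k)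

/-- objects of the lifted complex -/
noncomputable def XZ : ℤ → A
  | Int.ofNat k => (r P L Y k).X
  | Int.negSucc k => (l P L Y k).X

/-- differentials of the lifted complex -/
noncomputable def dZ : ∀ n : ℤ, XZ P L Y n ⟶ XZ P L Y (n + 1)
  | Int.ofNat k => (r P L Y (k + 1)).g
  | Int.negSucc 0 => (l P L Y 0).h
  | Int.negSucc (k + 1) => (l P L Y (k + 1)).h

/-- comparison isomorphisms -/
noncomputable def eZ : ∀ n : ℤ, L.obj (XZ P L Y n) ≅ Y.X n
  | Int.ofNat k => (r P L Y k).e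
  | Int.negSucc k => (l P L Y k).e

lemma sqZ : ∀ n : ℤ, dZ P L Y n ≫ dZ P L Y (n + 1) = 0
  | Int.ofNat k => (r P L Y (k + 1)).next_comp P
  | Int.negSucc 0 => LS.prev_comp P (n := Int.negSucc 0) (l0 P L Y)
  | Int.negSucc 1 => LS.prev_comp P (n := Int.negSucc 1) (l P L Y 0)
  | Int.negSucc (k + 2) => LS.prev_comp P (n := Int.negSucc (k + 2)) (l P L Y (k + 1))

lemma commZ : ∀ n : ℤ,
    L.map (dZ P L Y n) ≫ (eZ P L Y (n + 1)).hom = (eZ P L Y n).hom ≫ Y.d n (n + 1)
  | Int.ofNat k => (r P L Y k).next_spec P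
  | Int.negSucc 0 => LS.prev_spec P (n := Int.negSucc 0) (l0 P L Y)
  | Int.negSucc (k + 1) => LS.prev_spec P (n := Int.negSucc (k + 1)) (l P L Y k)

/-- the lifted complex -/
noncomputable def XC : CochainComplex A ℤ :=
  CochainComplex.of (XZ P L Y) (dZ P L Y) (sqZ P L Y)

/-- the lifted complex maps to `Y` -/
noncomputable def isoC : (L.mapHomologicalComplex (ComplexShape.up ℤ)).obj (XC P L Y) ≅ Y :=
  HomologicalComplex.Hom.isoOfComponents (eZ P L Y) (by
    intro i j hij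
    have hij' : i + 1 = j := hij
    subst hij'
    rw [Functor.mapHomologicalComplex_obj_d]
    have h1 : (XC P L Y).d i (i + 1) = dZ P L Y i := CochainComplex.of_d _ _ _
    rw [h1]
    exact (commZ P L Y i).symm)

include P in
theorem exists_lift : ∃ X : CochainComplex A ℤ,
    Nonempty ((L.mapHomologicalComplex (ComplexShape.up ℤ)).obj X ≅ Y) :=
  ⟨XC P L Y, ⟨isoC P L Y⟩⟩

end Assembly

end Groth.Agent.H23.SerreLift
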