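import Mathlib

/-!
# `D(A) ⥤ D(A/P)` is a Verdier localization when the quotient functor has a fully faithful
left adjoint (helper23)
-/

open CategoryTheory CategoryTheory.Limits

universe w w' v v' u u'

namespace Groth.Agent.H23.SerreLoc

section General

open Localization Functor

variable {C₁ : Type*} {C₂ : Type*} [Category C₁] [Category C₂]
  {W₁ : MorphismProperty C₁} {W₂ : MorphismProperty C₂}

/-- variant of `LocalizerMorphism.isLocalizedEquivalence_of_unit_of_unit` with the natural
transformations in the other direction -/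
lemma isLocalizedEquivalence_of_counit_of_counit (Φ : LocalizerMorphism W₁ W₂)
    (Ψ : LocalizerMorphism W₂ W₁)
    (ε₁ : Φ.functor ⋙ Ψ.functor ⟶ 𝟭 C₁) (ε₂ : Ψ.functor ⋙ Φ.functor ⟶ 𝟭 C₂)
    (hε₁ : ∀ X₁, W₁ (ε₁.app X₁)) (hε₂ : ∀ X₂, W₂ (ε₂.app X₂)) :
    Φ.IsLocalizedEquivalence where
  isEquivalence := by
    have : IsIso (whiskerRight ε₁ W₁.Q) := by
      rw [NatTrans.isIso_iff_isIso_app]
      exact fun _ ↦ Localization.inverts W₁.Q W₁ _ (hε₁ _)
    have : IsIso (whiskerRight ε₂ W₂.Q) := by
      rw [NatTrans.isIso_iff_isIso_app]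
      exact fun _ ↦ Localization.inverts W₂.Q W₂ _ (hε₂ _)
    refine (Localization.equivalence W₁.Q W₁ W₂.Q W₂ (Φ.functor ⋙ W₂.Q)
      (Φ.localizedFunctor W₁.Q W₂.Q)
      (Ψ.functor ⋙ W₁.Q) (Ψ.localizedFunctor W₂.Q W₁.Q) ?_ ?_).isEquivalence_functor
    · exact Functor.associator _ _ _ ≪≫
        isoWhiskerLeft _ (CatCommSq.iso Ψ.functor W₂.Q W₁.Q _).symm ≪≫
        (Functor.associator _ _ _).symm ≪≫
        (asIso (whiskerRight ε₁ W₁.Q)) ≪≫ Functor.leftUnitor _
    · exact Functor.associator _ _ _ ≪≫
        isoWhiskerLeft _ (CatCommSq.iso Φ.functor W₁.Q W₂.Q _).symm ≪≫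
        (Functor.associator _ _ _).symm ≪≫
        (asIso (whiskerRight ε₂ W₂.Q)) ≪≫ Functor.leftUnitor _

end General


section Derived

open DerivedCategory
open scoped ZeroObject

lemma isZero_iff_homology {B : Type u'} [Category.{v'} B] [Abelian B] [HasDerivedCategory.{w'} B]
    (Z : DerivedCategory B) :
    IsZero Z ↔ ∀ n : ℤ, IsZero ((homologyFunctor B n).obj Z) := by
  constructor
  · intro h n
    exact Functor.map_isZero _ h
  · intro h
    have : IsIso (0 : Z ⟶ 0) := by
      rw [DerivedCategory.isIso_iff]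
      intro n
      exact ⟨⟨0, (h n).eq_of_src _ _,
        (Functor.map_isZero (homologyFunctor B n) (isZero_zero _)).eq_of_src _ _⟩⟩
    exact IsZero.of_iso (isZero_zero _) (asIso (0 : Z ⟶ 0))

variable {A : Type u} [Category.{v} A] [Abelian A] [HasDerivedCategory.{w} A]
  (P : ObjectProperty A) [P.IsSerreClass]
  {B : Type u'} [Category.{v'} B] [Abelian B] [HasDerivedCategory.{w'} B]
  (F : A ⥤ B) [F.IsLocalization P.isoModSerre] [F.Additive] [PreservesFiniteLimits F]
  [PreservesFiniteColimits F]

include P in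
lemma isZero_map_iff (Z : DerivedCategory A) :
    IsZero (F.mapDerivedCategory.obj Z) ↔ ∀ n : ℤ, P ((homologyFunctor A n).obj Z) := by
  let K := (Q (C := A)).objPreimage Z
  let e : Q.obj K ≅ Z := (Q (C := A)).objObjPreimageIso Z
  have iso1 : ∀ n, (homologyFunctor B n).obj (F.mapDerivedCategory.obj Z) ≅
      ((F.mapHomologicalComplex (ComplexShape.up ℤ)).obj K).homology n := fun n =>
    (homologyFunctor B n).mapIso (F.mapDerivedCategory.mapIso e.symm ≪≫
      F.mapDerivedCategoryFactors.app K) ≪≫
    (homologyFunctorFactors B n).app ((F.mapHomologicalComplex (ComplexShape.up ℤ)).obj K)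
  have iso2 : ∀ n, ((F.mapHomologicalComplex (ComplexShape.up ℤ)).obj K).homology n ≅
      F.obj (K.homology n) := fun n => (K.sc n).mapHomologyIso F
  have iso3 : ∀ n, K.homology n ≅ (homologyFunctor A n).obj Z := fun n =>
    ((homologyFunctorFactors A n).app K).symm ≪≫ (homologyFunctor A n).mapIso e
  rw [isZero_iff_homology]
  refine forall_congr' fun n => ?_
  rw [Iso.isZero_iff (iso1 n ≪≫ iso2 n ≪≫ F.mapIso (iso3 n))]
  exact ObjectProperty.SerreClassLocalization.isZero_obj_iff F P _

variable (G : B ⥤ A) [G.Additive]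

/-- the termwise counit -/
noncomputable def counitC (adj : G ⊣ F) : F.mapHomologicalComplex (ComplexShape.up ℤ) ⋙
    G.mapHomologicalComplex (ComplexShape.up ℤ) ⟶ 𝟭 (CochainComplex A ℤ) where
  app K :=
    { f := fun i => adj.counit.app (K.X i)
      comm' := fun i j _ => (adj.counit.naturality (K.d i j)).symm }
  naturality K K' φ := by
    ext i
    exact adj.counit.naturality (φ.f i)

lemma inv_comm {C : Type*} [Category C] {a b c d : C} (e0 : a ≅ b) (e1 : c ≅ d)
    (f : a ⟶ c) (g : b ⟶ d) (h : f ≫ e1.hom = e0.hom ≫ g) : e0.inv ≫ f = g ≫ e1.inv := by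
  rw [Iso.inv_comp_eq, ← Category.assoc, Iso.eq_comp_inv, h]

/-- the unit as an isomorphism -/
noncomputable def unitIsoApp (adj : G ⊣ F) [IsIso adj.unit] (X : B) : X ≅ F.obj (G.obj X) := by
  have e := asIso (adj.unit.app X)
  exact e

/-- the termwise inverse of the unit -/
noncomputable def unitInvC (adj : G ⊣ F) [IsIso adj.unit] :
    G.mapHomologicalComplex (ComplexShape.up ℤ) ⋙
      F.mapHomologicalComplex (ComplexShape.up ℤ) ⟶ 𝟭 (CochainComplex B ℤ) where
  app K :=
    { f := fun i => (unitIsoApp F G adj (K.X i)).inv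
      comm' := fun i j _ =>
        inv_comm (unitIsoApp F G adj (K.X i)) (unitIsoApp F G adj (K.X j)) (K.d i j)
          (F.map (G.map (K.d i j))) (adj.unit.naturality (K.d i j)) }
  naturality K K' φ := by
    ext i
    exact (inv_comm (unitIsoApp F G adj (K.X i)) (unitIsoApp F G adj (K'.X i)) (φ.f i)
      (F.map (G.map (φ.f i))) (adj.unit.naturality (φ.f i))).symm

instance (adj : G ⊣ F) [IsIso adj.unit] (K : CochainComplex B ℤ) :
    IsIso ((unitInvC F G adj).app K) := by
  haveI : ∀ i, IsIso (((unitInvC F G adj).app K).f i) := fun i => by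
    dsimp [unitInvC]
    infer_instance
  exact HomologicalComplex.Hom.isIso_of_components _

lemma isIso_map_counit (adj : G ⊣ F) [IsIso adj.unit] (X : A) :
    IsIso (F.map (adj.counit.app X)) := by
  have h := adj.right_triangle_components X
  rw [← IsIso.inv_eq_of_hom_inv_id h]
  infer_instance

instance (adj : G ⊣ F) [IsIso adj.unit] (K : CochainComplex A ℤ) :
    IsIso ((F.mapHomologicalComplex (ComplexShape.up ℤ)).map ((counitC F G adj).app K)) := by
  haveI : ∀ i, IsIso (((F.mapHomologicalComplex (ComplexShape.up ℤ)).map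
      ((counitC F G adj).app K)).f i) := fun i => by
    dsimp [counitC]
    exact isIso_map_counit F G adj _
  exact HomologicalComplex.Hom.isIso_of_components _

/-- the class of morphisms of complexes of `A` which become quasi-isomorphisms in `B` -/
def W₃ : MorphismProperty (CochainComplex A ℤ) :=
  (HomologicalComplex.quasiIso B (ComplexShape.up ℤ)).inverseImage
    (F.mapHomologicalComplex (ComplexShape.up ℤ))

/-- the localizer morphism given by `F` termwise -/
def Φ : LocalizerMorphism (W₃ F) (HomologicalComplex.quasiIso B (ComplexShape.up ℤ)) where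
  functor := F.mapHomologicalComplex (ComplexShape.up ℤ)
  map := le_rfl

/-- the localizer morphism given by `G` termwise -/
def Ψ (adj : G ⊣ F) [IsIso adj.unit] :
    LocalizerMorphism (HomologicalComplex.quasiIso B (ComplexShape.up ℤ)) (W₃ F) where
  functor := G.mapHomologicalComplex (ComplexShape.up ℤ)
  map := by
    intro K K' s hs
    show HomologicalComplex.quasiIso B (ComplexShape.up ℤ)
      ((F.mapHomologicalComplex (ComplexShape.up ℤ)).map
        ((G.mapHomologicalComplex (ComplexShape.up ℤ)).map s))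
    refine ((HomologicalComplex.quasiIso B (ComplexShape.up ℤ)).arrow_mk_iso_iff
      (Arrow.isoMk (asIso ((unitInvC F G adj).app K)) (asIso ((unitInvC F G adj).app K'))
        ?_)).2 hs
    exact ((unitInvC F G adj).naturality s).symm

lemma isLocalizedEquivalence_Φ (adj : G ⊣ F) [IsIso adj.unit] : (Φ F).IsLocalizedEquivalence :=
  isLocalizedEquivalence_of_counit_of_counit (Φ F) (Ψ F G adj) (counitC F G adj)
    (unitInvC F G adj)
    (fun K => by
      show HomologicalComplex.quasiIso B (ComplexShape.up ℤ)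
        ((F.mapHomologicalComplex (ComplexShape.up ℤ)).map ((counitC F G adj).app K))
      rw [HomologicalComplex.mem_quasiIso_iff]
      infer_instance)
    (fun K => by
      have h : HomologicalComplex.quasiIso B (ComplexShape.up ℤ) ((unitInvC F G adj).app K) := by
        rw [HomologicalComplex.mem_quasiIso_iff]
        infer_instance
      exact h)

lemma hW₁₃ : HomologicalComplex.quasiIso A (ComplexShape.up ℤ) ≤ W₃ F := by
  intro K L f hf
  rw [HomologicalComplex.mem_quasiIso_iff] at hf
  show HomologicalComplex.quasiIso B (ComplexShape.up ℤ)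
    ((F.mapHomologicalComplex (ComplexShape.up ℤ)).map f)
  rw [HomologicalComplex.mem_quasiIso_iff]
  infer_instance

include P in
lemma trW_eq :
    ObjectProperty.trW (fun X : DerivedCategory A => ∀ n : ℤ, P ((homologyFunctor A n).obj X)) =
      (W₃ F).map DerivedCategory.Q := by
  ext X Y f
  constructor
  · rintro ⟨Z, g, h, hT, hZ⟩
    have hZ0 : IsZero (F.mapDerivedCategory.obj Z) := (isZero_map_iff P F Z).2 hZ
    have hT' := F.mapDerivedCategory.map_distinguished _ hT
    have hiso : IsIso (F.mapDerivedCategory.map f) :=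
      (Pretriangulated.Triangle.isZero₃_iff_isIso₁ _ hT').1 hZ0
    let eX := (Q (C := A)).objObjPreimageIso X
    let eY := (Q (C := A)).objObjPreimageIso Y
    obtain ⟨K', s, hs, g', hfac⟩ := DerivedCategory.right_fac (eX.hom ≫ f ≫ eY.inv)
    haveI : IsIso (Q.map s) := hs
    have hcomm : Q.map g' = Q.map s ≫ eX.hom ≫ f ≫ eY.inv := by
      rw [hfac]; simp
    refine ⟨K', _, g', ?_, ⟨Arrow.isoMk (asIso (Q.map s) ≪≫ eX) eY ?_⟩⟩
    · show HomologicalComplex.quasiIso B (ComplexShape.up ℤ)
        ((F.mapHomologicalComplex (ComplexShape.up ℤ)).map g')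
      have key : IsIso (F.mapDerivedCategory.map (Q.map g')) ↔
          IsIso (Q.map ((F.mapHomologicalComplex (ComplexShape.up ℤ)).map g')) :=
        NatIso.isIso_map_iff F.mapDerivedCategoryFactors g'
      rw [HomologicalComplex.mem_quasiIso_iff, ← DerivedCategory.isIso_Q_map_iff_quasiIso,
        ← key]
      rw [hcomm]
      simp only [CategoryTheory.Functor.map_comp]
      infer_instance
    · dsimp
      rw [hcomm]
      simp
  · rintro ⟨K, L, g', hg', ⟨e⟩⟩
    refine ((ObjectProperty.trW (fun X : DerivedCategory A =>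
      ∀ n : ℤ, P ((homologyFunctor A n).obj X))).arrow_mk_iso_iff e).1 ?_
    obtain ⟨Z, g, h, hT⟩ := Pretriangulated.distinguished_cocone_triangle (Q.map g')
    refine ⟨Z, g, h, hT, (isZero_map_iff P F Z).1 ?_⟩
    have hT' := F.mapDerivedCategory.map_distinguished _ hT
    refine (Pretriangulated.Triangle.isZero₃_iff_isIso₁ _ hT').2 ?_
    show IsIso (F.mapDerivedCategory.map (Q.map g'))
    have hg'' : HomologicalComplex.quasiIso B (ComplexShape.up ℤ)
      ((F.mapHomologicalComplex (ComplexShape.up ℤ)).map g') := hg'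
    have key : IsIso (F.mapDerivedCategory.map (Q.map g')) ↔
        IsIso (Q.map ((F.mapHomologicalComplex (ComplexShape.up ℤ)).map g')) :=
      NatIso.isIso_map_iff F.mapDerivedCategoryFactors g'
    rw [HomologicalComplex.mem_quasiIso_iff, ← DerivedCategory.isIso_Q_map_iff_quasiIso,
      ← key] at hg''
    exact hg''

include P in
theorem isLocalization_mapDerivedCategory (adj : G ⊣ F) [IsIso adj.unit] :
    F.mapDerivedCategory.IsLocalization
      (ObjectProperty.trW
        (fun X : DerivedCategory A => ∀ n : ℤ, P ((homologyFunctor A n).obj X))) := by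
  haveI := isLocalizedEquivalence_Φ F G adj
  haveI : ((Φ F).functor ⋙ DerivedCategory.Q).IsLocalization (W₃ F) :=
    LocalizerMorphism.IsLocalizedEquivalence.isLocalization (Φ F) DerivedCategory.Q
  haveI : (F.mapHomologicalComplex (ComplexShape.up ℤ) ⋙ DerivedCategory.Q).IsLocalization
    (W₃ F) := this
  haveI : (DerivedCategory.Q ⋙ F.mapDerivedCategory).IsLocalization (W₃ F) :=
    Functor.IsLocalization.of_iso _ F.mapDerivedCategoryFactors.symm
  exact Functor.IsLocalization.of_comp DerivedCategory.Q F.mapDerivedCategory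
    (HomologicalComplex.quasiIso A (ComplexShape.up ℤ)) _ (W₃ F) (hW₁₃ F) (trW_eq P F)

end Derived

end Groth.Agent.H23.SerreLoc
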