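import Mathlib

namespace Groth.Agent.H23.SqZero

/-- A ring endomorphism congruent to the identity modulo the extension of a square-zero ideal,
and linear over the base, is bijective. -/
theorem alg_bij {R B : Type*} [CommRing R] [CommRing B] (α : R →+* B) (J : Ideal R)
    (hJ : J * J = ⊥) (ψ : B →+* B) (h1 : ∀ r, ψ (α r) = α r)
    (h2 : ∀ b, ψ b - b ∈ J.map α) : Function.Bijective ψ := by
  have hN : J.map α * J.map α = ⊥ := by rw [← Ideal.map_mul, hJ, Ideal.map_bot]
  have hfix : ∀ n ∈ J.map α, ψ n = n := by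
    intro n hn
    refine Submodule.span_induction (p := fun n _ => ψ n = n) ?_ ?_ ?_ ?_ hn
    · rintro _ ⟨j, _, rfl⟩
      exact h1 j
    · simp
    · intro x y _ _ hx hy
      rw [map_add, hx, hy]
    · intro b x hx hψ
      rw [smul_eq_mul, map_mul, hψ]
      have h3 : (ψ b - b) * x ∈ J.map α * J.map α := Ideal.mul_mem_mul (h2 b) hx
      rw [hN, Ideal.mem_bot] at h3
      linear_combination h3
  constructor
  · intro a b hab
    have h0 : ψ (a - b) = 0 := by rw [map_sub, hab, sub_self]
    have hmem : a - b ∈ J.map α := by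
      have h3 := h2 (a - b)
      rw [h0, zero_sub] at h3
      exact neg_mem_iff.mp h3
    have h4 := hfix _ hmem
    rw [h0] at h4
    exact sub_eq_zero.mp h4.symm
  · intro b
    refine ⟨b - (ψ b - b), ?_⟩
    rw [map_sub, hfix _ (h2 b)]
    ring

end Groth.Agent.H23.SqZero
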