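import Mathlib.AlgebraicGeometry.Morphisms.Separated
import Mathlib.AlgebraicGeometry.Morphisms.Immersion

/-! Helper: a morphism out of a scheme with Hausdorff underlying space is separated. -/

open CategoryTheory CategoryTheory.Limits AlgebraicGeometry TopologicalSpace
open AlgebraicGeometry.Scheme AlgebraicGeometry.Scheme.Pullback

universe u

namespace Groth.Agent.H23

variable {X Y : Scheme.{u}} (f : X ⟶ Y)
variable (𝒰 : Y.OpenCover) (𝒱 : ∀ i, (pullback f (𝒰.f i)).OpenCover)

set_option backward.defeqAttrib.useBackward true in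
set_option backward.isDefEq.respectTransparency false in
lemma mem_diagonalCoverDiagonalRange_of_fst_eq_snd (x : ↥(pullback f f))
    (H : pullback.fst f f x = pullback.snd f f x) :
    x ∈ diagonalCoverDiagonalRange f 𝒰 𝒱 := by
  simp only [diagonalCoverDiagonalRange, openCoverOfBase_I₀, openCoverOfBase_X,
    openCoverOfLeftRight_I₀, Opens.iSup_mk, Opens.carrier_eq_coe, Hom.coe_opensRange, Opens.mem_mk,
    Set.mem_iUnion, Set.mem_range, Sigma.exists]
  let i := 𝒰.idx (f (pullback.fst f f x))
  obtain ⟨y : 𝒰.X i, hy : 𝒰.f i y = f _⟩ :=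
    𝒰.covers (f (pullback.fst f f x))
  obtain ⟨z, hz₁, hz₂⟩ := exists_preimage_pullback _ _ hy.symm
  let j := (𝒱 i).idx z
  obtain ⟨w : (𝒱 i).X j, hy : (𝒱 i).f j w = z⟩ := (𝒱 i).covers z
  refine ⟨i, j, ?_⟩
  simp_rw [diagonalCover_map]
  change x ∈ Set.range _
  simp only [diagonalCover, openCoverOfBase_I₀,
    Precoverage.ZeroHypercover.pullback₁_toPreZeroHypercover, PreZeroHypercover.pullback₁_X,
    Precoverage.ZeroHypercover.bind_toPreZeroHypercover, openCoverOfBase_X,
    PreZeroHypercover.bind_X, openCoverOfLeftRight_I₀, openCoverOfLeftRight_X]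
  rw [range_map]
  simp [← H, ← hz₁, ← hy]

theorem isSeparated_of_t2Space [T2Space X] : IsSeparated f := by
  refine ⟨?_⟩
  let 𝒰 := Y.affineCover
  let 𝒱 (i) := (pullback f (𝒰.f i)).affineCover
  set W := diagonalCoverDiagonalRange f 𝒰 𝒱 with hW
  let E : Set ↥(pullback f f) := {z | pullback.fst f f z = pullback.snd f f z}
  have hE : IsClosed E :=
    isClosed_eq (pullback.fst f f).continuous (pullback.snd f f).continuous
  have hEW : E ⊆ (W : Set ↥(pullback f f)) := fun z hz =>
    mem_diagonalCoverDiagonalRange_of_fst_eq_snd f 𝒰 𝒱 z hz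
  have hΔE : Set.range (pullback.diagonal f) ⊆ E := by
    rintro _ ⟨x, rfl⟩
    simp only [E, Set.mem_ofPred_eq, ← Scheme.Hom.comp_apply]
    simp
  have hcl := isClosedImmersion_diagonal_restrict_diagonalCoverDiagonalRange f 𝒰 𝒱
  have hr : IsClosed (Set.range (pullback.diagonal f ∣_ W)) :=
    (pullback.diagonal f ∣_ W).isClosedEmbedding.isClosed_range
  have hr' : Set.range (pullback.diagonal f ∣_ W) =
      Subtype.val ⁻¹' (Set.range (pullback.diagonal f)) := by
    ext ⟨z, hz⟩
    constructor
    · rintro ⟨y, hy⟩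
      refine ⟨y.1, ?_⟩
      have := congrArg Subtype.val hy
      rwa [morphismRestrict_base_coe] at this
    · rintro ⟨y, hy⟩
      have hy' : y ∈ pullback.diagonal f ⁻¹ᵁ W := by
        change (pullback.diagonal f) y ∈ W
        rw [hy]; exact hz
      exact ⟨⟨y, hy'⟩, Subtype.ext
        ((morphismRestrict_base_coe (pullback.diagonal f) W ⟨y, hy'⟩).trans hy)⟩
  rw [hr'] at hr
  apply IsClosedImmersion.of_isPreimmersion
  rw [← closure_subset_iff_isClosed]
  intro z hz
  have hzE : z ∈ E := hE.closure_subset_iff.mpr hΔE hz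
  have hzW : z ∈ W := hEW hzE
  have : (⟨z, hzW⟩ : W) ∈ closure (Subtype.val ⁻¹' (Set.range (pullback.diagonal f))) := by
    have himg : (Subtype.val : W → _) '' (Subtype.val ⁻¹' (Set.range (pullback.diagonal f))) =
        Set.range (pullback.diagonal f) := by
      ext a
      constructor
      · rintro ⟨b, hb, rfl⟩; exact hb
      · intro ha; exact ⟨⟨a, hEW (hΔE ha)⟩, ha, rfl⟩
    rw [closure_subtype, himg]
    exact hz
  exact hr.closure_subset this

end Groth.Agent.H23
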