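import Mathlib

/-!
Helper lemmas on `V ⊗ V` over `ZMod 2`: the spans `N_a` of squares `v ⊗ v` and `N_s` of
symmetrisations `x ⊗ y + y ⊗ x`.
-/

set_option autoImplicit false
open scoped TensorProduct
open TensorProduct

namespace Groth.Agent.H23.TensorSq

variable {V : Type*} [AddCommGroup V] [Module (ZMod 2) V]

theorem Ns_le_Na :
    Submodule.span (ZMod 2) (Set.range fun p : V × V => p.1 ⊗ₜ[ZMod 2] p.2 + p.2 ⊗ₜ[ZMod 2] p.1) ≤
      Submodule.span (ZMod 2) (Set.range fun v : V => v ⊗ₜ[ZMod 2] v) := by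
  refine Submodule.span_le.mpr ?_
  rintro _ ⟨⟨x, y⟩, rfl⟩
  have : x ⊗ₜ[ZMod 2] y + y ⊗ₜ[ZMod 2] x =
      (x + y) ⊗ₜ[ZMod 2] (x + y) - x ⊗ₜ[ZMod 2] x - y ⊗ₜ[ZMod 2] y := by
    rw [add_tmul, tmul_add, tmul_add]; abel
  show x ⊗ₜ[ZMod 2] y + y ⊗ₜ[ZMod 2] x ∈ _
  rw [this]
  exact sub_mem (sub_mem (Submodule.subset_span ⟨x + y, rfl⟩) (Submodule.subset_span ⟨x, rfl⟩))
    (Submodule.subset_span ⟨y, rfl⟩)

theorem symm_mem_of_span {ι : Type*} (b : ι → V)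
    (hb : Submodule.span (ZMod 2) (Set.range b) = ⊤)
    (P : Submodule (ZMod 2) (V ⊗[ZMod 2] V))
    (h : ∀ i j, b i ⊗ₜ[ZMod 2] b j + b j ⊗ₜ[ZMod 2] b i ∈ P) (x y : V) :
    x ⊗ₜ[ZMod 2] y + y ⊗ₜ[ZMod 2] x ∈ P := by
  have h2 : ∀ (x : V) (j : ι), x ⊗ₜ[ZMod 2] b j + b j ⊗ₜ[ZMod 2] x ∈ P := by
    intro x j
    have hx : x ∈ Submodule.span (ZMod 2) (Set.range b) := hb ▸ Submodule.mem_top
    induction hx using Submodule.span_induction with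
    | mem x hx => obtain ⟨i, rfl⟩ := hx; exact h i j
    | zero => simp
    | add x y _ _ hx hy =>
      have : (x + y) ⊗ₜ[ZMod 2] b j + b j ⊗ₜ[ZMod 2] (x + y) =
          (x ⊗ₜ[ZMod 2] b j + b j ⊗ₜ[ZMod 2] x) + (y ⊗ₜ[ZMod 2] b j + b j ⊗ₜ[ZMod 2] y) := by
        rw [add_tmul, tmul_add]; abel
      rw [this]; exact add_mem hx hy
    | smul c x _ hx =>
      have : (c • x) ⊗ₜ[ZMod 2] b j + b j ⊗ₜ[ZMod 2] (c • x) =
          c • (x ⊗ₜ[ZMod 2] b j + b j ⊗ₜ[ZMod 2] x) := by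
        rw [← smul_tmul', tmul_smul, smul_add]
      rw [this]; exact Submodule.smul_mem _ _ hx
  have hy : y ∈ Submodule.span (ZMod 2) (Set.range b) := hb ▸ Submodule.mem_top
  induction hy using Submodule.span_induction with
  | mem y hy => obtain ⟨j, rfl⟩ := hy; exact h2 x j
  | zero => simp
  | add y z _ _ hy hz =>
    have : x ⊗ₜ[ZMod 2] (y + z) + (y + z) ⊗ₜ[ZMod 2] x =
        (x ⊗ₜ[ZMod 2] y + y ⊗ₜ[ZMod 2] x) + (x ⊗ₜ[ZMod 2] z + z ⊗ₜ[ZMod 2] x) := by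
      rw [add_tmul, tmul_add]; abel
    rw [this]; exact add_mem hy hz
  | smul c y _ hy =>
    have : x ⊗ₜ[ZMod 2] (c • y) + (c • y) ⊗ₜ[ZMod 2] x =
        c • (x ⊗ₜ[ZMod 2] y + y ⊗ₜ[ZMod 2] x) := by
      rw [← smul_tmul', tmul_smul, smul_add]
    rw [this]; exact Submodule.smul_mem _ _ hy

theorem sq_mem_of_span {ι : Type*} (b : ι → V)
    (hb : Submodule.span (ZMod 2) (Set.range b) = ⊤)
    (P : Submodule (ZMod 2) (V ⊗[ZMod 2] V))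
    (h1 : ∀ x y : V, x ⊗ₜ[ZMod 2] y + y ⊗ₜ[ZMod 2] x ∈ P)
    (h2 : ∀ i, b i ⊗ₜ[ZMod 2] b i ∈ P) (v : V) : v ⊗ₜ[ZMod 2] v ∈ P := by
  have hv : v ∈ Submodule.span (ZMod 2) (Set.range b) := hb ▸ Submodule.mem_top
  induction hv using Submodule.span_induction with
  | mem v hv => obtain ⟨i, rfl⟩ := hv; exact h2 i
  | zero => simp
  | add x y _ _ hx hy =>
    have : (x + y) ⊗ₜ[ZMod 2] (x + y) =
        x ⊗ₜ[ZMod 2] x + y ⊗ₜ[ZMod 2] y + (x ⊗ₜ[ZMod 2] y + y ⊗ₜ[ZMod 2] x) := by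
      rw [add_tmul, tmul_add, tmul_add]; abel
    rw [this]; exact add_mem (add_mem hx hy) (h1 x y)
  | smul c x _ hx =>
    have : (c • x) ⊗ₜ[ZMod 2] (c • x) = (c * c) • (x ⊗ₜ[ZMod 2] x) := by
      rw [← smul_tmul', tmul_smul, smul_smul]
    rw [this]; exact Submodule.smul_mem _ _ hx

theorem rep_injective {G : Type*} [Group G] (ρ : Representation (ZMod 2) G V) (g : G) :
    Function.Injective (ρ g) := by
  refine Function.LeftInverse.injective (g := ρ g⁻¹) (fun x => ?_)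
  rw [← Module.End.mul_apply, ← map_mul, inv_mul_cancel, map_one, Module.End.one_apply]

end Groth.Agent.H23.TensorSq
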